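import Cfsg.Agent.Lib.ExtraThree.Setup
import Cfsg.Agent.Lib.Char.DegreeCenter
import Mathlib.LinearAlgebra.Dimension.StrongRankCondition

/-!
The principal block of a centraliser of the centre: the six characters trivial on the centre, the
faithful characters, and the small vectors vanishing on the regular elements.
-/

set_option autoImplicit false
set_option linter.unusedSectionVars false
set_option linter.style.haveILetI false
set_option maxHeartbeats 1000000

namespace Cfsg.Agent.ExtraThree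

open Cfsg Cfsg.Agent.Char Cfsg.Agent.Blocks Cfsg.Agent.SmithTyrer
open scoped ComplexConjugate

universe u

section Vec

variable {X : Type*} [DecidableEq X] {S : Finset X}

/-- A multiple of a unit vector. -/
def pt (a : X) (s : ℤ) : X → ℤ := fun x => if x = a then s else 0

theorem ip_pt {a : X} (ha : a ∈ S) (f : X → ℤ) (s : ℤ) : ip S f (pt a s) = f a * s := by
  unfold ip pt
  simp [ha]

theorem pt_self (a : X) (s : ℤ) : pt a s a = s := by simp [pt]

theorem pt_ne {a x : X} (h : x ≠ a) (s : ℤ) : pt a s x = 0 := by simp [pt, h]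

theorem ip_add (f g h : X → ℤ) : ip S f (g + h) = ip S f g + ip S f h := by
  unfold ip
  simp only [Pi.add_apply, mul_add, Finset.sum_add_distrib]

theorem ip_sub (f g h : X → ℤ) : ip S f (g - h) = ip S f g - ip S f h := by
  unfold ip
  simp only [Pi.sub_apply, mul_sub, Finset.sum_sub_distrib]

theorem ip_smul (f g : X → ℤ) (k : ℤ) : ip S f (k • g) = k * ip S f g := by
  unfold ip
  rw [Finset.mul_sum]
  exact Finset.sum_congr rfl fun x _ => by simp; ring

theorem ip_sum {ι : Type*} (J : Finset ι) (f : X → ℤ) (g : ι → X → ℤ) :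
    ip S f (∑ j ∈ J, g j) = ∑ j ∈ J, ip S f (g j) := by
  unfold ip
  simp only [Finset.sum_apply, Finset.mul_sum]
  exact Finset.sum_comm

theorem sum_pt_smul {V : Type*} [AddCommGroup V] [Module ℂ V] {a : X} (ha : a ∈ S) (s : ℤ)
    (g : X → V) : ∑ x ∈ S, (pt a s x : ℂ) • g x = (s : ℂ) • g a := by
  rw [Finset.sum_eq_single a (fun x _ hx => by rw [pt_ne hx, Int.cast_zero, zero_smul])
    (fun h => absurd ha h), pt_self]

end Vec

variable {G : Type u} [Group G] [Fintype G] {z : G} {r : ℕ} {u : Fin r → G} {M : Ideal AlgInt}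
  [M.IsPrime]

open scoped Classical in
/-- The principal block as a finite set. -/
noncomputable def pB (M : Ideal AlgInt) [M.IsPrime] (G : Type u) [Group G] [Fintype G] :
    Finset (IrrCharacter G) := Finset.univ.filter (· ∈ principalBlock M G)

theorem mem_pB {χ : IrrCharacter G} : χ ∈ pB M G ↔ χ ∈ principalBlock M G := by
  classical
  simp [pB]

theorem pB_eq [DecidablePred (· ∈ principalBlock M G)] :
    Finset.univ.filter (· ∈ principalBlock M G) = pB M G := by
  classical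
  ext χ
  simp [pB]

theorem pair_eq_sum (g h : G) : blockPair (principalBlock M G) g h =
    ∑ χ ∈ pB M G, (χ : G → ℂ) g * conj ((χ : G → ℂ) h) := by
  unfold blockPair
  exact Finset.sum_congr (by ext χ; simp [mem_pB]) fun _ _ => rfl

open scoped Classical in
/-- The members of the principal block with a given value at the centre. -/
noncomputable def typ (M : Ideal AlgInt) [M.IsPrime] (z : G) (w : ℂ) : Finset (IrrCharacter G) :=
  (pB M G).filter fun χ => (χ : G → ℂ) z = w * (χ : G → ℂ) 1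

theorem mem_typ {w : ℂ} {χ : IrrCharacter G} :
    χ ∈ typ M z w ↔ χ ∈ pB M G ∧ (χ : G → ℂ) z = w * (χ : G → ℂ) 1 := by
  classical
  simp [typ]

open scoped Classical in
/-- The regular elements. -/
noncomputable def regG (G : Type u) [Group G] [Fintype G] : Finset G :=
  Finset.univ.filter fun g => ¬ 3 ∣ orderOf g

theorem mem_regG {g : G} : g ∈ regG G ↔ ¬ 3 ∣ orderOf g := by
  classical
  simp [regG]

/-- Three times the scalar product on the regular elements. -/
noncomputable def R0 (f g : G → ℂ) : ℂ := 3 * (Nat.card G : ℂ)⁻¹ * ∑ s ∈ regG G, f s * conj (g s)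

theorem R0_add_left (f f' g : G → ℂ) : R0 (f + f') g = R0 f g + R0 f' g := by
  simp only [R0, Pi.add_apply, add_mul, Finset.sum_add_distrib, mul_add]

theorem R0_sum_left {ι : Type*} (J : Finset ι) (c : ι → ℂ) (f : ι → G → ℂ) (g : G → ℂ) :
    R0 (∑ j ∈ J, c j • f j) g = ∑ j ∈ J, c j * R0 (f j) g := by
  simp only [R0, Finset.sum_apply, Pi.smul_apply, smul_eq_mul, Finset.sum_mul, Finset.mul_sum]
  rw [Finset.sum_comm]
  exact Finset.sum_congr rfl fun j _ => Finset.sum_congr rfl fun s _ => by ring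

theorem R0_conj (f g : G → ℂ) : conj (R0 f g) = R0 g f := by
  simp only [R0, map_mul, map_inv₀, map_natCast, map_sum, Complex.conj_conj, map_ofNat]
  congr 1
  exact Finset.sum_congr rfl fun s _ => mul_comm _ _

namespace Setup

variable (hS : Setup z u) (hcen : ∀ g, Commute z g)
include hS hcen

theorem z_center : z ∈ Subgroup.center G := Subgroup.mem_center_iff.2 fun g => (hcen g).eq.symm

theorem z_scalar (χ : IrrCharacter G) : ∃ w : ℂ, w ^ 3 = 1 ∧ ∀ g, (χ : G → ℂ) (z * g) = w * (χ : G → ℂ) g := by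
  obtain ⟨c, -, hc, -⟩ := IsIrrCharacter.exists_central_scalar χ.2 (hS.z_center hcen)
  refine ⟨c, ?_, hc⟩
  have h : (χ : G → ℂ) (z * (z * (z * 1))) = c ^ 3 * (χ : G → ℂ) 1 := by rw [hc, hc, hc]; ring
  have h3 : z * (z * (z * 1)) = 1 := by
    rw [mul_one, ← mul_assoc, ← pow_three', ← hS.zord, pow_orderOf_eq_one]
  rw [h3] at h
  exact mul_right_cancel₀ (irr_one_ne_zero χ) (by linear_combination -h)

theorem typ_mul {w : ℂ} {χ : IrrCharacter G} (h : χ ∈ typ M z w) (g : G) :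
    (χ : G → ℂ) (z * g) = w * (χ : G → ℂ) g := by
  obtain ⟨c, -, hc⟩ := hS.z_scalar hcen χ
  have h1 := hc 1
  rw [mul_one, (mem_typ.1 h).2] at h1
  rw [hc g, mul_right_cancel₀ (irr_one_ne_zero χ) h1]

theorem typ_mul_inv {w : ℂ} (hw : w ^ 3 = 1) {χ : IrrCharacter G} (h : χ ∈ typ M z w) (g : G) :
    (χ : G → ℂ) (z⁻¹ * g) = w ^ 2 * (χ : G → ℂ) g := by
  have h1 := hS.typ_mul hcen h (z⁻¹ * g)
  rw [mul_inv_cancel_left] at h1
  rw [h1]; linear_combination -((χ : G → ℂ) (z⁻¹ * g)) * hw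

theorem conj_root {w : ℂ} (hw : w ^ 3 = 1) : conj w = w ^ 2 := by
  have hn : Complex.normSq w = 1 := by
    rw [Complex.normSq_eq_norm_sq, norm_eq_one_of_pow (by norm_num : (3 : ℕ) ≠ 0) hw]; norm_num
  have h1 : w * conj w = 1 := by rw [Complex.mul_conj, hn]; simp
  linear_combination (w ^ 2) * h1 - (conj w) * hw

theorem col_zero {w : ℂ} (hw1 : w ≠ 1) {χ : IrrCharacter G} (h : χ ∈ typ M z w) (i : Fin r) :
    col u i χ = 0 := by
  obtain ⟨c, hc⟩ := isConj_iff.1 (hS.uz i)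
  have h1 := hS.typ_mul hcen h (u i)
  rw [← hc, irr_conj_invariant, ← hS.col_spec i χ] at h1
  by_contra hne
  exact hw1 (mul_right_cancel₀ (Int.cast_ne_zero.2 hne) (by rw [← h1, one_mul]))

theorem sum_sec_central {y : G} (hy : ∃ k, orderOf y = 3 ^ k) (hyc : ∀ g, Commute y g) (F : G → ℂ)
    [DecidablePred fun g : G => ∃ a, IsPPart 3 g a ∧ IsConj y a] :
    ∑ g ∈ Finset.univ.filter (fun g : G => ∃ a, IsPPart 3 g a ∧ IsConj y a), F g =
      ∑ s ∈ regG G, F (y * s) := by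
  classical
  have key : ∀ g a, IsPPart 3 g a → IsConj y a → a = y := fun g a _ h => by
    obtain ⟨c, rfl⟩ := isConj_iff.1 h
    rw [← (hyc c).eq, mul_inv_cancel_right]
  refine Finset.sum_bij' (fun g _ => y⁻¹ * g) (fun s _ => y * s) (fun g hg => ?_) (fun s hs => ?_)
    (fun g _ => mul_inv_cancel_left y g) (fun s _ => inv_mul_cancel_left y s) (fun g _ => ?_)
  · obtain ⟨a, ha, hc⟩ := (Finset.mem_filter.1 hg).2
    have hay := key g a ha hc
    obtain ⟨s, hs, -, -, hodd⟩ := ha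
    rw [mem_regG, ← hs, hay, inv_mul_cancel_left]
    exact hodd
  · exact Finset.mem_filter.2 ⟨Finset.mem_univ _, y, ⟨s, rfl, hyc s, hy, mem_regG.1 hs⟩, IsConj.refl y⟩
  · rw [mul_inv_cancel_left]

variable (hM : IsPModular 3 M)
include hM

theorem value_split (F : G → ℂ) (c : Fin r → ℂ)
    (hF : ∀ i g, (∃ a, IsPPart 3 g a ∧ IsConj (u i) a) → F g = c i) :
    ∑ g : G, F g = ∑ s ∈ regG G, (F s + F (z * s) + F (z⁻¹ * s)) +
      (Nat.card G : ℂ) / 9 * ∑ i, c i := by
  classical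
  rw [hS.sum_kinds F, hS.sum_sec_central hcen hS.zElt hcen F,
    hS.sum_sec_central hcen hS.zElt' (fun g => (hcen g).inv_left) F,
    Finset.sum_congr rfl fun i _ => hS.sum_sec_u i F (c i) (hF i), ← Finset.mul_sum,
    Finset.sum_add_distrib, Finset.sum_add_distrib]
  rfl

theorem inner_typ {w : ℂ} (hw : w ^ 3 = 1) {θ θ' : IrrCharacter G} (h : θ ∈ typ M z w)
    (h' : θ' ∈ typ M z w) :
    classInner (θ : G → ℂ) (θ' : G → ℂ) =
      R0 (θ : G → ℂ) (θ' : G → ℂ) + (9 : ℂ)⁻¹ * ∑ i, (col u i θ : ℂ) * (col u i θ' : ℂ) := by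
  classical
  have hB := mem_pB.1 (mem_typ.1 h).1
  have hB' := mem_pB.1 (mem_typ.1 h').1
  rw [classInner, hS.value_split hcen hM _ (fun i => (col u i θ : ℂ) * (col u i θ' : ℂ))
    (fun i g hg => by
      obtain ⟨a, ha, hc⟩ := hg
      rw [hS.value_sec hM hB i ha hc, hS.value_sec hM hB' i ha hc, ← hS.col_spec i θ,
        ← hS.col_spec i θ', map_intCast])]
  have hG : (Nat.card G : ℂ) ≠ 0 := Nat.cast_ne_zero.2 Nat.card_pos.ne'
  rw [mul_add]
  congr 1
  · rw [R0, mul_comm 3 _, mul_assoc, Finset.mul_sum (a := (3 : ℂ))]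
    congr 1
    refine Finset.sum_congr rfl fun s _ => ?_
    rw [hS.typ_mul hcen h, hS.typ_mul hcen h', hS.typ_mul_inv hcen hw h,
      hS.typ_mul_inv hcen hw h', map_mul, map_mul, map_pow, hS.conj_root hcen hw]
    linear_combination ((θ : G → ℂ) s * conj ((θ' : G → ℂ) s)) * (1 + (w ^ 3 + 1)) * hw
  · field_simp

/-- The kernels on the regular elements of the three kinds agree. -/
theorem kernel_eq {w : ℂ} (hw : IsPrimitiveRoot w 3) {s t : G} (hs : ¬ 3 ∣ orderOf s)
    (ht : ¬ 3 ∣ orderOf t) :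
    ∑ θ ∈ typ M z 1, (θ : G → ℂ) s * conj ((θ : G → ℂ) t) =
      ∑ θ ∈ typ M z w, (θ : G → ℂ) s * conj ((θ : G → ℂ) t) := by
  classical
  have hw3 : w ^ 3 = 1 := hw.pow_eq_one
  have hw1 : w ≠ 1 := hw.ne_one (by norm_num)
  have hsum : 1 + w + w ^ 2 = 0 := by
    have := hw.geom_sum_eq_zero (by norm_num)
    simpa [Finset.sum_range_succ] using this
  have hsplit : ∀ F : IrrCharacter G → ℂ, ∑ θ ∈ pB M G, F θ =
      ∑ θ ∈ typ M z 1, F θ + ∑ θ ∈ typ M z w, F θ + ∑ θ ∈ typ M z (w ^ 2), F θ := by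
    intro F
    simp only [typ, Finset.sum_filter, ← Finset.sum_add_distrib]
    refine Finset.sum_congr rfl fun θ _ => ?_
    obtain ⟨c, hc3, hc⟩ := hS.z_scalar hcen θ
    have hz1 := hc 1
    rw [mul_one] at hz1
    have hiff : ∀ v, (θ : G → ℂ) z = v * (θ : G → ℂ) 1 ↔ c = v := fun v => by
      rw [hz1]; exact ⟨mul_right_cancel₀ (irr_one_ne_zero θ), fun e => by rw [e]⟩
    simp only [hiff]
    obtain ⟨i, hi, rfl⟩ := hw.eq_pow_of_pow_eq_one hc3
    have h21 : w ^ 2 ≠ 1 := hw.pow_ne_one_of_pos_of_lt (by norm_num) (by norm_num)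
    have h2w : w ^ 2 ≠ w := fun e => hw1 (mul_right_cancel₀ (hw.ne_zero (by norm_num))
      (by linear_combination e))
    interval_cases i <;> simp [hw1, Ne.symm hw1, h21, Ne.symm h21, h2w, Ne.symm h2w]
  have hsing : ∀ y : G, (∃ k, orderOf y = 3 ^ k) → (∀ g, Commute y g) → y ≠ 1 →
      ∑ θ ∈ pB M G, (θ : G → ℂ) (y * s) * conj ((θ : G → ℂ) t) = 0 := by
    intro y hy hyc hy1
    rw [← pair_eq_sum]
    exact blockPair_eq_zero_of_pPart hM (isPBlock_principalBlock M G)
      ⟨s, rfl, hyc s, hy, hs⟩ ((isPPart_one_iff Nat.prime_three).2 ht)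
      fun e => hy1 (isConj_one_left.1 e)
  have e1 := hsing z hS.zElt hcen hS.z_ne_one
  have e2 := hsing z⁻¹ hS.zElt' (fun g => (hcen g).inv_left) (inv_ne_one.2 hS.z_ne_one)
  have hw2 : (w ^ 2) ^ 3 = 1 := by rw [← pow_mul, show 2 * 3 = 3 * 2 by norm_num, pow_mul, hw3, one_pow]
  rw [hsplit, Finset.sum_congr rfl (fun θ hθ => by rw [hS.typ_mul hcen hθ, one_mul]),
    Finset.sum_congr (s₁ := typ M z w) rfl (fun θ hθ => by rw [hS.typ_mul hcen hθ, mul_assoc]),
    Finset.sum_congr (s₁ := typ M z (w ^ 2)) rfl (fun θ hθ => by rw [hS.typ_mul hcen hθ, mul_assoc]),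
    ← Finset.mul_sum, ← Finset.mul_sum] at e1
  rw [hsplit, Finset.sum_congr rfl (fun θ hθ => by rw [hS.typ_mul_inv hcen (one_pow 3) hθ, one_pow, one_mul]),
    Finset.sum_congr (s₁ := typ M z w) rfl (fun θ hθ => by rw [hS.typ_mul_inv hcen hw3 hθ, mul_assoc]),
    Finset.sum_congr (s₁ := typ M z (w ^ 2)) rfl (fun θ hθ => by rw [hS.typ_mul_inv hcen hw2 hθ, mul_assoc]),
    ← Finset.mul_sum, ← Finset.mul_sum] at e2
  generalize ∑ θ ∈ typ M z 1, (θ : G → ℂ) s * conj ((θ : G → ℂ) t) = K1 at e1 e2 ⊢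
  generalize ∑ θ ∈ typ M z w, (θ : G → ℂ) s * conj ((θ : G → ℂ) t) = Kw at e1 e2 ⊢
  generalize ∑ θ ∈ typ M z (w ^ 2), (θ : G → ℂ) s * conj ((θ : G → ℂ) t) = K2 at e1 e2 ⊢
  have hne : w - w ^ 2 ≠ 0 := by
    intro e
    exact hw1 (mul_right_cancel₀ (hw.ne_zero (by norm_num)) (by linear_combination -e))
  have h12 : Kw = K2 := by
    refine mul_left_cancel₀ hne ?_
    linear_combination e1 - e2 + (w * K2) * hw3
  subst h12
  linear_combination e1 - Kw * hsum

/-- The regular part is reproduced by the characters of one faithful kind. -/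
theorem reproduce {w : ℂ} (hw : IsPrimitiveRoot w 3) (f : G → ℂ) {s : G} (hs : ¬ 3 ∣ orderOf s) :
    ∑ θ ∈ typ M z 1, R0 f (θ : G → ℂ) * (θ : G → ℂ) s =
      ∑ θ ∈ typ M z w, R0 f (θ : G → ℂ) * (θ : G → ℂ) s := by
  simp only [R0, Finset.mul_sum, Finset.sum_mul]
  rw [Finset.sum_comm, Finset.sum_comm (s := typ M z w)]
  refine Finset.sum_congr rfl fun t ht => ?_
  have h := hS.kernel_eq hcen hM hw hs (mem_regG.1 ht)
  calc _ = 3 * (Nat.card G : ℂ)⁻¹ * f t *
        ∑ θ ∈ typ M z 1, (θ : G → ℂ) s * conj ((θ : G → ℂ) t) := by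
        rw [Finset.mul_sum]; exact Finset.sum_congr rfl fun θ _ => by ring
    _ = _ := by rw [h, Finset.mul_sum]; exact Finset.sum_congr rfl fun θ _ => by ring

open scoped Classical in
theorem R0_typ {w : ℂ} (hw : w ^ 3 = 1) (hw1 : w ≠ 1) {θ θ' : IrrCharacter G}
    (h : θ ∈ typ M z w) (h' : θ' ∈ typ M z w) :
    R0 (θ : G → ℂ) (θ' : G → ℂ) = if θ = θ' then 1 else 0 := by
  have h1 := hS.inner_typ hcen hM hw h h'
  rw [Finset.sum_eq_zero (fun i _ => by rw [hS.col_zero hcen hw1 h i, Int.cast_zero, zero_mul]),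
    mul_zero, add_zero] at h1
  rw [← h1]
  split_ifs with e
  · rw [e, classInner_self_irr θ'.2]
  · rw [classInner_irr_of_ne θ.2 θ'.2 fun he => e (Subtype.ext he)]

theorem typ_one_R0 {θ θ' : IrrCharacter G} (h : θ ∈ typ M z 1) (h' : θ' ∈ typ M z 1)
    [Decidable (θ = θ')] :
    R0 (θ : G → ℂ) (θ' : G → ℂ) =
      (if θ = θ' then 1 else 0) - (9 : ℂ)⁻¹ * ∑ i, (col u i θ : ℂ) * (col u i θ' : ℂ) := by
  have h1 := hS.inner_typ hcen hM (one_pow 3) h h'
  rw [eq_sub_iff_add_eq, ← h1]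
  split_ifs with e
  · rw [e, classInner_self_irr θ'.2]
  · rw [classInner_irr_of_ne θ.2 θ'.2 fun he => e (Subtype.ext he)]

theorem principal_typ : Char.principal G ∈ typ M z 1 :=
  mem_typ.2 ⟨mem_pB.2 principal_mem_principalBlock, by simp [Char.principal]⟩

theorem typ_of_col {χ : IrrCharacter G} (hχ : χ ∈ pB M G) {i : Fin r} (h : col u i χ ≠ 0) :
    χ ∈ typ M z 1 := by
  obtain ⟨c, -, hc⟩ := hS.z_scalar hcen χ
  have h1 := hc 1
  rw [mul_one] at h1
  have hm : χ ∈ typ M z c := mem_typ.2 ⟨hχ, h1⟩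
  by_cases hc1 : c = 1
  · rwa [← hc1]
  · exact absurd (hS.col_zero hcen hc1 hm i) h

theorem col_of_typ [NeZero r] {χ : IrrCharacter G} (hχ : χ ∈ typ M z 1) : ∃ i, col u i χ ≠ 0 := by
  classical
  by_contra hne
  push Not at hne
  by_cases e : χ = Char.principal G
  · have := hne 0
    rw [e, hS.col_principal] at this
    exact one_ne_zero this
  · have h1 := hS.typ_one_R0 hcen hM hχ (hS.principal_typ hcen hM)
    rw [if_neg e, Finset.sum_eq_zero (fun i _ => by rw [hne i, Int.cast_zero, zero_mul]), mul_zero,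
      sub_zero, R0] at h1
    refine regular_ne_zero hM (mem_pB.1 (mem_typ.1 hχ).1) ?_
    have hG : (Nat.card G : ℂ) ≠ 0 := Nat.cast_ne_zero.2 Nat.card_pos.ne'
    rcases mul_eq_zero.1 h1 with h2 | h2
    · exact absurd h2 (mul_ne_zero (by norm_num) (inv_ne_zero hG))
    · rw [← h2]
      refine Finset.sum_congr (by ext; simp [mem_regG]) fun g _ => ?_
      simp [Char.principal]

/-- The small vectors have integral coordinates. -/
theorem R0_int (c : IrrCharacter G → ℤ) (hc : ∀ i, ip (typ M z 1) (col u i) c = 0)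
    (ξ : IrrCharacter G) :
    ∃ n : ℤ, R0 (∑ a ∈ typ M z 1, (c a : ℂ) • (a : G → ℂ)) (ξ : G → ℂ) = n := by
  classical
  haveI : Fact (Nat.Prime 3) := ⟨Nat.prime_three⟩
  set f := ∑ a ∈ typ M z 1, (c a : ℂ) • (a : G → ℂ) with hf
  set ζ : G → ℂ := fun g => (ξ : G → ℂ) (g * (pp 3 g)⁻¹) with hζ
  have hζg : IsGeneralizedCharacter G ζ := by
    refine isGeneralizedCharacter_of_elementary (fun g h => ?_) fun E l hl hE => ?_
    · simp only [hζ, pp_conj]
      rw [show h * g * h⁻¹ * (h * pp 3 g * h⁻¹)⁻¹ = h * (g * (pp 3 g)⁻¹) * h⁻¹ by group,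
        irr_conj_invariant]
    obtain ⟨π, hπ, hcomm⟩ := exists_pp_hom (p := 3) hl E hE
    let ψ : E →* G := MonoidHom.mk' (fun e => (e : G) * (π e)⁻¹) fun a b => by
      show (a : G) * b * (π (a * b))⁻¹ = (a : G) * (π a)⁻¹ * ((b : G) * (π b)⁻¹)
      have hh : Commute (π a) ((b : G) * (π b)⁻¹) := by rw [hπ, hπ]; exact hcomm a b
      rw [map_mul, mul_inv_rev, mul_assoc (a : G) ((π a)⁻¹), hh.inv_left.eq]
      group
    have e : (fun e : E => ζ e) = fun e => (ξ : G → ℂ) (ψ e) :=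
      funext fun e => by simp [hζ, ψ, hπ]
    rw [e]
    exact IsGeneralizedCharacter.comp (IsGeneralizedCharacter.of_isCharacter (irr_isCharacter ξ)) ψ
  have hfg : IsGeneralizedCharacter G f := isGeneralizedCharacter_sum _ fun a _ =>
    IsGeneralizedCharacter.int_smul (IsGeneralizedCharacter.of_isCharacter (irr_isCharacter a)) _
  obtain ⟨n, hn⟩ := IsGeneralizedCharacter.exists_classInner_int hfg hζg
  refine ⟨n, ?_⟩
  rw [← hn, classInner, hS.value_split hcen hM (fun g => f g * conj (ζ g)) (fun _ => 0) (fun i g hg => by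
    obtain ⟨a, ha, hca⟩ := hg
    have h0 : f g = 0 := by
      simp only [hf, Finset.sum_apply, Pi.smul_apply, smul_eq_mul]
      rw [Finset.sum_congr rfl fun b hb => by
        rw [hS.value_sec hM (mem_pB.1 (mem_typ.1 hb).1) i ha hca, ← hS.col_spec i b]]
      have := congrArg (fun n : ℤ => (n : ℂ)) (hc i)
      simp only [ip, Int.cast_sum, Int.cast_mul, Int.cast_zero] at this
      rw [← this]
      exact Finset.sum_congr rfl fun b _ => mul_comm _ _
    rw [h0, zero_mul])]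
  simp only [Finset.sum_const_zero, mul_zero, add_zero]
  rw [R0, mul_comm 3 _, mul_assoc, Finset.mul_sum (a := (3 : ℂ))]
  congr 1
  refine Finset.sum_congr rfl fun s hs => ?_
  have hs' := mem_regG.1 hs
  have h1 : ζ s = (ξ : G → ℂ) s := by simp [hζ, (pp_eq_one_iff s).2 hs']
  have h2 : ∀ y : G, (∃ k, orderOf y = 3 ^ k) → Commute y s → ζ (y * s) = (ξ : G → ℂ) s := by
    intro y hy hys
    simp only [hζ, pp_mul hy hys hs']
    rw [show y * s * y⁻¹ = s by rw [hys.eq, mul_inv_cancel_right]]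
  have h3 : f (z * s) = f s ∧ f (z⁻¹ * s) = f s := by
    simp only [hf, Finset.sum_apply, Pi.smul_apply, smul_eq_mul]
    constructor <;> refine Finset.sum_congr rfl fun a ha => ?_
    · rw [hS.typ_mul hcen ha, one_mul]
    · rw [hS.typ_mul_inv hcen (one_pow 3) ha, one_pow, one_mul]
  simp only [h1, h2 z hS.zElt (hcen s), h2 z⁻¹ hS.zElt' (hcen s).inv_left, h3.1, h3.2]
  ring

/-- The coordinates of a small vector against the faithful characters of one kind. -/
theorem coords {w : ℂ} (hw : IsPrimitiveRoot w 3) (c : IrrCharacter G → ℤ)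
    (hc : ∀ i, ip (typ M z 1) (col u i) c = 0) :
    ∃ d : IrrCharacter G → ℤ,
      (∀ s, ¬ 3 ∣ orderOf s → ∑ a ∈ typ M z 1, (c a : ℂ) * (a : G → ℂ) s =
        ∑ ξ ∈ typ M z w, (d ξ : ℂ) * (ξ : G → ℂ) s) ∧
      (∀ ξ : IrrCharacter G, R0 (∑ a ∈ typ M z 1, (c a : ℂ) • (a : G → ℂ)) (ξ : G → ℂ) = d ξ) := by
  classical
  choose d hd using hS.R0_int hcen hM c hc
  refine ⟨d, fun s hs => ?_, hd⟩
  have h := hS.reproduce hcen hM hw (∑ a ∈ typ M z 1, (c a : ℂ) • (a : G → ℂ)) hs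
  rw [Finset.sum_congr rfl fun ξ (_ : ξ ∈ typ M z w) => by rw [hd ξ]] at h
  rw [← h]
  refine Finset.sum_congr rfl fun a ha => ?_
  congr 1
  rw [R0_sum_left, Finset.sum_congr rfl fun b hb => by rw [hS.typ_one_R0 hcen hM hb ha],
    Finset.sum_congr rfl fun b _ => mul_sub _ _ _, Finset.sum_sub_distrib]
  simp only [mul_ite, mul_one, mul_zero, Finset.sum_ite_eq', ha, if_true]
  rw [eq_comm, sub_eq_self]
  simp only [Finset.mul_sum]
  rw [Finset.sum_comm]
  refine Finset.sum_eq_zero fun i _ => ?_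
  have := congrArg (fun n : ℤ => (n : ℂ)) (hc i)
  simp only [ip, Int.cast_sum, Int.cast_mul, Int.cast_zero] at this
  rw [Finset.sum_congr rfl (g := fun b => (col u i b : ℂ) * (c b : ℂ) * ((9 : ℂ)⁻¹ * (col u i a : ℂ)))
    fun b _ => by ring, ← Finset.sum_mul, this, zero_mul]

/-- The coordinates preserve the scalar product. -/
theorem coords_ip {w : ℂ} (hw : IsPrimitiveRoot w 3) {c c' d d' : IrrCharacter G → ℤ}
    (hc' : ∀ i, ip (typ M z 1) (col u i) c' = 0)
    (hd : ∀ ξ : IrrCharacter G, R0 (∑ a ∈ typ M z 1, (c a : ℂ) • (a : G → ℂ)) (ξ : G → ℂ) = d ξ)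
    (hd' : ∀ s, ¬ 3 ∣ orderOf s → ∑ a ∈ typ M z 1, (c' a : ℂ) * (a : G → ℂ) s =
        ∑ ξ ∈ typ M z w, (d' ξ : ℂ) * (ξ : G → ℂ) s) :
    ip (typ M z w) d d' = ip (typ M z 1) c c' := by
  classical
  refine Int.cast_injective (α := ℂ) ?_
  set f := ∑ a ∈ typ M z 1, (c a : ℂ) • (a : G → ℂ)
  set f' := ∑ a ∈ typ M z 1, (c' a : ℂ) • (a : G → ℂ) with hf'
  have h1 : R0 f f' = ((ip (typ M z w) d d' : ℤ) : ℂ) := by
    have h2 : R0 f f' = R0 f (∑ ξ ∈ typ M z w, (d' ξ : ℂ) • (ξ : G → ℂ)) := by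
      unfold R0
      congr 1
      refine Finset.sum_congr rfl fun s hs => ?_
      congr 2
      simp only [hf', Finset.sum_apply, Pi.smul_apply, smul_eq_mul]
      exact hd' s (mem_regG.1 hs)
    rw [h2, ← R0_conj, R0_sum_left, map_sum]
    simp only [map_mul, map_intCast, R0_conj, hd]
    simp only [ip, Int.cast_sum, Int.cast_mul]
    exact Finset.sum_congr rfl fun ξ _ => mul_comm _ _
  rw [← h1, R0_sum_left]
  simp only [ip, Int.cast_sum, Int.cast_mul]
  refine Finset.sum_congr rfl fun a ha => ?_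
  congr 1
  rw [hf', ← R0_conj, R0_sum_left, map_sum]
  simp only [map_mul, map_intCast, R0_conj]
  rw [Finset.sum_congr rfl fun b hb => by rw [hS.typ_one_R0 hcen hM ha hb],
    Finset.sum_congr rfl fun b _ => mul_sub _ _ _, Finset.sum_sub_distrib]
  simp only [mul_ite, mul_one, mul_zero, Finset.sum_ite_eq, ha, if_true]
  rw [sub_eq_self]
  simp only [Finset.mul_sum]
  rw [Finset.sum_comm]
  refine Finset.sum_eq_zero fun i _ => ?_
  have := congrArg (fun n : ℤ => (n : ℂ)) (hc' i)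
  simp only [ip, Int.cast_sum, Int.cast_mul, Int.cast_zero] at this
  rw [Finset.sum_congr rfl (g := fun b => (col u i b : ℂ) * (c' b : ℂ) * ((9 : ℂ)⁻¹ * (col u i a : ℂ)))
    fun b _ => by ring, ← Finset.sum_mul, this, zero_mul]

/-- The number of faithful characters of one kind is at most the size of a spanning family. -/
theorem card_typ_le {w : ℂ} (hw : IsPrimitiveRoot w 3) {ι : Type*} [Fintype ι]
    (g : ι → ({s : G // ¬ 3 ∣ orderOf s} → ℂ))
    (hspan : ∀ a ∈ typ M z 1, (fun s : {s : G // ¬ 3 ∣ orderOf s} => (a : G → ℂ) s) ∈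
      Submodule.span ℂ (Set.range g)) : (typ M z w).card ≤ Fintype.card ι := by
  classical
  let v : typ M z w → ({s : G // ¬ 3 ∣ orderOf s} → ℂ) := fun ξ s => (ξ.1 : G → ℂ) s
  have hli : LinearIndependent ℂ v := by
    rw [Fintype.linearIndependent_iff]
    intro γ hγ ξ₀
    have h : R0 (∑ ξ : typ M z w, γ ξ • (ξ.1 : G → ℂ)) (ξ₀.1 : G → ℂ) = γ ξ₀ := by
      rw [R0_sum_left, Finset.sum_eq_single ξ₀]
      · rw [hS.R0_typ hcen hM hw.pow_eq_one (hw.ne_one (by norm_num)) ξ₀.2 ξ₀.2, if_pos rfl, mul_one]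
      · intro ξ _ hne
        rw [hS.R0_typ hcen hM hw.pow_eq_one (hw.ne_one (by norm_num)) ξ.2 ξ₀.2,
          if_neg fun e => hne (Subtype.ext e), mul_zero]
      · exact fun h => absurd (Finset.mem_univ _) h
    rw [← h, R0, Finset.sum_eq_zero, mul_zero]
    intro s hs
    have := congrFun hγ ⟨s, mem_regG.1 hs⟩
    simp only [Finset.sum_apply, Pi.smul_apply, smul_eq_mul, Pi.zero_apply, v] at this ⊢
    rw [this, zero_mul]
  have hsub : Submodule.span ℂ (Set.range v) ≤ Submodule.span ℂ (Set.range g) := by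
    rw [Submodule.span_le]
    rintro _ ⟨ξ, rfl⟩
    have e : v ξ = ∑ a ∈ typ M z 1, R0 (ξ.1 : G → ℂ) (a : G → ℂ) •
        (fun s : {s : G // ¬ 3 ∣ orderOf s} => (a : G → ℂ) s) := by
      funext s
      simp only [Finset.sum_apply, Pi.smul_apply, smul_eq_mul, v]
      rw [hS.reproduce hcen hM hw _ s.2, Finset.sum_eq_single ξ.1]
      · rw [hS.R0_typ hcen hM hw.pow_eq_one (hw.ne_one (by norm_num)) ξ.2 ξ.2, if_pos rfl, one_mul]
      · intro θ hθ hne
        rw [hS.R0_typ hcen hM hw.pow_eq_one (hw.ne_one (by norm_num)) ξ.2 hθ,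
          if_neg (Ne.symm hne), zero_mul]
      · exact fun h => absurd ξ.2 h
    rw [e]
    exact Submodule.sum_mem _ fun a ha => Submodule.smul_mem _ _ (hspan a ha)
  haveI : FiniteDimensional ℂ (Submodule.span ℂ (Set.range g)) :=
    FiniteDimensional.span_of_finite ℂ (Set.finite_range g)
  have h1 := Submodule.finrank_mono hsub
  rw [finrank_span_eq_card hli, Fintype.card_coe] at h1
  exact h1.trans (finrank_range_le_card g)

end Setup

end Cfsg.Agent.ExtraThree
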