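import Cfsg.Agent.Lib.ExtraThree.Lattice
import Mathlib.Data.Complex.Basic
import Mathlib.LinearAlgebra.Basis.VectorSpace

/-!
The faithful characters of the centraliser from the embedding of the small lattice, and the
images of the small vectors in the group.
-/

set_option autoImplicit false
set_option linter.unusedSectionVars false

namespace Cfsg.Agent.ExtraThree

variable {X : Type*} [DecidableEq X] {S : Finset X}

theorem solve_translate {V : Type*} [AddCommGroup V] [Module ℂ V] {q r : ℕ} (hqr : q + r = 6)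
    (fA G : Fin q → V) (β : V) (t₀ : Fin q) (hrel : ∑ t, fA t + (3 - (r : ℂ)) • β = 0)
    (hdiff : ∀ t, fA t₀ - fA t = G t₀ - G t)
    (hd : (r : ℂ) • β - (3 - (r : ℂ)) • fA t₀ = ((r : ℂ) - 3) • G t₀ + ∑ t, G t) :
    ∀ t, G t = fA t + β := by
  intro t
  have h1 : ∀ t, fA t = G t + (fA t₀ - G t₀) := fun t => by
    have := hdiff t
    calc fA t = fA t₀ - (fA t₀ - fA t) := by abel
      _ = fA t₀ - (G t₀ - G t) := by rw [this]
      _ = _ := by abel
  generalize hD : fA t₀ - G t₀ = D at h1
  have hsum : ∑ t, fA t = ∑ t, G t + (q : ℂ) • D := by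
    rw [Finset.sum_congr rfl fun t _ => h1 t, Finset.sum_add_distrib, Finset.sum_const,
      Finset.card_univ, Fintype.card_fin, Nat.cast_smul_eq_nsmul]
  rw [hsum] at hrel
  have hq : (q : ℂ) = 6 - r := by
    rw [eq_sub_iff_add_eq]; exact_mod_cast hqr
  rw [hq] at hrel
  rw [h1 t₀] at hd
  have hG : ∑ t, G t = -((6 - (r : ℂ)) • D + (3 - (r : ℂ)) • β) := by
    rw [eq_neg_iff_add_eq_zero, ← add_assoc]; exact hrel
  rw [hG] at hd
  have h3 : (3 : ℂ) • (β + D) = 0 := by
    have e : (3 : ℂ) • (β + D) = ((r : ℂ) • β - (3 - (r : ℂ)) • (G t₀ + D)) -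
        (((r : ℂ) - 3) • G t₀ + -((6 - (r : ℂ)) • D + (3 - (r : ℂ)) • β)) := by module
    rw [e, hd, sub_self]
  have hDβ : D = -β :=
    eq_neg_of_add_eq_zero_right ((smul_eq_zero.1 h3).resolve_left (by norm_num))
  rw [h1 t, hDβ]; abel

/-- The faithful characters, from the coefficients of the small vectors. -/
theorem embed {V : Type*} [AddCommGroup V] [Module ℂ V] {Y : Type*} [DecidableEq Y] {q r : ℕ}
    (hqr : q + r = 6) (hr : r = 1 ∨ r = 2 ∨ r = 4) (E : Finset Y) (hE : E.card ≤ q)
    (fA : Fin q → V) (β : V) (g : Y → V) (t₀ : Fin q)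
    (hrel : ∑ t, fA t + (3 - (r : ℂ)) • β = 0) (c : Fin q → Y → ℤ) (d : Y → ℤ)
    (hc : ∀ t, t ≠ t₀ → fA t₀ - fA t = ∑ y ∈ E, (c t y : ℂ) • g y)
    (hd : (r : ℂ) • β - (3 - (r : ℂ)) • fA t₀ = ∑ y ∈ E, (d y : ℂ) • g y)
    (hcc : ∀ s t, s ≠ t₀ → t ≠ t₀ → ip E (c s) (c t) = if s = t then 2 else 1)
    (hcd : ∀ t, t ≠ t₀ → ip E (c t) d = (r : ℤ) - 3)
    (hdd : ip E d d = (r : ℤ) + (3 - (r : ℤ)) ^ 2) :
    ∃ χ : Fin q → Y, Function.Injective χ ∧ (∀ t, χ t ∈ E) ∧ E.card = q ∧
      ∃ δ : Fin q → ℤ, (∀ t, δ t * δ t = 1) ∧ ∀ t, (δ t : ℂ) • g (χ t) = -(fA t + β) := by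
  classical
  have hm : 0 < Fintype.card {t : Fin q // t ≠ t₀} := by
    rw [Fintype.card_subtype_compl, Fintype.card_fin, Fintype.card_subtype_eq]; omega
  set e := (Fintype.equivFin {t : Fin q // t ≠ t₀}).symm with he
  have hmq : Fintype.card {t : Fin q // t ≠ t₀} + 1 = q := by
    rw [Fintype.card_subtype_compl, Fintype.card_fin, Fintype.card_subtype_eq]; omega
  rcases star (fun i => c (e i).1) ⟨0, hm⟩
      (fun i => by rw [hcc _ _ (e i).2 (e i).2, if_pos rfl])
      (fun i j hij => by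
        rw [hcc _ _ (e i).2 (e j).2, if_neg fun h => hij (e.injective (Subtype.ext h))])
    with ⟨x, hx, s, hs, y, hyinj, hy⟩ | ⟨hm3, hev⟩
  swap
  · exfalso
    obtain ⟨k, hk⟩ := hev d
    rw [Finset.sum_congr rfl fun i _ => (ip_comm d _).trans (hcd _ (e i).2)] at hk
    simp only [Finset.sum_const, Finset.card_univ, Fintype.card_fin, nsmul_eq_mul, hm3] at hk
    push_cast at hk
    omega
  choose hyS hyx hfx hfy hf0 using hy
  let i' : ∀ t : Fin q, t ≠ t₀ → Fin (Fintype.card {t : Fin q // t ≠ t₀}) :=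
    fun t ht => e.symm ⟨t, ht⟩
  have hi' : ∀ t ht, ((e (i' t ht)).1) = t := fun t ht => by simp [i']
  let yy : Fin q → Y := fun t => if ht : t = t₀ then x else y (i' t ht)
  let uu : Fin q → ℤ := fun t => if ht : t = t₀ then s else -(c t (y (i' t ht)))
  have hyy₀ : yy t₀ = x := by simp [yy]
  have huu₀ : uu t₀ = s := by simp [uu]
  have hyyt : ∀ t ht, yy t = y (i' t ht) := fun t ht => by simp [yy, ht]
  have huut : ∀ t ht, uu t = -(c t (y (i' t ht))) := fun t ht => by simp [uu, ht]
  have hcsupp : ∀ t, t ≠ t₀ → c t x = s ∧ c t (yy t) = -uu t ∧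
      ∀ z ∈ E, z ≠ x → z ≠ yy t → c t z = 0 := by
    intro t ht
    refine ⟨?_, by rw [huut t ht, hyyt t ht, neg_neg], fun z hz h1 h2 => ?_⟩
    · simpa only [hi' t ht] using hfx (i' t ht)
    · simpa only [hi' t ht] using hf0 (i' t ht) z hz h1 (hyyt t ht ▸ h2)
  have hinj : Function.Injective yy := by
    intro a b h
    by_cases ha : a = t₀ <;> by_cases hb : b = t₀
    · rw [ha, hb]
    · rw [ha, hyy₀, hyyt b hb] at h; exact absurd h.symm (hyx _)
    · rw [hb, hyy₀, hyyt a ha] at h; exact absurd h (hyx _)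
    · rw [hyyt a ha, hyyt b hb] at h
      have := congrArg (fun i => ((e i).1)) (hyinj h)
      simpa only [hi'] using this
  have hmem : ∀ t, yy t ∈ E := fun t => by
    by_cases ht : t = t₀
    · rw [ht, hyy₀]; exact hx
    · rw [hyyt t ht]; exact hyS _
  have huu : ∀ t, uu t * uu t = 1 := fun t => by
    by_cases ht : t = t₀
    · rw [ht, huu₀]; exact hs
    · rw [huut t ht, neg_mul_neg]
      simpa only [hi' t ht] using hfy (i' t ht)
  have hyx' : ∀ t, t ≠ t₀ → yy t ≠ x := fun t ht h => ht (hinj (h.trans hyy₀.symm))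
  have hEimg : Finset.univ.image yy = E := Finset.eq_of_subset_of_card_le
    (fun z hz => by obtain ⟨t, -, rfl⟩ := Finset.mem_image.1 hz; exact hmem t)
    (by rw [Finset.card_image_of_injective _ hinj, Finset.card_univ, Fintype.card_fin]; exact hE)
  have hEcard : E.card = q := by
    rw [← hEimg, Finset.card_image_of_injective _ hinj, Finset.card_univ, Fintype.card_fin]
  -- the signed vectors and the signed coordinates of `d`
  let G : Fin q → V := fun t => (uu t : ℂ) • g (yy t)
  let h : Fin q → ℤ := fun t => uu t * d (yy t)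
  have hGdiff : ∀ t, fA t₀ - fA t = G t₀ - G t := by
    intro t
    by_cases ht : t = t₀
    · rw [ht, sub_self, sub_self]
    obtain ⟨c1, c2, c0⟩ := hcsupp t ht
    rw [hc t ht, ← Finset.sum_subset (s₁ := {x, yy t}) (fun z hz => by
      rcases Finset.mem_insert.1 hz with rfl | hz
      · exact hx
      · rw [Finset.mem_singleton.1 hz]; exact hmem t) (fun z hz hz' => by
      simp only [Finset.mem_insert, Finset.mem_singleton, not_or] at hz'
      rw [c0 z hz hz'.1 hz'.2, Int.cast_zero, zero_smul]),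
      Finset.sum_pair (hyx' t ht).symm, c1, c2]
    simp only [G, huu₀, hyy₀, Int.cast_neg, neg_smul, sub_eq_add_neg]
  have hh : ∀ t, t ≠ t₀ → h t = h t₀ + (3 - r) := by
    intro t ht
    have h2 := hcd t ht
    obtain ⟨c1, c2, c0⟩ := hcsupp t ht
    rw [ip_eq_two_point hx (hmem t) (hyx' t ht).symm c0, c1, c2] at h2
    simp only [h, huu₀, hyy₀]
    linarith
  have hdG : ∑ y ∈ E, (d y : ℂ) • g y = ∑ t, (h t : ℂ) • G t := by
    rw [← hEimg, Finset.sum_image (fun a _ b _ e => hinj e)]
    refine Finset.sum_congr rfl fun t _ => ?_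
    simp only [G, h, smul_smul]
    congr 1
    have := congrArg (fun z : ℤ => (z : ℂ)) (huu t)
    push_cast at this ⊢
    linear_combination -(d (yy t) : ℂ) * this
  have hnorm : h t₀ * h t₀ + ((q : ℤ) - 1) * ((h t₀ + (3 - r)) * (h t₀ + (3 - r))) =
      (r : ℤ) + (3 - (r : ℤ)) ^ 2 := by
    rw [← hdd]
    unfold ip
    rw [← hEimg, Finset.sum_image (fun a _ b _ e => hinj e),
      ← Finset.add_sum_erase Finset.univ _ (Finset.mem_univ t₀)]
    have e1 : ∀ t, d (yy t) * d (yy t) = h t * h t := fun t => by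
      simp only [h]; linear_combination -(d (yy t) * d (yy t)) * huu t
    rw [e1 t₀, Finset.sum_congr rfl fun t ht => by
      rw [e1 t, hh t (Finset.ne_of_mem_erase ht)],
      Finset.sum_const, Finset.card_erase_of_mem (Finset.mem_univ _), Finset.card_univ,
      Fintype.card_fin, nsmul_eq_mul, Nat.cast_sub (by omega : 1 ≤ q)]
    push_cast
    ring
  -- it suffices to have the normal form
  suffices key : ∃ σ : Equiv.Perm (Fin q), ∃ η : ℤ, η * η = 1 ∧
      (∀ t, fA t₀ - fA t = (η : ℂ) • G (σ t₀) - (η : ℂ) • G (σ t)) ∧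
      (∀ t, η * h (σ t) = if t = t₀ then (r : ℤ) - 2 else 1) by
    obtain ⟨σ, η, hη, hd1, hd2⟩ := key
    have hres := solve_translate hqr fA (fun t => (η : ℂ) • G (σ t)) β t₀ hrel hd1 (by
      rw [hd, hdG, ← Equiv.sum_comp σ (fun t => (h t : ℂ) • G t)]
      have e : ∀ t, (h (σ t) : ℂ) • G (σ t) =
          (if t = t₀ then ((r : ℂ) - 3) • ((η : ℂ) • G (σ t)) else 0) + (η : ℂ) • G (σ t) := by
        intro t
        have h2 : (h (σ t) : ℂ) = (η : ℂ) * (if t = t₀ then (r : ℂ) - 2 else 1) := by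
          have h3 : h (σ t) = η * (if t = t₀ then (r : ℤ) - 2 else 1) := by
            rw [← hd2 t, ← mul_assoc, hη, one_mul]
          rw [h3]; split_ifs <;> push_cast <;> ring
        rw [h2]
        split_ifs <;> module
      rw [Finset.sum_congr rfl fun t _ => e t, Finset.sum_add_distrib, Finset.sum_ite_eq',
        if_pos (Finset.mem_univ _)])
    refine ⟨fun t => yy (σ t), hinj.comp σ.injective, fun t => hmem _, hEcard,
      fun t => -(η * uu (σ t)), fun t => ?_, fun t => ?_⟩
    · linear_combination (uu (σ t) * uu (σ t)) * hη + huu (σ t)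
    · rw [← hres t]
      simp only [G, smul_smul]
      push_cast
      rw [neg_smul]
  have hr' : (r = 1 ∧ q = 5) ∨ (r = 2 ∧ q = 4) ∨ (r = 4 ∧ q = 2) := by omega
  have hcases : h t₀ = (r : ℤ) - 2 ∨ (q = 2 ∧ r = 4 ∧ h t₀ = -1) := by
    rcases hr' with ⟨rfl, rfl⟩ | ⟨rfl, rfl⟩ | ⟨rfl, rfl⟩ <;> norm_num at hnorm ⊢
    · have : (h t₀ + 1) * (5 * h t₀ + 11) = 0 := by linear_combination hnorm
      rcases mul_eq_zero.1 this with e | e <;> omega
    · have : h t₀ * (4 * h t₀ + 6) = 0 := by linear_combination hnorm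
      rcases mul_eq_zero.1 this with e | e <;> omega
    · have : (h t₀ - 2) * (h t₀ + 1) = 0 := by nlinarith
      rcases mul_eq_zero.1 this with e | e <;> omega
  rcases hcases with h0 | ⟨hq2, hr4, h0⟩
  · refine ⟨Equiv.refl _, 1, one_mul 1, fun t => by simpa using hGdiff t, fun t => ?_⟩
    split_ifs with e
    · simp [e, h0]
    · simp only [one_mul, Equiv.refl_apply]; rw [hh t e, h0]; ring
  · obtain ⟨t₁, ht₁⟩ : ∃ t₁ : Fin q, t₁ ≠ t₀ :=
      ⟨(e ⟨0, hm⟩).1, (e ⟨0, hm⟩).2⟩
    have hall : ∀ t : Fin q, t = t₀ ∨ t = t₁ := fun t => by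
      have h3 := t.isLt; have h4 := t₀.isLt; have h5 := t₁.isLt
      have h6 : (t₁ : ℕ) ≠ (t₀ : ℕ) := fun h => ht₁ (Fin.ext h)
      by_contra hne
      push Not at hne
      have h7 : (t : ℕ) ≠ (t₀ : ℕ) := fun h => hne.1 (Fin.ext h)
      have h8 : (t : ℕ) ≠ (t₁ : ℕ) := fun h => hne.2 (Fin.ext h)
      omega
    refine ⟨Equiv.swap t₀ t₁, -1, by norm_num, fun t => ?_, fun t => ?_⟩
    · rcases hall t with rfl | rfl
      · simp
      · rw [Equiv.swap_apply_left, Equiv.swap_apply_right, hGdiff t]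
        push_cast
        module
    · rcases hall t with rfl | rfl
      · rw [Equiv.swap_apply_left, if_pos rfl, hh t₁ ht₁, h0, hr4]; norm_num
      · rw [Equiv.swap_apply_right, if_neg ht₁, h0]; norm_num

/-- The coefficient of a vector at a member of the six, with its sign. -/
def Six.k {r : ℕ} {n : Fin r → X → ℤ} {x₀ : X} {q : ℕ} (T : Six S n x₀ q) (f : X → ℤ) (x : X) :
    ℤ := T.ε x * f x

theorem Six.k_sq {r : ℕ} {n : Fin r → X → ℤ} {x₀ : X} {q : ℕ} (T : Six S n x₀ q) (f : X → ℤ)
    (x : X) : T.k f x * T.k f x = f x * f x := by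
  unfold Six.k; linear_combination (f x * f x) * T.sq x

/-- The members of the six. -/
def Six.set {r : ℕ} {n : Fin r → X → ℤ} {x₀ : X} {q : ℕ} (T : Six S n x₀ q) : Finset X :=
  Finset.univ.image T.a ∪ Finset.univ.image T.b

theorem Six.a_mem {r : ℕ} {n : Fin r → X → ℤ} {x₀ : X} {q : ℕ} (T : Six S n x₀ q) (t : Fin q) :
    T.a t ∈ T.set :=
  Finset.mem_union_left _ (Finset.mem_image_of_mem _ (Finset.mem_univ _))

theorem Six.b_mem {r : ℕ} {n : Fin r → X → ℤ} {x₀ : X} {q : ℕ} (T : Six S n x₀ q) (j : Fin r) :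
    T.b j ∈ T.set :=
  Finset.mem_union_right _ (Finset.mem_image_of_mem _ (Finset.mem_univ _))

theorem Six.disjoint {r : ℕ} {n : Fin r → X → ℤ} {x₀ : X} {q : ℕ} (T : Six S n x₀ q) :
    Disjoint (Finset.univ.image T.a) (Finset.univ.image T.b) := by
  rw [Finset.disjoint_left]
  intro x hx hx'
  obtain ⟨t, -, rfl⟩ := Finset.mem_image.1 hx
  obtain ⟨j, -, e⟩ := Finset.mem_image.1 hx'
  exact T.ne t j e.symm

theorem Six.subset {r : ℕ} {n : Fin r → X → ℤ} {x₀ : X} {q : ℕ} (T : Six S n x₀ q) :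
    T.set ⊆ S := by
  intro x hx
  rcases Finset.mem_union.1 hx with h | h <;> obtain ⟨t, -, rfl⟩ := Finset.mem_image.1 h
  · exact T.haS t
  · exact T.hbS t

theorem Six.card_set {r : ℕ} {n : Fin r → X → ℤ} {x₀ : X} {q : ℕ} (T : Six S n x₀ q) :
    T.set.card = q + r := by
  rw [Six.set, Finset.card_union_of_disjoint T.disjoint, Finset.card_image_of_injective _ T.inj_a,
    Finset.card_image_of_injective _ T.inj_b, Finset.card_univ, Finset.card_univ, Fintype.card_fin,
    Fintype.card_fin]

theorem Six.n_eq_zero {r : ℕ} {n : Fin r → X → ℤ} {x₀ : X} {q : ℕ} (T : Six S n x₀ q) {x : X}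
    (hx : x ∈ S) (hx' : x ∉ T.set) (i : Fin r) : n i x = 0 :=
  T.zero x hx (fun t e => hx' (e ▸ T.a_mem t)) (fun j e => hx' (e ▸ T.b_mem j)) i

theorem Six.sum_set {r : ℕ} {n : Fin r → X → ℤ} {x₀ : X} {q : ℕ} (T : Six S n x₀ q)
    {A : Type*} [AddCommMonoid A] (F : X → A) :
    ∑ x ∈ T.set, F x = ∑ t, F (T.a t) + ∑ j, F (T.b j) := by
  rw [Six.set, Finset.sum_union T.disjoint, Finset.sum_image (fun a _ b _ h => T.inj_a h),
    Finset.sum_image (fun a _ b _ h => T.inj_b h)]

theorem Six.ip_n {r : ℕ} {n : Fin r → X → ℤ} {x₀ : X} {q : ℕ} (T : Six S n x₀ q) (i : Fin r)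
    (f : X → ℤ) : ip S (n i) f =
      ∑ t, T.k f (T.a t) + (3 * T.k f (T.b i) - ∑ j, T.k f (T.b j)) := by
  unfold ip
  rw [← Finset.sum_subset T.subset (fun x hx hx' => by rw [T.n_eq_zero hx hx' i, zero_mul]),
    T.sum_set]
  congr 1
  · exact Finset.sum_congr rfl fun t _ => by rw [T.na i t]; rfl
  · have e : ∀ j, n i (T.b j) * f (T.b j) =
        (if i = j then 3 * T.k f (T.b j) else 0) - T.k f (T.b j) := fun j => by
      rw [T.nb i j]; unfold Six.k; split_ifs <;> ring
    rw [Finset.sum_congr rfl fun j _ => e j, Finset.sum_sub_distrib, Finset.sum_ite_eq,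
      if_pos (Finset.mem_univ _)]

theorem le_mul_self_int (a : ℤ) : a ≤ a * a := by
  rcases le_or_gt a 0 with h | h
  · exact h.trans (mul_self_nonneg a)
  · nlinarith

/-- The supports of the images of the differences of the faithful characters are disjoint pairs. -/
theorem pairs {ι : Type*} [DecidableEq ι] (v w : ι → X → ℤ)
    (hvv : ∀ s t, ip S (v s) (v t) = if s = t then 2 else 0)
    (hwv : ∀ s t, ip S (w s) (v t) = if s = t then 1 else 0) :
    ∃ P : ι → Finset X, (∀ t, P t ⊆ S) ∧ (∀ t, (P t).card = 2) ∧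
      (∀ t, ∀ x ∈ S, x ∉ P t → v t x = 0) ∧ (∀ t, ∀ x ∈ P t, v t x * v t x = 1) ∧
      ∀ s t, s ≠ t → Disjoint (P s) (P t) := by
  choose x hx y hy hxy hvx hvy h0 using fun t => two_entries
    (show ip S (v t) (v t) = 2 by rw [hvv, if_pos rfl])
  have hsupp : ∀ t, ∀ z, (z = x t ∨ z = y t) → v t z * v t z = 1 := fun t z hz => by
    rcases hz with rfl | rfl
    exacts [hvx t, hvy t]
  refine ⟨fun t => {x t, y t}, fun t => ?_, fun t => Finset.card_pair (hxy t), fun t z hz hz' => ?_,
    fun t z hz => hsupp t z (by simpa using hz), fun s t hst => ?_⟩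
  · intro z hz
    rcases Finset.mem_insert.1 hz with rfl | hz
    · exact hx t
    · rw [Finset.mem_singleton.1 hz]; exact hy t
  · simp only [Finset.mem_insert, Finset.mem_singleton, not_or] at hz'
    exact h0 t z hz hz'.1 hz'.2
  · rw [Finset.disjoint_left]
    intro z hz hz'
    have e := hvv s t
    rw [if_neg hst, ip_eq_two_point (hx s) (hy s) (hxy s) (h0 s)] at e
    have h1 := hsupp s z (by simpa using hz)
    have h2 := hsupp t z (by simpa using hz')
    have ew := hwv s s
    rw [if_pos rfl, ip_comm, ip_eq_two_point (hx s) (hy s) (hxy s) (h0 s)] at ew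
    have ew' := hwv s t
    rw [if_neg hst] at ew'
    -- both entries are shared
    obtain ⟨hux, huy⟩ : v t (x s) * v t (x s) = 1 ∧ v t (y s) * v t (y s) = 1 := by
      rcases Finset.mem_insert.1 hz with rfl | hz1
      · refine ⟨h2, ?_⟩
        have e' : v s (y s) * v t (y s) = -(v s (x s) * v t (x s)) := by linarith
        have h3 : (v s (y s) * v t (y s)) * (v s (y s) * v t (y s)) = 1 := by
          rw [e', neg_mul_neg]
          linear_combination (v t (x s) * v t (x s)) * hvx s + h2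
        linear_combination h3 - (v t (y s) * v t (y s)) * hvy s
      · rw [Finset.mem_singleton.1 hz1] at h2
        refine ⟨?_, h2⟩
        have e' : v s (x s) * v t (x s) = -(v s (y s) * v t (y s)) := by linarith
        have h3 : (v s (x s) * v t (x s)) * (v s (x s) * v t (x s)) = 1 := by
          rw [e', neg_mul_neg]
          linear_combination (v t (y s) * v t (y s)) * hvy s + h2
        linear_combination h3 - (v t (x s) * v t (x s)) * hvx s
    have hvt0 : ∀ u ∈ S, u ≠ x s → u ≠ y s → v t u = 0 := by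
      intro u hu a b
      refine h0 t u hu (fun c => ?_) (fun c => ?_)
      all_goals
        have m1 : x s = x t ∨ x s = y t := by
          by_contra hh
          push Not at hh
          rw [h0 t (x s) (hx s) hh.1 hh.2] at hux; norm_num at hux
        have m2 : y s = x t ∨ y s = y t := by
          by_contra hh
          push Not at hh
          rw [h0 t (y s) (hy s) hh.1 hh.2] at huy; norm_num at huy
        rcases m1 with m1 | m1 <;> rcases m2 with m2 | m2
        · exact hxy s (m1.trans m2.symm)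
        · first | exact a (c.trans m1.symm) | exact b (c.trans m2.symm)
        · first | exact b (c.trans m2.symm) | exact a (c.trans m1.symm)
        · exact hxy s (m1.trans m2.symm)
    rw [ip_comm, ip_eq_two_point (hx s) (hy s) (hxy s) hvt0] at ew'
    rcases Int.eq_one_or_neg_one_of_mul_eq_one (hvx s) with a | a <;>
      rcases Int.eq_one_or_neg_one_of_mul_eq_one (hvy s) with b | b <;>
      rcases Int.eq_one_or_neg_one_of_mul_eq_one hux with c | c <;>
      rcases Int.eq_one_or_neg_one_of_mul_eq_one huy with d | d <;>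
      rw [a, b, c, d] at e <;> rw [a, b] at ew <;> rw [c, d] at ew' <;> omega

theorem two_sum {P : Finset X} (hP : P.card = 2) (f g : X → ℤ) :
    ∃ x ∈ P, ∃ y ∈ P, x ≠ y ∧ P = {x, y} ∧ ip P f g = f x * g x + f y * g y := by
  obtain ⟨x, y, hxy, rfl⟩ := Finset.card_eq_two.1 hP
  exact ⟨x, Finset.mem_insert_self _ _, y, Finset.mem_insert_of_mem (Finset.mem_singleton_self _),
    hxy, rfl, Finset.sum_pair hxy⟩

theorem one_le_pair {P : Finset X} {f g : X → ℤ} (h : ip P f g = 1) : 1 ≤ ip P f f := by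
  by_contra hc
  have h0 : ip P f f = 0 := le_antisymm (by omega) (Finset.sum_nonneg fun x _ => mul_self_nonneg _)
  have := (Finset.sum_eq_zero_iff_of_nonneg fun x _ => mul_self_nonneg (f x)).1 h0
  have e : ip P f g = 0 :=
    Finset.sum_eq_zero fun x hx => by rw [mul_self_eq_zero.1 (this x hx), zero_mul]
  omega

/-- The images of the small vectors. -/
theorem images {q r : ℕ} (n : Fin r → X → ℤ) {x₀ : X} (T : Six S n x₀ q) (hr : 1 ≤ r)
    (v : Fin q → X → ℤ) (w : Fin q → Fin r → X → ℤ) (s₀ : Fin q)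
    (hvv : ∀ s t, ip S (v s) (v t) = if s = t then 2 else 0)
    (hwv : ∀ i s t, ip S (w s i) (v t) = if s = t then 1 else 0)
    (hnv : ∀ i t, ip S (n i) (v t) = 0)
    (hnw : ∀ j s i, ip S (n j) (w s i) = if j = i then 3 else 0)
    (hww : ∀ i s t, ip S (w s i) (w t i) = if s = t then 3 else 1)
    (hv₀ : ∀ t, v t x₀ = 0) (hw₀ : ∀ s i, w s i x₀ = if s = s₀ then 1 else 0) :
    ∃ P : Fin q → Finset X, (∀ t, P t ⊆ S) ∧ (∀ t, (P t).card = 2) ∧
      (∀ s t, s ≠ t → Disjoint (P s) (P t)) ∧ (∀ t, Disjoint (P t) T.set) ∧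
      (∀ t, ∀ x ∈ S, x ∉ P t → v t x = 0) ∧
      ∀ s i, ∀ x ∈ S, x ∉ P s → x ∉ T.set → w s i x = 0 := by
  classical
  let i₀ : Fin r := ⟨0, hr⟩
  obtain ⟨P, hPS, hP2, hP0, hP1, hPd⟩ := pairs v (fun s => w s i₀) hvv (fun s t => hwv i₀ s t)
  have hvP : ∀ t (f : X → ℤ), ip S f (v t) = ip (P t) f (v t) := fun t f =>
    (Finset.sum_subset (hPS t) fun x hx hx' => by rw [hP0 t x hx hx', mul_zero]).symm
  -- a pair is inside or outside
  have hclass : ∀ t, Disjoint (P t) T.set ∨
      ∀ x ∈ P t, ∃ u, u ≠ T.t₀ ∧ x = T.a u := by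
    intro t
    obtain ⟨x, hx, y, hy, hxy, hPe, hsum⟩ := two_sum (hP2 t) (n i₀) (v t)
    have he : ∀ i, n i x * v t x + n i y * v t y = 0 := fun i => by
      have := hnv i t
      rw [hvP] at this
      unfold ip at this
      rwa [hPe, Finset.sum_pair hxy] at this
    have hsq : ∀ i, n i x * n i x = n i y * n i y := fun i => by
      linear_combination (n i x * v t x - n i y * v t y) * he i - (n i x * n i x) * hP1 t x hx +
        (n i y * n i y) * hP1 t y hy
    have hnz : ∀ z, z ∈ T.set → ∃ i, n i z ≠ 0 := by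
      intro z hz
      rcases Finset.mem_union.1 hz with h | h <;> obtain ⟨u, -, rfl⟩ := Finset.mem_image.1 h
      · exact ⟨i₀, by rw [T.na]; intro e; have := T.sq (T.a u); rw [e] at this; norm_num at this⟩
      · exact ⟨u, by rw [T.nb, if_pos rfl]; intro e; have := T.sq (T.b u)
                     rcases mul_eq_zero.1 e with e | e
                     · rw [e] at this; norm_num at this
                     · norm_num at e⟩
    by_cases hin : x ∈ T.set ∨ y ∈ T.set
    swap
    · left
      push Not at hin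
      rw [hPe, Finset.disjoint_left]
      intro z hz
      rcases Finset.mem_insert.1 hz with rfl | hz
      · exact hin.1
      · rw [Finset.mem_singleton.1 hz]; exact hin.2
    right
    have hboth : x ∈ T.set ∧ y ∈ T.set := by
      rcases hin with h | h <;> refine ⟨?_, ?_⟩ <;> try exact h
      · by_contra hc
        obtain ⟨i, hi⟩ := hnz _ h
        have e := hsq i
        rw [T.n_eq_zero (hPS t hy) hc i, mul_zero] at e
        exact hi (mul_self_eq_zero.1 e)
      · by_contra hc
        obtain ⟨i, hi⟩ := hnz _ h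
        have e := hsq i
        rw [T.n_eq_zero (hPS t hx) hc i, mul_zero] at e
        exact hi (mul_self_eq_zero.1 e.symm)
    have hna : ∀ u i, n i (T.a u) * n i (T.a u) = 1 := fun u i => by rw [T.na]; exact T.sq _
    have hnb : ∀ j, n j (T.b j) * n j (T.b j) = 4 := fun j => by
      rw [T.nb, if_pos rfl]; linear_combination 4 * T.sq (T.b j)
    have hkind : ∀ z z', z ∈ T.set → z' ∈ T.set → z ≠ z' →
        (∀ i, n i z * n i z = n i z' * n i z') → ∃ u, z = T.a u := by
      intro z z' hz hz' hne hs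
      rcases Finset.mem_union.1 hz with h | h <;> obtain ⟨u, -, rfl⟩ := Finset.mem_image.1 h
      · exact ⟨u, rfl⟩
      rcases Finset.mem_union.1 hz' with h' | h' <;> obtain ⟨u', -, rfl⟩ := Finset.mem_image.1 h'
      · have := hs u; rw [hnb, hna] at this; omega
      · have := hs u
        rw [hnb, T.nb, if_neg fun e => hne (congrArg T.b e)] at this
        have h2 := T.sq (T.b u')
        nlinarith
    intro z hz
    have hzv : v t z ≠ 0 := fun e => by have := hP1 t z hz; rw [e] at this; norm_num at this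
    obtain ⟨u, rfl⟩ : ∃ u, z = T.a u := by
      rw [hPe] at hz
      rcases Finset.mem_insert.1 hz with rfl | hz
      · exact hkind _ _ hboth.1 hboth.2 hxy hsq
      · rw [Finset.mem_singleton.1 hz]
        exact hkind _ _ hboth.2 hboth.1 hxy.symm fun i => (hsq i).symm
    exact ⟨u, fun e => hzv (by rw [e, T.ha₀]; exact hv₀ t), rfl⟩
  -- the outside pairs
  have hout : ∀ s, Disjoint (P s) T.set → ∀ i, ∃ u, T.k (w s i) (T.a u) = 1 ∧
      (∀ u', u' ≠ u → T.k (w s i) (T.a u') = 0) ∧
      (∀ j, T.k (w s i) (T.b j) = if j = i then 1 else 0) ∧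
      ∀ x ∈ S, x ∉ P s → x ∉ T.set → w s i x = 0 := by
    intro s hs i
    have hpair : 1 ≤ ip (P s) (w s i) (w s i) := one_le_pair (g := v s) (by
      rw [← hvP, hwv, if_pos rfl])
    have hsub : P s ∪ T.set ⊆ S := Finset.union_subset (hPS s) T.subset
    have hsplit := sum_split_sq (w s i) hsub
    rw [hww, if_pos rfl] at hsplit
    have hu : ip (P s ∪ T.set) (w s i) (w s i) = ip (P s) (w s i) (w s i) +
        (∑ t, T.k (w s i) (T.a t) * T.k (w s i) (T.a t) +
          ∑ j, T.k (w s i) (T.b j) * T.k (w s i) (T.b j)) := by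
      unfold ip
      rw [Finset.sum_union hs, T.sum_set]
      simp only [Six.k_sq]
    have hrest : 0 ≤ ip (S \ (P s ∪ T.set)) (w s i) (w s i) :=
      Finset.sum_nonneg fun x _ => mul_self_nonneg _
    set A := ∑ t, T.k (w s i) (T.a t) with hA
    set K := ∑ j, T.k (w s i) (T.b j) with hK
    have hj : ∀ j, A + (3 * T.k (w s i) (T.b j) - K) = if j = i then 3 else 0 := fun j => by
      rw [← hnw j s i, T.ip_n]
    set κ := T.k (w s i) (T.b i) - 1 with hκ
    have hb : ∀ j, T.k (w s i) (T.b j) = (if j = i then 1 else 0) + κ := fun j => by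
      have h1 := hj j; have h2 := hj i
      rw [if_pos rfl] at h2
      split_ifs at h1 ⊢ <;> omega
    have hKeq : K = 1 + (r : ℤ) * κ := by
      rw [hK, Finset.sum_congr rfl fun j _ => hb j, Finset.sum_add_distrib, Finset.sum_ite_eq',
        if_pos (Finset.mem_univ _), Finset.sum_const, Finset.card_univ, Fintype.card_fin,
        nsmul_eq_mul]
    have hAeq : A = 1 - (3 - (r : ℤ)) * κ := by
      have h2 := hj i
      rw [if_pos rfl, hb i, if_pos rfl, hKeq] at h2
      linarith
    have hB : ∑ j, T.k (w s i) (T.b j) * T.k (w s i) (T.b j) = 1 + 2 * κ + (r : ℤ) * (κ * κ) := by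
      rw [Finset.sum_congr rfl fun j _ => show T.k (w s i) (T.b j) * T.k (w s i) (T.b j) =
        (if j = i then 1 + 2 * κ else 0) + κ * κ by rw [hb j]; split_ifs <;> ring,
        Finset.sum_add_distrib, Finset.sum_ite_eq', if_pos (Finset.mem_univ _), Finset.sum_const,
        Finset.card_univ, Fintype.card_fin, nsmul_eq_mul]
    have hAle : A ≤ ∑ t, T.k (w s i) (T.a t) * T.k (w s i) (T.a t) :=
      Finset.sum_le_sum fun t _ => le_mul_self_int _
    rw [hu, hB] at hsplit
    have hκ0 : κ = 0 := by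
      have hle : (r : ℤ) * (κ * κ) + ((r : ℤ) - 1) * κ ≤ 0 := by rw [hAeq] at hAle; linarith
      have hr' : (1 : ℤ) ≤ (r : ℤ) := by exact_mod_cast hr
      rcases lt_trichotomy κ 0 with h | h | h
      · exfalso
        nlinarith [mul_nonneg (show (0 : ℤ) ≤ r by omega) (show (0 : ℤ) ≤ κ * κ + κ by nlinarith)]
      · exact h
      · exfalso; nlinarith
    rw [hκ0] at hAeq hsplit hb
    have hsum1 : ∑ t, T.k (w s i) (T.a t) * T.k (w s i) (T.a t) = 1 := by
      rw [hAeq] at hAle; linarith
    obtain ⟨u, hu1⟩ : ∃ u, T.k (w s i) (T.a u) ≠ 0 := by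
      by_contra hc
      push Not at hc
      rw [hA, Finset.sum_eq_zero fun t _ => hc t] at hAeq
      omega
    have hu0 : ∀ u', u' ≠ u → T.k (w s i) (T.a u') = 0 := by
      intro u' hne
      by_contra hc
      have h2 : ∑ t ∈ ({u, u'} : Finset (Fin q)), T.k (w s i) (T.a t) * T.k (w s i) (T.a t) ≤ 1 :=
        hsum1 ▸ Finset.sum_le_univ_sum_of_nonneg fun t => mul_self_nonneg _
      rw [Finset.sum_pair (Ne.symm hne)] at h2
      nlinarith [mul_self_pos.2 hu1, mul_self_pos.2 hc]
    refine ⟨u, ?_, hu0, fun j => by rw [hb j, add_zero], fun x hx hx1 hx2 => ?_⟩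
    · rw [hA, Finset.sum_eq_single u (fun t _ ht => hu0 t ht) (by simp)] at hAeq
      omega
    · have h0 : ip (S \ (P s ∪ T.set)) (w s i) (w s i) = 0 := by linarith
      exact mul_self_eq_zero.1 ((Finset.sum_eq_zero_iff_of_nonneg
        fun y _ => mul_self_nonneg (w s i y)).1 h0 x (Finset.mem_sdiff.2 ⟨hx, by simp [hx1, hx2]⟩))
  -- counting
  set O := Finset.univ.filter fun s => Disjoint (P s) T.set with hO
  choose f hf1 hf0 hfb hfsupp using fun (s : {s // Disjoint (P s) T.set}) => hout s.1 s.2 i₀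
  have hfne : ∀ s : {s // Disjoint (P s) T.set}, s.1 ≠ s₀ → f s ≠ T.t₀ := fun s hs e => by
    have := hf1 s
    rw [e, Six.k, T.ha₀, hw₀, if_neg hs, mul_zero] at this
    norm_num at this
  have hfinj : Function.Injective f := by
    intro s s' e
    by_contra hne
    have hne' : s.1 ≠ s'.1 := fun h => hne (Subtype.ext h)
    have h1 := hww i₀ s.1 s'.1
    rw [if_neg hne'] at h1
    have hz : ip S (w s.1 i₀) (w s'.1 i₀) = ip T.set (w s.1 i₀) (w s'.1 i₀) := by
      refine (Finset.sum_subset T.subset fun x hx hx' => ?_).symm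
      by_cases hxs : x ∈ P s.1
      · rw [hfsupp s' x hx (Finset.disjoint_left.1 (hPd _ _ hne') hxs) hx', mul_zero]
      · rw [hfsupp s x hx hxs hx', zero_mul]
    rw [hz] at h1
    unfold ip at h1
    rw [T.sum_set] at h1
    have hk : ∀ g g' : X → ℤ, ∀ x, g x * g' x = T.k g x * T.k g' x := fun g g' x => by
      unfold Six.k; linear_combination -(g x * g' x) * T.sq x
    simp only [hk (w s.1 i₀) (w s'.1 i₀), hfb] at h1
    rw [Finset.sum_eq_single (f s) (fun t _ ht => by rw [hf0 s t ht, zero_mul]) (by simp),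
      Finset.sum_eq_single i₀ (fun j _ hj => by rw [if_neg hj, zero_mul]) (by simp),
      hf1, e, hf1, if_pos rfl] at h1
    norm_num at h1
  have hfpair : ∀ (s : {s // Disjoint (P s) T.set}) t, ¬ Disjoint (P t) T.set →
      T.a (f s) ∉ P t := by
    intro s t ht hmem
    have hs : s.1 ≠ t := fun e => ht (e ▸ s.2)
    have h1 := hwv i₀ s.1 t
    rw [if_neg hs, hvP] at h1
    have hu := (hclass t).resolve_left ht
    unfold ip at h1
    rw [Finset.sum_eq_single (T.a (f s)) (fun x hx hne => ?_) (fun h => absurd hmem h)] at h1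
    · rcases mul_eq_zero.1 h1 with h2 | h2
      · have := hf1 s; rw [Six.k, h2, mul_zero] at this; norm_num at this
      · have := hP1 t _ hmem; rw [h2] at this; norm_num at this
    · obtain ⟨u, -, rfl⟩ := hu x hx
      have h3 := hf0 s u fun e => hne (congrArg T.a e)
      rw [Six.k] at h3
      rcases mul_eq_zero.1 h3 with h4 | h4
      · have := T.sq (T.a u); rw [h4] at this; norm_num at this
      · rw [h4, zero_mul]
  set Used : Finset X := ((Finset.univ.filter fun s : {s // Disjoint (P s) T.set} => s.1 ≠ s₀).image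
      fun s => T.a (f s)) ∪ (Finset.univ.filter fun t => ¬ Disjoint (P t) T.set).biUnion P
  have hUsed : Used ⊆ (Finset.univ.erase T.t₀).image T.a := by
    intro x hx
    rcases Finset.mem_union.1 hx with h | h
    · obtain ⟨s, hs, rfl⟩ := Finset.mem_image.1 h
      exact Finset.mem_image_of_mem _
        (Finset.mem_erase.2 ⟨hfne s (Finset.mem_filter.1 hs).2, Finset.mem_univ _⟩)
    · obtain ⟨t, ht, hxt⟩ := Finset.mem_biUnion.1 h
      obtain ⟨u, hu, rfl⟩ := (hclass t).resolve_left (Finset.mem_filter.1 ht).2 x hxt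
      exact Finset.mem_image_of_mem _ (Finset.mem_erase.2 ⟨hu, Finset.mem_univ _⟩)
  have hcount := Finset.card_le_card hUsed
  rw [Finset.card_union_of_disjoint (by
      rw [Finset.disjoint_left]
      intro x hx hx'
      obtain ⟨s, -, rfl⟩ := Finset.mem_image.1 hx
      obtain ⟨t, ht, hxt⟩ := Finset.mem_biUnion.1 hx'
      exact hfpair s t (Finset.mem_filter.1 ht).2 hxt),
    Finset.card_image_of_injective _ (show Function.Injective fun s => T.a (f s) from
      fun a b h => hfinj (T.inj_a h)),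
    Finset.card_biUnion (fun a _ b _ hab => hPd a b hab), Finset.sum_congr rfl fun t _ => hP2 t,
    Finset.sum_const, smul_eq_mul, Finset.card_image_of_injective _ T.inj_a,
    Finset.card_erase_of_mem (Finset.mem_univ _), Finset.card_univ, Fintype.card_fin] at hcount
  have hpart := Finset.card_filter_add_card_filter_not
    (s := (Finset.univ : Finset (Fin q))) (fun s => Disjoint (P s) T.set)
  rw [Finset.card_univ, Fintype.card_fin] at hpart
  have hlow : (Finset.univ.filter fun s => Disjoint (P s) T.set).card ≤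
      (Finset.univ.filter fun s : {s // Disjoint (P s) T.set} => s.1 ≠ s₀).card + 1 := by
    refine le_trans ?_ (Finset.card_image_le (f := fun s : {s // Disjoint (P s) T.set} => s.1)
      |> Nat.add_le_add_right (k := 1))
    refine le_trans ?_ (Finset.card_insert_le s₀ _)
    refine Finset.card_le_card fun s hs => ?_
    by_cases e : s = s₀
    · exact e ▸ Finset.mem_insert_self _ _
    · exact Finset.mem_insert_of_mem (Finset.mem_image.2
        ⟨⟨s, (Finset.mem_filter.1 hs).2⟩, Finset.mem_filter.2 ⟨Finset.mem_univ _, e⟩, rfl⟩)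
  have hq : 0 < q := Fin.pos s₀
  have hall : ∀ t, Disjoint (P t) T.set := by
    intro t
    by_contra ht
    have : 0 < (Finset.univ.filter fun t => ¬ Disjoint (P t) T.set).card :=
      Finset.card_pos.2 ⟨t, Finset.mem_filter.2 ⟨Finset.mem_univ _, ht⟩⟩
    omega
  exact ⟨P, hPS, hP2, hPd, hall, hP0, fun s i x hx h1 h2 => by
    obtain ⟨u, -, -, -, h⟩ := hout s (hall s) i
    exact h x hx h1 h2⟩

/-- Nine columns of units cannot occur in the group. -/
theorem not_nine (n : X → ℤ) {x₀ : X} (hx₀ : x₀ ∈ S) (h1 : n x₀ = 1)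
    (hle : ∀ x ∈ S, n x * n x ≤ 1) (h9 : (S.filter fun x => n x ≠ 0).card = 9)
    (v w : Fin 5 → X → ℤ)
    (hvv : ∀ s t, ip S (v s) (v t) = if s = t then 2 else 0)
    (hwv : ∀ s t, ip S (w s) (v t) = if s = t then 1 else 0)
    (hnv : ∀ t, ip S n (v t) = 0) (hnw : ∀ s, ip S n (w s) = 3)
    (hww : ∀ s, ip S (w s) (w s) = 3) (hv₀ : ∀ t, v t x₀ = 0) : False := by
  classical
  obtain ⟨P, hPS, hP2, hP0, hP1, hPd⟩ := pairs v w hvv hwv
  have hvP : ∀ t (f : X → ℤ), ip S f (v t) = ip (P t) f (v t) := fun t f =>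
    (Finset.sum_subset (hPS t) fun x hx hx' => by rw [hP0 t x hx hx', mul_zero]).symm
  have hin : ∀ t, P t ⊆ (S.filter fun x => n x ≠ 0).erase x₀ := by
    intro t
    obtain ⟨x, hx, y, hy, hxy, hPe, hsum⟩ := two_sum (hP2 t) n (v t)
    have hsq : n x * n x = n y * n y := by
      have h := hnv t
      rw [hvP, hsum] at h
      linear_combination (n x * v t x - n y * v t y) * h - (n x * n x) * hP1 t x hx +
        (n y * n y) * hP1 t y hy
    have hxne : n x ≠ 0 := by
      intro h0
      rw [h0, mul_zero] at hsq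
      have hy0 : n y = 0 := mul_self_eq_zero.1 hsq.symm
      -- an outside pair
      have hsplit := sum_split_sq (w t) (hPS t)
      rw [hww] at hsplit
      have hpair : 1 ≤ ip (P t) (w t) (w t) := one_le_pair (g := v t) (by
        rw [← hvP, hwv, if_pos rfl])
      have h3 := hnw t
      unfold ip at h3 hsplit hpair
      rw [← Finset.sum_sdiff (hPS t), hPe, Finset.sum_pair hxy, h0, hy0, zero_mul, zero_mul,
        add_zero, add_zero, ← hPe] at h3
      have hb : ∑ z ∈ S \ P t, n z * w t z ≤ ∑ z ∈ S \ P t, w t z * w t z := by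
        refine Finset.sum_le_sum fun z hz => ?_
        rcases unit_cases (le_trans (hle z (Finset.mem_sdiff.1 hz).1) (by norm_num : (1 : ℤ) ≤ 3))
          with e | e | e <;> rw [e]
        · simpa using le_mul_self_int (w t z)
        · simpa using mul_self_nonneg (w t z)
        · simpa using le_mul_self_int (-(w t z))
      omega
    intro z hz
    have hzn : n z ≠ 0 := by
      rw [hPe] at hz
      rcases Finset.mem_insert.1 hz with rfl | hz
      · exact hxne
      · rw [Finset.mem_singleton.1 hz]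
        intro h0; rw [h0, mul_zero] at hsq; exact hxne (mul_self_eq_zero.1 hsq)
    refine Finset.mem_erase.2 ⟨fun e => ?_, Finset.mem_filter.2 ⟨hPS t hz, hzn⟩⟩
    have := hP1 t z hz
    rw [e, hv₀] at this
    norm_num at this
  have hcount := Finset.card_le_card (Finset.biUnion_subset.2 fun t (_ : t ∈ Finset.univ) => hin t)
  rw [Finset.card_biUnion (fun a _ b _ hab => hPd a b hab), Finset.sum_congr rfl fun t _ => hP2 t,
    Finset.card_erase_of_mem (Finset.mem_filter.2 ⟨hx₀, by rw [h1]; norm_num⟩), h9] at hcount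
  simp at hcount

end Cfsg.Agent.ExtraThree
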