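import Cfsg.Agent.Lib.Char.Extraspecial
import Mathlib.GroupTheory.Sylow
import Mathlib.GroupTheory.Transfer

/-!
Fusion in a group with extraspecial Sylow `3`-subgroup of order 27 and exponent 3 whose normaliser
centralises the centre.
-/

set_option autoImplicit false
set_option linter.unusedSectionVars false
set_option linter.style.haveILetI false
set_option maxHeartbeats 1000000

namespace Cfsg.Agent.ExtraThree

open Subgroup

universe u

variable {G : Type u} [Group G] [Finite G]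

/-- The local hypotheses. -/
structure Loc (P : Sylow 3 G) (z : G) : Prop where
  card : Nat.card (P : Subgroup G) = 27
  exp : ∀ x ∈ (P : Subgroup G), x ^ 3 = 1
  zP : z ∈ (P : Subgroup G)
  zne : z ≠ 1
  zc : ∀ y ∈ (P : Subgroup G), Commute z y
  zonly : ∀ x ∈ (P : Subgroup G), (∀ y ∈ (P : Subgroup G), Commute x y) → x ∈ zpowers z
  comm : ∀ x ∈ (P : Subgroup G), ∀ y ∈ (P : Subgroup G), x * y * x⁻¹ * y⁻¹ ∈ zpowers z
  nz : ∀ g ∈ Subgroup.normalizer ((P : Subgroup G) : Set G), Commute g z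

/-- The elements conjugating `v` into its coset of `⟨z⟩`. -/
def kfix (z v : G) : Subgroup G where
  carrier := {k | Commute k z ∧ k * v * k⁻¹ * v⁻¹ ∈ zpowers z}
  one_mem' := ⟨Commute.one_left z, by simp⟩
  mul_mem' := by
    rintro k l ⟨hk, hk'⟩ ⟨hl, hl'⟩
    refine ⟨hk.mul_left hl, ?_⟩
    obtain ⟨i, hi⟩ := mem_zpowers_iff.1 hl'
    have e : k * l * v * (k * l)⁻¹ * v⁻¹ =
        k * (l * v * l⁻¹ * v⁻¹) * k⁻¹ * (k * v * k⁻¹ * v⁻¹) := by group
    rw [e, ← hi, (hk.zpow_right i).eq, mul_inv_cancel_right]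
    exact mul_mem (zpow_mem (mem_zpowers z) i) hk'
  inv_mem' := by
    rintro k ⟨hk, hk'⟩
    refine ⟨hk.inv_left, ?_⟩
    obtain ⟨i, hi⟩ := mem_zpowers_iff.1 hk'
    have e : k⁻¹ * v * k⁻¹⁻¹ * v⁻¹ = k⁻¹ * (k * v * k⁻¹ * v⁻¹)⁻¹ * k := by group
    rw [e, ← hi, ← zpow_neg, (hk.inv_left.zpow_right (-i)).eq, inv_mul_cancel_right]
    exact zpow_mem (mem_zpowers z) (-i)

theorem mem_kfix {z v k : G} :
    k ∈ kfix z v ↔ Commute k z ∧ k * v * k⁻¹ * v⁻¹ ∈ zpowers z := Iff.rfl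

namespace Loc

variable {P : Sylow 3 G} {z : G} (h : Loc P z)
include h

theorem elt_ord {x : G} (hx : x ∈ (P : Subgroup G)) (hne : x ≠ 1) : orderOf x = 3 :=
  orderOf_eq_prime (h.exp x hx) hne

theorem zord : orderOf z = 3 := h.elt_ord h.zP h.zne

theorem zne_inv : z ≠ z⁻¹ := by
  intro e
  have h2 : z ^ 2 = 1 := by rw [pow_two]; nth_rw 2 [e]; exact mul_inv_cancel z
  have := orderOf_dvd_of_pow_eq_one h2
  rw [h.zord] at this
  omega

theorem zcases {w : G} (hw : w ∈ zpowers z) : w = 1 ∨ w = z ∨ w = z⁻¹ := by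
  obtain ⟨i, rfl⟩ := mem_zpowers_iff.1 hw
  rw [← zpow_mod_orderOf, h.zord]
  have h0 : 0 ≤ i % ((3 : ℕ) : ℤ) := Int.emod_nonneg i (by norm_num)
  have h1 : i % ((3 : ℕ) : ℤ) < 3 := Int.emod_lt_of_pos i (by norm_num)
  generalize i % ((3 : ℕ) : ℤ) = j at h0 h1 ⊢
  interval_cases j
  · exact Or.inl (zpow_zero z)
  · exact Or.inr (Or.inl (zpow_one z))
  · refine Or.inr (Or.inr ?_)
    rw [eq_inv_iff_mul_eq_one, show z ^ (2 : ℤ) * z = z ^ 3 by
      rw [show (2 : ℤ) = ((2 : ℕ) : ℤ) from rfl, zpow_natCast, ← pow_succ]]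
    exact h.exp z h.zP

theorem zle : zpowers z ≤ (P : Subgroup G) := zpowers_le.2 h.zP

theorem out_ne_one {x : G} (hx : x ∉ zpowers z) : x ≠ 1 := fun e => hx (e ▸ one_mem _)

theorem conj_z {x : G} (hx : x ∈ (P : Subgroup G)) (hx' : x ∉ zpowers z) :
    ∃ p ∈ (P : Subgroup G), p * x * p⁻¹ = z * x := by
  obtain ⟨y, hy, hyx⟩ : ∃ y ∈ (P : Subgroup G), ¬ Commute x y := by
    by_contra hc
    push Not at hc
    exact hx' (h.zonly x hx hc)
  rcases h.zcases (h.comm y hy x hx) with e | e | e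
  · rw [mul_inv_eq_one, mul_inv_eq_iff_eq_mul] at e
    exact absurd e.symm hyx
  · exact ⟨y, hy, by rw [← e]; group⟩
  · refine ⟨y⁻¹, inv_mem hy, ?_⟩
    have e1 : y * x * y⁻¹ = z⁻¹ * x := by rw [← e]; group
    have e2 : z⁻¹ * (y⁻¹ * x * y) = x := by
      calc z⁻¹ * (y⁻¹ * x * y) = y⁻¹ * (z⁻¹ * x) * y := by
            rw [← mul_assoc, ← mul_assoc, ← mul_assoc,
              ((h.zc y⁻¹ (inv_mem hy)).inv_left).eq]
        _ = x := by rw [← e1]; group
    rw [inv_inv]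
    calc y⁻¹ * x * y = z * (z⁻¹ * (y⁻¹ * x * y)) := by group
      _ = z * x := by rw [e2]

theorem conj_coset {x w : G} (hx : x ∈ (P : Subgroup G)) (hx' : x ∉ zpowers z)
    (hw : w * x⁻¹ ∈ zpowers z) : ∃ p ∈ (P : Subgroup G), p * x * p⁻¹ = w := by
  obtain ⟨p, hp, hpx⟩ := h.conj_z hx hx'
  have hw' : w = w * x⁻¹ * x := by group
  rcases h.zcases hw with e | e | e <;> rw [e] at hw' <;> subst hw'
  · exact ⟨1, one_mem _, by group⟩
  · exact ⟨p, hp, hpx⟩
  · refine ⟨p⁻¹, inv_mem hp, ?_⟩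
    have e2 : z * (p⁻¹ * x * p) = x := by
      calc z * (p⁻¹ * x * p) = p⁻¹ * (z * x) * p := by
            rw [← mul_assoc, ← mul_assoc, ← mul_assoc, (h.zc p⁻¹ (inv_mem hp)).eq]
        _ = x := by rw [← hpx]; group
    calc p⁻¹ * x * p⁻¹⁻¹ = z⁻¹ * (z * (p⁻¹ * x * p)) := by group
      _ = z⁻¹ * x := by rw [e2]

theorem le_kfix {v : G} (hv : v ∈ (P : Subgroup G)) :
    (P : Subgroup G) ⊔ centralizer ((P : Subgroup G) : Set G) ≤ kfix z v := by
  refine sup_le (fun p hp => ⟨(h.zc p hp).symm, h.comm p hp v hv⟩) fun c hc => ?_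
  have hc' := mem_centralizer_iff.1 hc
  refine ⟨(hc' z h.zP).symm, ?_⟩
  rw [← hc' v hv]
  simp

/-- The centraliser in `P` of a noncentral element. -/
theorem cent {x : G} (hx : x ∈ (P : Subgroup G)) (hx' : x ∉ zpowers z) :
    (P : Subgroup G) ⊓ centralizer ({x} : Set G) = zpowers z ⊔ zpowers x ∧
      Nat.card ↥(zpowers z ⊔ zpowers x) = 9 := by
  haveI : Fact (Nat.Prime 3) := ⟨Nat.prime_three⟩
  set R := zpowers z ⊔ zpowers x
  set D := (P : Subgroup G) ⊓ centralizer ({x} : Set G) with hD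
  have hRD : R ≤ D := sup_le
    (le_inf h.zle (zpowers_le.2 (mem_centralizer_singleton_iff.2 (h.zc x hx).eq)))
    (le_inf (zpowers_le.2 hx) (zpowers_le.2 (mem_centralizer_singleton_iff.2 rfl)))
  have hD27 : Nat.card D ∣ 3 ^ 3 := by
    have := card_dvd_of_le (inf_le_left : D ≤ (P : Subgroup G))
    rwa [h.card] at this
  have hne : Nat.card D ≠ 27 := by
    intro e
    have : D = (P : Subgroup G) := Subgroup.eq_of_le_of_card_ge inf_le_left (by rw [e, h.card])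
    refine hx' (h.zonly x hx fun y hy => ?_)
    have hyD : y ∈ D := by rw [this]; exact hy
    exact (mem_centralizer_singleton_iff.1 hyD.2).symm
  have hR3 : 3 < Nat.card R := by
    have h1 : zpowers z < R :=
      lt_of_le_of_ne le_sup_left fun e => hx' (e ▸ mem_sup_right (mem_zpowers x))
    have h2 := Nat.card_zpowers z
    rw [h.zord] at h2
    by_contra hle
    exact h1.ne (Subgroup.eq_of_le_of_card_ge h1.le (by omega))
  have hRd : Nat.card R ∣ 3 ^ 3 := (card_dvd_of_le hRD).trans hD27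
  have hle : Nat.card R ≤ Nat.card D := Nat.le_of_dvd Nat.card_pos (card_dvd_of_le hRD)
  obtain ⟨a, ha, hae⟩ := (Nat.dvd_prime_pow Nat.prime_three).1 hRd
  obtain ⟨b, hb, hbe⟩ := (Nat.dvd_prime_pow Nat.prime_three).1 hD27
  have : a = 2 ∧ b = 2 := by
    interval_cases a <;> interval_cases b <;> omega
  obtain ⟨rfl, rfl⟩ := this
  exact ⟨(Subgroup.eq_of_le_of_card_ge hRD (by omega)).symm, by omega⟩

theorem zinv : ¬ IsConj z z⁻¹ := by
  haveI : Fact (Nat.Prime 3) := ⟨Nat.prime_three⟩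
  intro hc
  obtain ⟨c, hc⟩ := isConj_iff.1 hc
  have hzc : z ∈ centralizer ((P : Subgroup G) : Set G) :=
    mem_centralizer_iff.2 fun y hy => ((h.zc y hy).eq).symm
  obtain ⟨n, hn, he⟩ := P.conj_eq_normalizer_conj_of_mem_centralizer z c⁻¹ hzc
    (by rw [inv_inv, hc]; exact inv_mem hzc)
  rw [inv_inv, hc, mul_assoc, ← (h.nz n hn).eq, inv_mul_cancel_left] at he
  exact h.zne_inv he.symm

theorem sylow_above {x : G} {E : Subgroup G} (hE : IsPGroup 3 E)
    (hEx : E ≤ centralizer ({x} : Set G))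
    (h27 : 27 ∣ Nat.card ↥(centralizer ({x} : Set G))) :
    ∃ Q : Sylow 3 G, E ≤ (Q : Subgroup G) ∧ (Q : Subgroup G) ≤ centralizer ({x} : Set G) := by
  haveI : Fact (Nat.Prime 3) := ⟨Nat.prime_three⟩
  set C := centralizer ({x} : Set G)
  obtain ⟨S, hS⟩ := (hE.comap_subtype (K := C)).exists_le_sylow
  have hSc : 27 ∣ Nat.card (S : Subgroup C) :=
    S.pow_dvd_card_of_pow_dvd_card (n := 3) h27
  have hSp : IsPGroup 3 ((S : Subgroup C).map C.subtype) := S.isPGroup'.map _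
  obtain ⟨Q, hQ⟩ := hSp.exists_le_sylow
  have hQc : Nat.card (Q : Subgroup G) = 27 := by
    rw [Q.card_eq_multiplicity, ← P.card_eq_multiplicity, h.card]
  have hEq : (S : Subgroup C).map C.subtype = Q := by
    refine Subgroup.eq_of_le_of_card_ge hQ ?_
    rw [hQc, Subgroup.card_map_of_injective C.subtype_injective]
    exact Nat.le_of_dvd Nat.card_pos hSc
  refine ⟨Q, ?_, hEq ▸ map_subtype_le _⟩
  rw [← hEq]
  intro e he
  exact ⟨⟨e, hEx he⟩, hS (show (⟨e, hEx he⟩ : C) ∈ E.comap C.subtype from he), rfl⟩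

theorem central_of_sylow {Q : Sylow 3 G} {x g : G} (hg : g • P = Q)
    (hQ : (Q : Subgroup G) ≤ centralizer ({x} : Set G)) (hx : x ∈ (Q : Subgroup G)) :
    g⁻¹ * x * g ∈ zpowers z := by
  subst hg
  have hmem : ∀ q, q ∈ ((g • P : Sylow 3 G) : Subgroup G) ↔ g⁻¹ * q * g ∈ (P : Subgroup G) := by
    intro q
    rw [Sylow.coe_subgroup_smul, mem_pointwise_smul_iff_inv_smul_mem]
    simp [MulAut.smul_def]
  refine h.zonly _ ((hmem x).1 hx) fun y hy => ?_
  have hq : g * y * g⁻¹ ∈ ((g • P : Sylow 3 G) : Subgroup G) := (hmem _).2 (by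
    rwa [show g⁻¹ * (g * y * g⁻¹) * g = y by group])
  have hc := mem_centralizer_singleton_iff.1 (hQ hq)
  show g⁻¹ * x * g * y = y * (g⁻¹ * x * g)
  calc g⁻¹ * x * g * y = g⁻¹ * (x * (g * y * g⁻¹)) * g := by group
    _ = g⁻¹ * (g * y * g⁻¹ * x) * g := by rw [hc]
    _ = y * (g⁻¹ * x * g) := by group

theorem z_out {x : G} (hx : x ∈ (P : Subgroup G)) (hx' : x ∉ zpowers z) : ¬ IsConj z x := by
  haveI : Fact (Nat.Prime 3) := ⟨Nat.prime_three⟩
  intro hc
  obtain ⟨c, hc⟩ := isConj_iff.1 hc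
  obtain ⟨hD, -⟩ := h.cent hx hx'
  have hEle : zpowers z ⊔ zpowers x ≤ centralizer ({x} : Set G) := hD ▸ inf_le_right
  have hEp : IsPGroup 3 ↥(zpowers z ⊔ zpowers x) :=
    P.isPGroup'.to_le (hD ▸ inf_le_left)
  have h27 : 27 ∣ Nat.card ↥(centralizer ({x} : Set G)) := by
    have hle : (P : Subgroup G).map (MulAut.conj c).toMonoidHom ≤ centralizer ({x} : Set G) := by
      rintro _ ⟨p, hp, rfl⟩
      refine mem_centralizer_singleton_iff.2 ?_
      rw [← hc]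
      show c * p * c⁻¹ * (c * z * c⁻¹) = c * z * c⁻¹ * (c * p * c⁻¹)
      calc c * p * c⁻¹ * (c * z * c⁻¹) = c * (p * z) * c⁻¹ := by group
        _ = c * (z * p) * c⁻¹ := by rw [(h.zc p hp).eq]
        _ = _ := by group
    have h1 := card_dvd_of_le hle
    rwa [Subgroup.card_map_of_injective (MulAut.conj c).injective, h.card] at h1
  obtain ⟨Q, hEQ, hQ⟩ := h.sylow_above hEp hEle h27
  obtain ⟨g, hg⟩ := MulAction.exists_smul_eq G P Q
  have hxQ : x ∈ (Q : Subgroup G) := hEQ (mem_sup_right (mem_zpowers x))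
  have hzQ : z ∈ (Q : Subgroup G) := hEQ (mem_sup_left (mem_zpowers z))
  have hxz := h.central_of_sylow hg hQ hxQ
  have hmem : ∀ q, q ∈ (Q : Subgroup G) ↔ g⁻¹ * q * g ∈ (P : Subgroup G) := by
    intro q
    rw [← hg, Sylow.coe_subgroup_smul, mem_pointwise_smul_iff_inv_smul_mem]
    simp [MulAut.smul_def]
  have hz' : g⁻¹ * z * g ∉ zpowers z := by
    intro hm
    rcases h.zcases hm with e | e | e
    · exact h.zne (by rw [show z = g * (g⁻¹ * z * g) * g⁻¹ by group, e]; group)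
    · have hgz : Commute g z := by
        have h2 := congrArg (g * ·) e
        show g * z = z * g
        simpa [mul_assoc] using h2.symm
      refine hx' ?_
      obtain ⟨i, hi⟩ := mem_zpowers_iff.1 hxz
      rw [show x = g * (g⁻¹ * x * g) * g⁻¹ by group, ← hi, (hgz.zpow_right i).eq,
        mul_inv_cancel_right]
      exact zpow_mem (mem_zpowers z) i
    · exact h.zinv (isConj_iff.2 ⟨g⁻¹, by rw [inv_inv]; exact e⟩)
  obtain ⟨p, hp, hpz⟩ : ∃ p ∈ (Q : Subgroup G), p * z * p⁻¹ = x * z := by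
    have hxne : g⁻¹ * x * g ≠ 1 := fun e => h.out_ne_one hx'
      (by rw [show x = g * (g⁻¹ * x * g) * g⁻¹ by group, e]; group)
    obtain ⟨p, hp, hpx⟩ := h.conj_coset ((hmem z).1 hzQ) hz'
      (w := g⁻¹ * x * g * (g⁻¹ * z * g)) (by rw [mul_inv_cancel_right]; exact hxz)
    refine ⟨g * p * g⁻¹, (hmem _).2 (by
      rwa [show g⁻¹ * (g * p * g⁻¹) * g = p by group]), ?_⟩
    calc g * p * g⁻¹ * z * (g * p * g⁻¹)⁻¹ = g * (p * (g⁻¹ * z * g) * p⁻¹) * g⁻¹ := by group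
      _ = _ := by rw [hpx]; group
  obtain ⟨a, ha, hax⟩ := h.conj_z hx hx'
  have haz : a * z * a⁻¹ = z := by rw [← (h.zc a ha).eq, mul_inv_cancel_right]
  have hpx : p * x * p⁻¹ = x := by
    rw [mem_centralizer_singleton_iff.1 (hQ hp), mul_inv_cancel_right]
  have hxzc : z * x = x * z := (h.zc x hx).eq
  have hpiz : p⁻¹ * z * p = x⁻¹ * z := by
    have h1 : p⁻¹ * x * p = x := by
      calc p⁻¹ * x * p = p⁻¹ * (p * x * p⁻¹) * p := by rw [hpx]
        _ = x := by group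
    calc p⁻¹ * z * p = x⁻¹ * (x * (p⁻¹ * z * p)) := by group
      _ = x⁻¹ * ((p⁻¹ * x * p) * (p⁻¹ * z * p)) := by rw [h1]
      _ = x⁻¹ * (p⁻¹ * (p * z * p⁻¹) * p) := by rw [hpz]; group
      _ = x⁻¹ * z := by group
  have hpix : p⁻¹ * x * p = x := by
    calc p⁻¹ * x * p = p⁻¹ * (p * x * p⁻¹) * p := by rw [hpx]
      _ = x := by group
  set t := a * p⁻¹ * a with ht
  have htx : t * x * t⁻¹ = z := by
    calc t * x * t⁻¹ = a * (p⁻¹ * (a * x * a⁻¹) * p) * a⁻¹ := by rw [ht]; group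
      _ = a * ((p⁻¹ * z * p) * (p⁻¹ * x * p)) * a⁻¹ := by rw [hax]; group
      _ = a * (x⁻¹ * (z * x)) * a⁻¹ := by rw [hpiz, hpix]; group
      _ = a * z * a⁻¹ := by rw [hxzc]; group
      _ = z := haz
  have htz : t * z * t⁻¹ = x⁻¹ := by
    calc t * z * t⁻¹ = a * (p⁻¹ * (a * z * a⁻¹) * p) * a⁻¹ := by rw [ht]; group
      _ = a * (x⁻¹ * z) * a⁻¹ := by rw [haz, hpiz]
      _ = (a * x * a⁻¹)⁻¹ * (a * z * a⁻¹) := by group
      _ = (z * x)⁻¹ * z := by rw [hax, haz]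
      _ = x⁻¹ := by group
  refine h.zinv (isConj_iff.2 ⟨t * t, ?_⟩)
  calc t * t * z * (t * t)⁻¹ = t * (t * z * t⁻¹) * t⁻¹ := by group
    _ = (t * x * t⁻¹)⁻¹ := by rw [htz]; group
    _ = z⁻¹ := by rw [htx]

theorem zinv_out {x : G} (hx : x ∈ (P : Subgroup G)) (hx' : x ∉ zpowers z) :
    ¬ IsConj z⁻¹ x := by
  intro hc
  obtain ⟨c, hc⟩ := isConj_iff.1 hc
  refine h.z_out (inv_mem hx) (fun e => hx' (inv_mem_iff.1 e)) (isConj_iff.2 ⟨c, ?_⟩)
  rw [← hc]; group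

theorem z_of_mem {g : G} (hg : g * z * g⁻¹ ∈ (P : Subgroup G)) : g * z * g⁻¹ = z := by
  by_cases hm : g * z * g⁻¹ ∈ zpowers z
  · rcases h.zcases hm with e | e | e
    · exact absurd (by rw [show z = g⁻¹ * (g * z * g⁻¹) * g by group, e]; group) h.zne
    · exact e
    · exact absurd (isConj_iff.2 ⟨g, e⟩) h.zinv
  · exact absurd (isConj_iff.2 ⟨g, rfl⟩) (h.z_out hg hm)

theorem card_cent_not_dvd {v : G} (hv : v ∈ (P : Subgroup G)) (hv' : v ∉ zpowers z) :
    ¬ 27 ∣ Nat.card ↥(centralizer ({v} : Set G)) := by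
  haveI : Fact (Nat.Prime 3) := ⟨Nat.prime_three⟩
  intro h27
  obtain ⟨hD, -⟩ := h.cent hv hv'
  obtain ⟨Q, hEQ, hQ⟩ := h.sylow_above (P.isPGroup'.to_le (hD ▸ inf_le_left))
    (hD ▸ inf_le_right) h27
  obtain ⟨g, hg⟩ := MulAction.exists_smul_eq G P Q
  have hvz := h.central_of_sylow hg hQ (hEQ (mem_sup_right (mem_zpowers v)))
  rcases h.zcases hvz with e | e | e
  · exact h.out_ne_one hv' (by rw [show v = g * (g⁻¹ * v * g) * g⁻¹ by group, e]; group)
  · exact h.z_out hv hv' (isConj_iff.2 ⟨g, by rw [← e]; group⟩)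
  · exact h.zinv_out hv hv' (isConj_iff.2 ⟨g, by rw [← e]; group⟩)

theorem sylow_cent {v : G} (hv : v ∈ (P : Subgroup G)) (hv' : v ∉ zpowers z) {R : Subgroup G}
    (hRv : R ≤ centralizer ({v} : Set G)) (hR : Nat.card R = 9) :
    ∃ S : Sylow 3 ↥(centralizer ({v} : Set G)),
      (S : Subgroup ↥(centralizer ({v} : Set G))).map (centralizer ({v} : Set G)).subtype = R := by
  haveI : Fact (Nat.Prime 3) := ⟨Nat.prime_three⟩
  set C := centralizer ({v} : Set G)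
  have hRp : IsPGroup 3 R := IsPGroup.of_card (n := 2) (by rw [hR]; norm_num)
  obtain ⟨S, hS⟩ := (hRp.comap_subtype (K := C)).exists_le_sylow
  refine ⟨S, ?_⟩
  have hle : R ≤ (S : Subgroup C).map C.subtype := fun r hr =>
    ⟨⟨r, hRv hr⟩, hS (show (⟨r, hRv hr⟩ : C) ∈ R.comap C.subtype from hr), rfl⟩
  refine (Subgroup.eq_of_le_of_card_ge hle ?_).symm
  rw [Subgroup.card_map_of_injective C.subtype_injective, hR]
  obtain ⟨m, hm⟩ := S.isPGroup'.exists_card_eq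
  rw [hm]
  have h3 : m ≤ 2 := by
    by_contra h3
    refine h.card_cent_not_dvd hv hv' ((pow_dvd_pow 3 (show 3 ≤ m by omega)).trans ?_)
    rw [← hm]
    exact card_subgroup_dvd_card _
  calc 3 ^ m ≤ 3 ^ 2 := Nat.pow_le_pow_right (by norm_num) h3
    _ = 9 := by norm_num

/-- Conjugate noncentral elements of `P` are conjugate in the normaliser. -/
theorem fusion {x y : G} (hx : x ∈ (P : Subgroup G)) (hx' : x ∉ zpowers z)
    (hy : y ∈ (P : Subgroup G)) (hy' : y ∉ zpowers z) (hxy : IsConj x y) :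
    ∃ n ∈ Subgroup.normalizer ((P : Subgroup G) : Set G), n * x * n⁻¹ = y := by
  haveI : Fact (Nat.Prime 3) := ⟨Nat.prime_three⟩
  obtain ⟨g, hg⟩ := isConj_iff.1 hxy
  set C := centralizer ({y} : Set G)
  obtain ⟨hDy, hRy⟩ := h.cent hy hy'
  obtain ⟨hDx, hRx⟩ := h.cent hx hx'
  set Ry := zpowers z ⊔ zpowers y
  set Rx := zpowers z ⊔ zpowers x
  have hRyC : Ry ≤ C := hDy ▸ inf_le_right
  have hgRC : Rx.map (MulAut.conj g).toMonoidHom ≤ C := by
    rintro _ ⟨r, hr, rfl⟩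
    have hr' : r ∈ centralizer ({x} : Set G) := (hDx ▸ inf_le_right : Rx ≤ _) hr
    refine mem_centralizer_singleton_iff.2 ?_
    rw [← hg]
    show g * r * g⁻¹ * (g * x * g⁻¹) = g * x * g⁻¹ * (g * r * g⁻¹)
    calc g * r * g⁻¹ * (g * x * g⁻¹) = g * (r * x) * g⁻¹ := by group
      _ = g * (x * r) * g⁻¹ := by rw [mem_centralizer_singleton_iff.1 hr']
      _ = _ := by group
  obtain ⟨S, hS⟩ := h.sylow_cent hy hy' hRyC hRy
  obtain ⟨T, hT⟩ := h.sylow_cent hy hy' hgRC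
    (by rw [Subgroup.card_map_of_injective (MulAut.conj g).injective, hRx])
  obtain ⟨c, hc⟩ := MulAction.exists_smul_eq C T S
  set g' := (c : G) * g with hg'
  have hg'x : g' * x * g'⁻¹ = y := by
    have hcy := mem_centralizer_singleton_iff.1 c.2
    calc g' * x * g'⁻¹ = (c : G) * (g * x * g⁻¹) * (c : G)⁻¹ := by rw [hg']; group
      _ = y := by rw [hg, hcy, mul_inv_cancel_right]
  have hzmem : g' * z * g'⁻¹ ∈ Ry := by
    obtain ⟨t, ht, hte⟩ : g * z * g⁻¹ ∈ (T : Subgroup C).map C.subtype :=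
      hT.ge ⟨z, mem_sup_left (mem_zpowers z), rfl⟩
    rw [← hS, ← hc]
    refine ⟨c * t * c⁻¹, ?_, ?_⟩
    · rw [SetLike.mem_coe, Sylow.coe_subgroup_smul, mem_pointwise_smul_iff_inv_smul_mem]
      simp [MulAut.smul_def, mul_assoc]
      exact ht
    · have hte' : (t : G) = g * z * g⁻¹ := hte
      show (c : G) * (t : G) * (c : G)⁻¹ = g' * z * g'⁻¹
      rw [hte', hg']; group
  have hgz : Commute g' z := by
    have e := h.z_of_mem ((hDy ▸ inf_le_left : Ry ≤ _) hzmem)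
    exact mul_inv_eq_iff_eq_mul.1 e
  set K := kfix z y
  have hPK : (P : Subgroup G) ≤ K := le_sup_left.trans (h.le_kfix hy)
  have hQK : ((g' • P : Sylow 3 G) : Subgroup G) ≤ K := by
    intro q hq
    rw [Sylow.coe_subgroup_smul, mem_pointwise_smul_iff_inv_smul_mem] at hq
    have hp : g'⁻¹ * q * g' ∈ (P : Subgroup G) := by simpa [MulAut.smul_def] using hq
    obtain ⟨hpz, hpx⟩ := le_sup_left.trans (h.le_kfix hx) hp
    set p := g'⁻¹ * q * g' with hpdef
    have hqe : q = g' * p * g'⁻¹ := by rw [hpdef]; group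
    refine mem_kfix.2 ⟨?_, ?_⟩
    · rw [hqe]
      exact (hgz.mul_left hpz).mul_left hgz.inv_left
    · obtain ⟨i, hi⟩ := mem_zpowers_iff.1 hpx
      have e : q * y * q⁻¹ * y⁻¹ = g' * (p * x * p⁻¹ * x⁻¹) * g'⁻¹ := by
        rw [hqe, ← hg'x]; group
      rw [e, ← hi, (hgz.zpow_right i).eq, mul_inv_cancel_right]
      exact zpow_mem (mem_zpowers z) i
  obtain ⟨k, hk⟩ := MulAction.exists_smul_eq K ((g' • P).subtype hQK) (P.subtype hPK)
  rw [Sylow.smul_subtype] at hk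
  have hk' := Sylow.subtype_injective hk
  rw [Subgroup.smul_def, smul_smul] at hk'
  set n := (k : G) * g' with hn
  have hnN : n ∈ Subgroup.normalizer ((P : Subgroup G) : Set G) :=
    Sylow.smul_eq_iff_mem_normalizer.1 hk'
  obtain ⟨-, hky⟩ := mem_kfix.1 k.2
  have hny : n * x * n⁻¹ = (k : G) * y * (k : G)⁻¹ := by rw [hn, ← hg'x]; group
  have hmemP : n * x * n⁻¹ ∈ (P : Subgroup G) := (mem_normalizer_iff.1 hnN x).1 hx
  have hout : n * x * n⁻¹ ∉ zpowers z := by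
    intro e
    obtain ⟨i, hi⟩ := mem_zpowers_iff.1 e
    refine hx' ?_
    rw [show x = n⁻¹ * (n * x * n⁻¹) * n by group, ← hi,
      ((h.nz n hnN).inv_left.zpow_right i).eq, inv_mul_cancel_right]
    exact zpow_mem (mem_zpowers z) i
  obtain ⟨p, hp, hpy⟩ := h.conj_coset hmemP hout (w := y) (by
    rw [hny, show y * ((k : G) * y * (k : G)⁻¹)⁻¹ = ((k : G) * y * (k : G)⁻¹ * y⁻¹)⁻¹ by group]
    exact inv_mem hky)
  exact ⟨p * n, mul_mem (le_normalizer hp) hnN, by rw [← hpy]; group⟩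

end Loc

end Cfsg.Agent.ExtraThree
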