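import Mathlib.Algebra.BigOperators.Group.Finset.Basic
import Mathlib.Algebra.Order.BigOperators.Group.Finset
import Mathlib.Data.Fintype.Card
import Mathlib.Data.Fintype.BigOperators
import Mathlib.Tactic

/-!
Integral vectors of small norm: stars, and the shape of the columns of a principal `3`-block at
the elements outside the centre of an extraspecial defect group of order 27.
-/

set_option autoImplicit false
set_option linter.unusedSectionVars false

namespace Cfsg.Agent.ExtraThree

variable {X : Type*} [DecidableEq X] {S : Finset X}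

/-- The scalar product over a finite set. -/
def ip (S : Finset X) (f g : X → ℤ) : ℤ := ∑ x ∈ S, f x * g x

theorem ip_comm (f g : X → ℤ) : ip S f g = ip S g f :=
  Finset.sum_congr rfl fun x _ => mul_comm _ _

theorem sq_le_ip {f : X → ℤ} {x : X} (hx : x ∈ S) : f x * f x ≤ ip S f f :=
  Finset.single_le_sum (f := fun y => f y * f y) (fun y _ => mul_self_nonneg (f y)) hx

theorem sum_split_sq (f : X → ℤ) {T : Finset X} (hT : T ⊆ S) :
    ip S f f = ip T f f + ip (S \ T) f f := by
  unfold ip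
  rw [add_comm, Finset.sum_sdiff hT]

theorem ip_eq_two_point {f g : X → ℤ} {x y : X} (hx : x ∈ S) (hy : y ∈ S) (hxy : x ≠ y)
    (h : ∀ z ∈ S, z ≠ x → z ≠ y → f z = 0) : ip S f g = f x * g x + f y * g y := by
  unfold ip
  rw [← Finset.sum_subset (s₁ := {x, y})]
  · rw [Finset.sum_pair hxy]
  · intro z hz
    rcases Finset.mem_insert.1 hz with rfl | hz
    · exact hx
    · rwa [Finset.mem_singleton.1 hz]
  · intro z hz hz'
    simp only [Finset.mem_insert, Finset.mem_singleton, not_or] at hz'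
    rw [h z hz hz'.1 hz'.2, zero_mul]

theorem unit_cases {a : ℤ} (h : a * a ≤ 3) : a = 1 ∨ a = 0 ∨ a = -1 := by
  have h1 : -2 < a ∧ a < 2 := ⟨by nlinarith, by nlinarith⟩
  omega

theorem card_support {f : X → ℤ} {T : Finset X} (h : ∀ x ∈ T, f x * f x ≤ 3) :
    ip T f f = ((T.filter fun x => f x ≠ 0).card : ℤ) := by
  rw [Finset.card_filter]
  push_cast
  refine Finset.sum_congr rfl fun x hx => ?_
  rcases unit_cases (h x hx) with e | e | e <;> simp [e]

/-- A vector of norm two. -/
theorem two_entries {f : X → ℤ} (h : ip S f f = 2) :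
    ∃ x ∈ S, ∃ y ∈ S, x ≠ y ∧ f x * f x = 1 ∧ f y * f y = 1 ∧
      ∀ z ∈ S, z ≠ x → z ≠ y → f z = 0 := by
  have hle : ∀ x ∈ S, f x * f x ≤ 3 := fun x hx => by
    have := sq_le_ip (f := f) hx; omega
  have hc : (S.filter fun x => f x ≠ 0).card = 2 := by
    have := card_support hle; omega
  obtain ⟨x, y, hxy, he⟩ := Finset.card_eq_two.1 hc
  have hx : x ∈ S.filter fun x => f x ≠ 0 := he ▸ Finset.mem_insert_self x {y}
  have hy : y ∈ S.filter fun x => f x ≠ 0 :=
    he ▸ Finset.mem_insert_of_mem (Finset.mem_singleton_self y)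
  obtain ⟨hxS, hx0⟩ := Finset.mem_filter.1 hx
  obtain ⟨hyS, hy0⟩ := Finset.mem_filter.1 hy
  refine ⟨x, hxS, y, hyS, hxy, ?_, ?_, fun z hz h1 h2 => ?_⟩
  · rcases unit_cases (hle x hxS) with e | e | e <;> simp_all
  · rcases unit_cases (hle y hyS) with e | e | e <;> simp_all
  · by_contra h0
    have hm : z ∈ S.filter fun x => f x ≠ 0 := Finset.mem_filter.2 ⟨hz, h0⟩
    rw [he, Finset.mem_insert, Finset.mem_singleton] at hm
    tauto

theorem mul_unit_cases {a b : ℤ} (ha : a * a = 1) (hb : b = 1 ∨ b = 0 ∨ b = -1) :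
    (a * b = 1 ∧ b = a) ∨ (a * b = 0 ∧ b = 0) ∨ (a * b = -1 ∧ b = -a) := by
  rcases Int.eq_one_or_neg_one_of_mul_eq_one ha with e | e <;> rcases hb with h | h | h <;>
    subst e <;> subst h <;> norm_num

/-- Vectors of norm two with scalar products one form a star, or a triangle. -/
theorem star {m : ℕ} (f : Fin m → X → ℤ) (i₀ : Fin m) (h2 : ∀ i, ip S (f i) (f i) = 2)
    (h1 : ∀ i j, i ≠ j → ip S (f i) (f j) = 1) :
    (∃ x ∈ S, ∃ s : ℤ, s * s = 1 ∧ ∃ y : Fin m → X, Function.Injective y ∧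
      ∀ i, y i ∈ S ∧ y i ≠ x ∧ f i x = s ∧ f i (y i) * f i (y i) = 1 ∧
        ∀ z ∈ S, z ≠ x → z ≠ y i → f i z = 0) ∨
    (m = 3 ∧ ∀ g : X → ℤ, Even (∑ i, ip S g (f i))) := by
  obtain ⟨x, hx, y, hy, hxy, hfx, hfy, hf0⟩ := two_entries (h2 i₀)
  have hu : ∀ i, ∀ z ∈ S, f i z = 1 ∨ f i z = 0 ∨ f i z = -1 := fun i z hz =>
    unit_cases (by have := sq_le_ip (f := f i) hz; rw [h2 i] at this; omega)
  have htype : ∀ j, j ≠ i₀ → (f j x = f i₀ x ∧ f j y = 0) ∨ (f j x = 0 ∧ f j y = f i₀ y) := by
    intro j hj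
    have e := h1 i₀ j (Ne.symm hj)
    rw [ip_eq_two_point hx hy hxy hf0] at e
    rcases mul_unit_cases hfx (hu j x hx) with ⟨p1, q1⟩ | ⟨p1, q1⟩ | ⟨p1, q1⟩ <;>
      rcases mul_unit_cases hfy (hu j y hy) with ⟨p2, q2⟩ | ⟨p2, q2⟩ | ⟨p2, q2⟩ <;>
      rw [p1, p2] at e <;> first | omega | exact Or.inl ⟨q1, q2⟩ | exact Or.inr ⟨q1, q2⟩
  have hstar : ∀ x' ∈ S, ∀ y' ∈ S, x' ≠ y' → f i₀ x' * f i₀ x' = 1 → f i₀ y' * f i₀ y' = 1 →
      (∀ z ∈ S, z ≠ x' → z ≠ y' → f i₀ z = 0) → (∀ j, j ≠ i₀ → f j x' = f i₀ x') →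
      ∃ x ∈ S, ∃ s : ℤ, s * s = 1 ∧ ∃ y : Fin m → X, Function.Injective y ∧
        ∀ i, y i ∈ S ∧ y i ≠ x ∧ f i x = s ∧ f i (y i) * f i (y i) = 1 ∧
          ∀ z ∈ S, z ≠ x → z ≠ y i → f i z = 0 := by
    intro x hx y hy hxy hfx hfy hf0 hall
    have hall' : ∀ i, f i x = f i₀ x := fun i => by
      by_cases h : i = i₀
      · rw [h]
      · exact hall i h
    have hex : ∀ i, ∃ w ∈ S, w ≠ x ∧ f i w * f i w = 1 ∧
        ∀ z ∈ S, z ≠ x → z ≠ w → f i z = 0 := by
      intro i
      obtain ⟨a, ha, b, hb, hab, hfa, hfb, h0⟩ := two_entries (h2 i)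
      have hxne : f i x ≠ 0 := by rw [hall' i]; intro h; rw [h] at hfx; simp at hfx
      rcases eq_or_ne x a with e | e
      · exact ⟨b, hb, fun h => hab (by rw [← e, h]), hfb, fun z hz h1 h2 => h0 z hz (e ▸ h1) h2⟩
      · rcases eq_or_ne x b with e' | e'
        · exact ⟨a, ha, fun h => hab (by rw [← e', h]), hfa,
            fun z hz h1 h2 => h0 z hz h2 (e' ▸ h1)⟩
        · exact absurd (h0 x hx e e') hxne
    choose w hwS hwx hw1 hw0 using hex
    refine ⟨x, hx, f i₀ x, hfx, w, fun i j hij => ?_, fun i =>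
      ⟨hwS i, hwx i, hall' i, hw1 i, hw0 i⟩⟩
    by_contra hne
    have e := h1 i j hne
    rw [ip_eq_two_point hx (hwS i) (hwx i).symm (hw0 i), hall' i, hall' j, hfx] at e
    have e' : f i (w i) * f j (w j) = 0 := by rw [hij] at e ⊢; omega
    rcases mul_eq_zero.1 e' with h | h
    · have := hw1 i; rw [h] at this; simp at this
    · have := hw1 j; rw [h] at this; simp at this
  by_cases hX : ∀ j, j ≠ i₀ → f j x = f i₀ x
  · exact Or.inl (hstar x hx y hy hxy hfx hfy hf0 hX)
  by_cases hY : ∀ j, j ≠ i₀ → f j y = f i₀ y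
  · exact Or.inl (hstar y hy x hx hxy.symm hfy hfx (fun z hz h1 h2 => hf0 z hz h2 h1) hY)
  push Not at hX hY
  obtain ⟨k, hk0, hkx⟩ := hX
  obtain ⟨j, hj0, hjy⟩ := hY
  obtain ⟨hkx0, hky⟩ := (htype k hk0).resolve_left fun h => hkx h.1
  obtain ⟨hjx, hjy0⟩ := (htype j hj0).resolve_right fun h => hjy h.2
  -- the third point
  have hthird : ∀ i, i ≠ i₀ → ∃ z ∈ S, z ≠ x ∧ z ≠ y ∧ f i z * f i z = 1 ∧
      ∀ u ∈ S, u ≠ x → u ≠ y → u ≠ z → f i u = 0 := by
    intro i hi
    obtain ⟨a, ha, b, hb, hab, hfa, hfb, h0⟩ := two_entries (h2 i)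
    have hne : ∀ c d : X, c ∈ S → f i c * f i c = 1 → d ∈ S → f i d * f i d = 1 → c ≠ d →
        (∀ u ∈ S, u ≠ c → u ≠ d → f i u = 0) → (c = x ∨ c = y) →
        d ≠ x ∧ d ≠ y := by
      intro c d _ hc _ hd hcd _ hcxy
      rcases hcxy with rfl | rfl
      · refine ⟨hcd.symm, fun e => ?_⟩
        subst e
        rcases htype i hi with ⟨-, h⟩ | ⟨h, -⟩
        · rw [h] at hd; simp at hd
        · rw [h] at hc; simp at hc
      · refine ⟨fun e => ?_, hcd.symm⟩
        subst e
        rcases htype i hi with ⟨-, h⟩ | ⟨h, -⟩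
        · rw [h] at hc; simp at hc
        · rw [h] at hd; simp at hd
    by_cases h' : a = x ∨ a = y
    · obtain ⟨e1, e2⟩ := hne a b ha hfa hb hfb hab h0 h'
      exact ⟨b, hb, e1, e2, hfb, fun u hu h1 h2 h3 => h0 u hu (by rcases h' with rfl | rfl <;> assumption) h3⟩
    · by_cases h'' : b = x ∨ b = y
      · obtain ⟨e1, e2⟩ := hne b a hb hfb ha hfa hab.symm (fun u hu p q => h0 u hu q p) h''
        exact ⟨a, ha, e1, e2, hfa, fun u hu h1 h2 h3 => h0 u hu h3 (by rcases h'' with rfl | rfl <;> assumption)⟩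
      · exfalso
        push Not at h' h''
        have hx' := h0 x hx h'.1.symm h''.1.symm
        have hy' := h0 y hy h'.2.symm h''.2.symm
        rcases htype i hi with ⟨h, -⟩ | ⟨-, h⟩
        · rw [← h, hx'] at hfx; simp at hfx
        · rw [← h, hy'] at hfy; simp at hfy
  have hjk : j ≠ k := fun e => hkx (e ▸ hjx)
  obtain ⟨z, hz, hzx, hzy, hjz, hj00⟩ := hthird j hj0
  have hjsupp : ∀ u ∈ S, u ≠ x → u ≠ z → f j u = 0 := fun u hu a b => by
    by_cases e : u = y
    · rw [e, hjy0]
    · exact hj00 u hu a e b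
  have hkey : ∀ i, i ≠ i₀ → f i x = 0 → f i z = f j z := by
    intro i hi hix
    have e := h1 j i fun e => by rw [← e, hjx] at hix; rw [hix] at hfx; simp at hfx
    rw [ip_eq_two_point hx hz hzx.symm hjsupp, hix, mul_zero, zero_add] at e
    rcases mul_unit_cases hjz (hu i z hz) with ⟨-, q⟩ | ⟨p, -⟩ | ⟨p, -⟩
    · exact q
    · omega
    · omega
  have hksupp : ∀ u ∈ S, u ≠ y → u ≠ z → f k u = 0 := by
    intro u hu a b
    by_cases e : u = x
    · rw [e, hkx0]
    · obtain ⟨z', hz', hzx', hzy', hkz', hk00⟩ := hthird k hk0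
      have hzz : z' = z := by
        by_contra hne
        have h := hk00 z hz hzx hzy (Ne.symm hne)
        rw [hkey k hk0 hkx0] at h
        rw [h] at hjz; simp at hjz
      exact hk00 u hu e a (hzz ▸ b)
  have hall : ∀ i, i = i₀ ∨ i = j ∨ i = k := by
    intro i
    by_contra hne
    push Not at hne
    obtain ⟨hi0, hij, hik⟩ := hne
    rcases htype i hi0 with ⟨hix, hiy⟩ | ⟨hix, hiy⟩
    · have e := h1 k i (Ne.symm hik)
      rw [ip_eq_two_point hy hz hzy.symm hksupp, hiy, mul_zero, zero_add, hkey k hk0 hkx0] at e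
      have e' := h1 j i (Ne.symm hij)
      rw [ip_eq_two_point hx hz hzx.symm hjsupp, hjx, hix, hfx, e] at e'
      omega
    · have e := h1 k i (Ne.symm hik)
      rw [ip_eq_two_point hy hz hzy.symm hksupp, hky, hiy, hfy, hkey k hk0 hkx0,
        hkey i hi0 hix, hjz] at e
      omega
  have huniv : (Finset.univ : Finset (Fin m)) = {i₀, j, k} := by
    ext i; simpa using hall i
  refine Or.inr ⟨?_, fun g => ⟨g x * f i₀ x + g y * f i₀ y + g z * f j z, ?_⟩⟩
  · have := congrArg Finset.card huniv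
    rw [Finset.card_fin] at this
    rw [this, Finset.card_insert_of_notMem (by simp [Ne.symm hj0, Ne.symm hk0]), Finset.card_pair hjk]
  · rw [huniv, Finset.sum_insert (by simp [Ne.symm hj0, Ne.symm hk0]), Finset.sum_pair hjk,
      ip_comm g (f i₀), ip_comm g (f j), ip_comm g (f k), ip_eq_two_point hx hy hxy hf0,
      ip_eq_two_point hx hz hzx.symm hjsupp, ip_eq_two_point hy hz hzy.symm hksupp, hjx, hky,
      hkey k hk0 hkx0]
    ring

/-- The columns at the noncentral elements. -/
structure Six (S : Finset X) {r : ℕ} (n : Fin r → X → ℤ) (x₀ : X) (q : ℕ) where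
  a : Fin q → X
  b : Fin r → X
  ε : X → ℤ
  sq : ∀ x, ε x * ε x = 1
  haS : ∀ t, a t ∈ S
  hbS : ∀ j, b j ∈ S
  inj_a : Function.Injective a
  inj_b : Function.Injective b
  ne : ∀ t j, a t ≠ b j
  na : ∀ i t, n i (a t) = ε (a t)
  nb : ∀ i j, n i (b j) = ε (b j) * (if i = j then 2 else -1)
  zero : ∀ x ∈ S, (∀ t, x ≠ a t) → (∀ j, x ≠ b j) → ∀ i, n i x = 0
  t₀ : Fin q
  ha₀ : a t₀ = x₀
  hε₀ : ε x₀ = 1

theorem Six.of_parts {r : ℕ} [NeZero r] {n : Fin r → X → ℤ} {x₀ : X} {q : ℕ} (b : Fin r → X)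
    (σ : X → ℤ) (A : Finset X) (hAS : A ⊆ S) (hA : A.card = q) (hx₀ : x₀ ∈ A)
    (h1 : n 0 x₀ = 1) (hb : ∀ j, b j ∈ S ∧ b j ∉ A) (hinj : Function.Injective b)
    (hσ : ∀ x, σ x * σ x = 1) (hnA : ∀ x ∈ A, ∀ i, n i x = n 0 x)
    (hA1 : ∀ x ∈ A, n 0 x * n 0 x = 1)
    (hnb : ∀ i j, n i (b j) = σ (b j) * (if i = j then 2 else -1))
    (hz : ∀ x ∈ S, x ∉ A → (∀ j, x ≠ b j) → ∀ i, n i x = 0) :
    Nonempty (Six S n x₀ q) := by
  let e := (A.equivFin.trans (finCongr hA)).symm
  refine ⟨{
    a := fun t => (e t : X)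
    b := b
    ε := fun x => if x ∈ A then n 0 x else σ x
    sq := fun x => by
      by_cases hx : x ∈ A
      · simp only [if_pos hx]; exact hA1 x hx
      · simp only [if_neg hx]; exact hσ x
    haS := fun t => hAS (e t).2
    hbS := fun j => (hb j).1
    inj_a := fun s t h => e.injective (Subtype.ext h)
    inj_b := hinj
    ne := fun t j h => (hb j).2 (h ▸ (e t).2)
    na := fun i t => by simp only [if_pos (e t).2]; exact hnA _ (e t).2 i
    nb := fun i j => by simp only [if_neg (hb j).2]; exact hnb i j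
    zero := fun x hx ha hb' => hz x hx (fun hxA => ha (e.symm ⟨x, hxA⟩) (by simp)) hb'
    t₀ := e.symm ⟨x₀, hx₀⟩
    ha₀ := by simp
    hε₀ := by simp only [if_pos hx₀]; exact h1 }⟩

theorem rest_units {f : X → ℤ} {T : Finset X} {x₀ : X} (hx : x₀ ∈ T) (h1 : f x₀ = 1)
    (hc : ip T f f ≤ 4) : ∀ x ∈ T, f x * f x ≤ 3 := by
  intro x hxT
  by_cases e : x = x₀
  · rw [e, h1]; norm_num
  · have h := Finset.sum_erase_add T (fun y => f y * f y) hx
    have h' := Finset.single_le_sum (f := fun y => f y * f y) (fun y _ => mul_self_nonneg (f y))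
      (Finset.mem_erase.2 ⟨e, hxT⟩)
    simp only [h1] at h
    change _ = ip T f f at h
    omega

theorem sign_mul {f : X → ℤ} {x : X} (h : f x * f x = 1) {a : ℤ} {y : ℤ} (e : y * f x = a) :
    y = a * f x := by
  rw [← e, mul_assoc, h, mul_one]

/-- The shape of the columns. -/
theorem six_or_nine {r : ℕ} [NeZero r] (hr : r = 1 ∨ r = 2 ∨ r = 4) (n : Fin r → X → ℤ)
    {x₀ : X} (hx₀ : x₀ ∈ S) (h1 : ∀ i, n i x₀ = 1)
    (horth : ∀ i j, ip S (n i) (n j) = if i = j then 9 else 0)
    (hmod : ∀ i j, ∀ x ∈ S, (3 : ℤ) ∣ n i x - n j x)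
    (deg : X → ℤ) (hdeg : deg x₀ = 1) (hsum : ∀ i, ip S (n i) deg = 0) :
    Nonempty (Six S n x₀ (6 - r)) ∨
      (r = 1 ∧ (∀ x ∈ S, n 0 x * n 0 x ≤ 1) ∧ (S.filter fun x => n 0 x ≠ 0).card = 9) := by
  classical
  -- the divided differences
  choose D hD using fun (i : Fin r) (x : X) =>
    (show ∃ d : ℤ, x ∈ S → n 0 x - n i x = 3 * d from by
      by_cases hx : x ∈ S
      · obtain ⟨d, hd⟩ := hmod 0 i x hx; exact ⟨d, fun _ => hd⟩
      · exact ⟨0, fun h => absurd h hx⟩)
  have hDD : ∀ i j, i ≠ 0 → j ≠ 0 → ip S (D i) (D j) = if i = j then 2 else 1 := by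
    intro i j hi hj
    have e : 9 * ip S (D i) (D j) = ip S (n 0) (n 0) - ip S (n 0) (n j) - ip S (n i) (n 0) +
        ip S (n i) (n j) := by
      unfold ip
      rw [Finset.mul_sum, ← Finset.sum_sub_distrib, ← Finset.sum_sub_distrib,
        ← Finset.sum_add_distrib]
      refine Finset.sum_congr rfl fun x hx => ?_
      linear_combination -(3 * D j x) * hD i x hx - (n 0 x - n i x) * hD j x hx
    rw [horth, horth, horth, horth, if_pos rfl, if_neg (Ne.symm hj), if_neg hi] at e
    split_ifs at e ⊢ <;> omega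
  have hD0 : ∀ i, i ≠ 0 → ip S (n 0) (D i) = 3 := by
    intro i hi
    have e : 3 * ip S (n 0) (D i) = ip S (n 0) (n 0) - ip S (n 0) (n i) := by
      unfold ip
      rw [Finset.mul_sum, ← Finset.sum_sub_distrib]
      refine Finset.sum_congr rfl fun x hx => ?_
      linear_combination -(n 0 x) * hD i x hx
    rw [horth, horth, if_pos rfl, if_neg (Ne.symm hi)] at e
    omega
  have hDx₀ : ∀ i, D i x₀ = 0 := fun i => by
    have := hD i x₀ hx₀; rw [h1, h1] at this; omega
  have h0 := horth 0 0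
  rw [if_pos rfl] at h0
  rcases hr with rfl | rfl | rfl
  · -- one column
    have hle : ∀ x ∈ S, n 0 x * n 0 x ≤ 4 := by
      intro x hx
      by_cases e : x = x₀
      · rw [e, h1]; norm_num
      · have h := ip_eq_two_point (f := fun z => if z = x ∨ z = x₀ then n 0 z else 0)
          (g := n 0) hx hx₀ e (fun z _ a b => by simp [a, b])
        have hsub : ip S (fun z => if z = x ∨ z = x₀ then n 0 z else 0) (n 0) ≤ 9 := by
          rw [← h0]
          refine Finset.sum_le_sum fun z _ => ?_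
          simp only [ite_mul, zero_mul]
          split_ifs
          · exact le_rfl
          · exact mul_self_nonneg _
        simp only [eq_self_iff_true, true_or, or_true, if_true, h1] at h
        rw [h] at hsub
        by_contra hc
        have h2 : n 0 x ≤ -3 ∨ 3 ≤ n 0 x := by
          by_contra h'
          push Not at h'
          exact hc (by rcases h' with ⟨a, b⟩; nlinarith)
        rcases h2 with h2 | h2 <;> nlinarith
    set T2 := S.filter fun x => n 0 x * n 0 x = 4 with hT2
    have hsub : T2 ⊆ S := Finset.filter_subset _ _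
    have hrest : ∀ x ∈ S \ T2, n 0 x * n 0 x ≤ 3 := fun x hx => by
      obtain ⟨hxS, hx2⟩ := Finset.mem_sdiff.1 hx
      have : n 0 x * n 0 x ≠ 4 := fun h => hx2 (Finset.mem_filter.2 ⟨hxS, h⟩)
      have := hle x hxS; omega
    have hsplit := sum_split_sq (n 0) hsub
    rw [h0, card_support hrest] at hsplit
    have hT2s : ip T2 (n 0) (n 0) = 4 * (T2.card : ℤ) := by
      unfold ip
      rw [Finset.sum_congr rfl fun x hx => (Finset.mem_filter.1 hx).2, Finset.sum_const,
        nsmul_eq_mul, mul_comm]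
    rw [hT2s] at hsplit
    set T1 := (S \ T2).filter fun x => n 0 x ≠ 0 with hT1
    have hx₀T : x₀ ∈ T1 := Finset.mem_filter.2 ⟨Finset.mem_sdiff.2 ⟨hx₀, fun h => by
      have := (Finset.mem_filter.1 h).2; rw [h1] at this; norm_num at this⟩, by rw [h1]; norm_num⟩
    have hT1pos : 1 ≤ T1.card := Finset.card_pos.2 ⟨x₀, hx₀T⟩
    rcases (show T2.card = 0 ∨ T2.card = 1 ∨ T2.card = 2 by omega) with hc | hc | hc
    · right
      rw [Finset.card_eq_zero] at hc
      refine ⟨rfl, fun x hx => ?_, ?_⟩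
      · have := hrest x (by rw [hc]; simpa using hx)
        rcases unit_cases this with e | e | e <;> rw [e] <;> norm_num
      · rw [hT1, hc, Finset.sdiff_empty, Finset.card_empty] at hsplit
        omega
    · left
      obtain ⟨c, hcT⟩ := Finset.card_eq_one.1 hc
      have hcm : c ∈ T2 := hcT ▸ Finset.mem_singleton_self c
      obtain ⟨hcS, hc4⟩ := Finset.mem_filter.1 hcm
      have hT1c : T1.card = 5 := by omega
      have hc2 : n 0 c = 2 ∨ n 0 c = -2 := by
        have : (n 0 c - 2) * (n 0 c + 2) = 0 := by linear_combination hc4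
        rcases mul_eq_zero.1 this with h | h <;> omega
      refine Six.of_parts (fun _ => c) (fun x => if x = c ∧ n 0 c = -2 then -1 else 1) T1
        (fun x hx => (Finset.mem_sdiff.1 (Finset.mem_filter.1 hx).1).1) hT1c hx₀T (h1 0)
        (fun _ => ⟨hcS, fun h => (Finset.mem_sdiff.1 (Finset.mem_filter.1 h).1).2 hcm⟩)
        (fun a b _ => Subsingleton.elim a b) (fun x => by split_ifs <;> norm_num)
        (fun x _ i => by rw [Subsingleton.elim i 0])
        (fun x hx => by
          obtain ⟨hxS, hx0⟩ := Finset.mem_filter.1 hx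
          rcases unit_cases (hrest x hxS) with e | e | e
          · rw [e]; norm_num
          · exact absurd e hx0
          · rw [e]; norm_num)
        (fun i j => by
          rw [Subsingleton.elim i 0, Subsingleton.elim j 0, if_pos rfl]
          rcases hc2 with e | e <;> simp [e])
        (fun x hx hxA hxb i => by
          rw [Subsingleton.elim i 0]
          by_contra hne
          refine hxA (Finset.mem_filter.2 ⟨Finset.mem_sdiff.2 ⟨hx, fun h => hxb 0 ?_⟩, hne⟩)
          rw [hcT] at h; exact Finset.mem_singleton.1 h)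
    · exfalso
      have hT1c : T1.card = 1 := by omega
      obtain ⟨w, hw⟩ := Finset.card_eq_one.1 hT1c
      have hw0 : w = x₀ := by rw [hw] at hx₀T; exact (Finset.mem_singleton.1 hx₀T).symm
      have hs := hsum 0
      unfold ip at hs
      rw [← Finset.sum_sdiff hsub] at hs
      have e1 : ∑ x ∈ S \ T2, n 0 x * deg x = 1 := by
        rw [← Finset.sum_filter_of_ne (p := fun x => n 0 x ≠ 0) (fun x _ h => left_ne_zero_of_mul h),
          ← hT1, hw, Finset.sum_singleton, hw0, h1, hdeg, mul_one]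
      rw [e1] at hs
      have e2 : (2 : ℤ) ∣ ∑ x ∈ T2, n 0 x * deg x := by
        refine Finset.dvd_sum fun x hx => dvd_mul_of_dvd_left ?_ _
        have h4 := (Finset.mem_filter.1 hx).2
        exact (Int.prime_two.dvd_mul.1 (h4 ▸ by norm_num : (2 : ℤ) ∣ n 0 x * n 0 x)).elim id id
      omega
  · -- two columns
    left
    obtain ⟨x, hx, y, hy, hxy, hdx, hdy, hd0⟩ := two_entries
      (show ip S (D 1) (D 1) = 2 by rw [hDD 1 1 Fin.zero_ne_one.symm Fin.zero_ne_one.symm, if_pos rfl])
    have hne : ∀ z, D 1 z * D 1 z = 1 → x₀ ≠ z := fun z hz e => by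
      rw [← e, hDx₀] at hz; norm_num at hz
    have he := hD0 1 Fin.zero_ne_one.symm
    rw [ip_comm, ip_eq_two_point hx hy hxy hd0] at he
    have hsub : ({x, y} : Finset X) ⊆ S := by
      intro z hz; rcases Finset.mem_insert.1 hz with rfl | hz
      · exact hx
      · rwa [Finset.mem_singleton.1 hz]
    have hsplit := sum_split_sq (n 0) hsub
    rw [h0] at hsplit
    unfold ip at hsplit
    rw [Finset.sum_pair hxy] at hsplit
    have hx₀R : x₀ ∈ S \ {x, y} := Finset.mem_sdiff.2 ⟨hx₀, fun h => by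
      rcases Finset.mem_insert.1 h with e | e
      · exact hne x hdx e
      · exact hne y hdy (Finset.mem_singleton.1 e)⟩
    have hR1 : 1 ≤ ∑ z ∈ S \ {x, y}, n 0 z * n 0 z := by
      have := Finset.single_le_sum (f := fun z => n 0 z * n 0 z)
        (fun z _ => mul_self_nonneg (n 0 z)) hx₀R
      simpa [h1] using this
    -- orient
    suffices key : ∀ x y : X, x ∈ S → y ∈ S → x ≠ y → D 1 x * D 1 x = 1 → D 1 y * D 1 y = 1 →
        (∀ z ∈ S, z ≠ x → z ≠ y → D 1 z = 0) → x₀ ∈ S \ {x, y} → D 1 x * n 0 x = 2 →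
        D 1 y * n 0 y = 1 → ∑ z ∈ S \ {x, y}, n 0 z * n 0 z = 4 →
        Nonempty (Six S n x₀ (6 - 2)) by
      have hA : D 1 x * n 0 x * (D 1 x * n 0 x) = n 0 x * n 0 x := by
        linear_combination (n 0 x * n 0 x) * hdx
      have hB : D 1 y * n 0 y * (D 1 y * n 0 y) = n 0 y * n 0 y := by
        linear_combination (n 0 y * n 0 y) * hdy
      rw [← hA, ← hB] at hsplit
      generalize hu : D 1 x * n 0 x = u at he hsplit
      generalize hv : D 1 y * n 0 y = v at he hsplit
      have hv' : v = 3 - u := by omega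
      subst hv'
      have hb : u = 1 ∨ u = 2 := by
        have : u * u + (3 - u) * (3 - u) ≤ 8 := by omega
        have h1 : 0 < u ∧ u < 3 := ⟨by nlinarith, by nlinarith⟩
        omega
      rcases hb with rfl | rfl
      · exact key y x hy hx hxy.symm hdy hdx (fun z hz a b => hd0 z hz b a)
          (by rwa [Finset.pair_comm]) (by omega) hu (by rw [Finset.pair_comm]; omega)
      · exact key x y hx hy hxy hdx hdy hd0 hx₀R hu (by omega) (by omega)
    intro x y hx hy hxy hdx hdy hd0 hx₀R hux huy hrs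
    have hn1 : ∀ z ∈ S, n 1 z = n 0 z - 3 * D 1 z := fun z hz => by
      have := hD 1 z hz; omega
    have hnx : n 0 x = 2 * D 1 x := sign_mul (f := D 1) hdx (by rwa [mul_comm])
    have hny : n 0 y = D 1 y := by simpa using sign_mul (f := D 1) hdy (by rwa [mul_comm] : n 0 y * D 1 y = 1)
    have hR3 := rest_units (T := S \ {x, y}) hx₀R (h1 0) (by unfold ip; omega)
    have hcard : ((S \ {x, y}).filter fun z => n 0 z ≠ 0).card = 4 := by
      have := card_support hR3
      unfold ip at this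
      omega
    refine Six.of_parts (![x, y]) (fun z => if z = x then D 1 x else if z = y then -D 1 y else 1)
      ((S \ {x, y}).filter fun z => n 0 z ≠ 0)
      (fun z hz => (Finset.mem_sdiff.1 (Finset.mem_filter.1 hz).1).1) hcard
      (Finset.mem_filter.2 ⟨hx₀R, by rw [h1]; norm_num⟩) (h1 0) ?_ ?_
      (fun z => by split_ifs <;> first | exact hdx | (rw [neg_mul_neg]; exact hdy) | norm_num)
      ?_ ?_ ?_ ?_
    · intro j; fin_cases j
      · exact ⟨hx, fun h => (Finset.mem_sdiff.1 (Finset.mem_filter.1 h).1).2 (Finset.mem_insert_self _ _)⟩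
      · exact ⟨hy, fun h => (Finset.mem_sdiff.1 (Finset.mem_filter.1 h).1).2
          (Finset.mem_insert_of_mem (Finset.mem_singleton_self _))⟩
    · intro i j h
      fin_cases i <;> fin_cases j
      · rfl
      · exact absurd h hxy
      · exact absurd h.symm hxy
      · rfl
    · intro z hz i
      obtain ⟨hzS, hzn⟩ := Finset.mem_sdiff.1 (Finset.mem_filter.1 hz).1
      simp only [Finset.mem_insert, Finset.mem_singleton, not_or] at hzn
      fin_cases i
      · rfl
      · show n 1 z = n 0 z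
        rw [hn1 z hzS, hd0 z hzS hzn.1 hzn.2]; ring
    · intro z hz
      obtain ⟨hzR, hz0⟩ := Finset.mem_filter.1 hz
      rcases unit_cases (hR3 z hzR) with e | e | e
      · rw [e]; norm_num
      · exact absurd e hz0
      · rw [e]; norm_num
    · intro i j
      fin_cases i <;> fin_cases j <;> simp [hxy.symm, hn1 x hx, hn1 y hy, hnx, hny] <;> ring
    · intro z hz hzA hzb i
      have hzn : z ∉ ({x, y} : Finset X) := by
        simp only [Finset.mem_insert, Finset.mem_singleton, not_or]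
        exact ⟨hzb 0, hzb 1⟩
      have e0 : n 0 z = 0 := by
        by_contra h
        exact hzA (Finset.mem_filter.2 ⟨Finset.mem_sdiff.2 ⟨hz, hzn⟩, h⟩)
      fin_cases i
      · exact e0
      · show n 1 z = 0
        rw [hn1 z hz, e0, hd0 z hz (hzb 0) (hzb 1)]; ring
  · -- four columns
    left
    have hsucc : ∀ i : Fin 3, (i.succ : Fin 4) ≠ 0 := fun i => Fin.succ_ne_zero i
    rcases star (fun i : Fin 3 => D i.succ) 0 (fun i => by rw [hDD _ _ (hsucc i) (hsucc i), if_pos rfl])
      (fun i j hij => by rw [hDD _ _ (hsucc i) (hsucc j), if_neg fun h => hij (Fin.succ_injective _ h)])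
      with ⟨x, hx, s, hs, y, hyinj, hy⟩ | ⟨-, hev⟩
    swap
    · exfalso
      obtain ⟨k, hk⟩ := hev (n 0)
      rw [Finset.sum_congr rfl fun i _ => hD0 _ (hsucc i)] at hk
      simp at hk
      omega
    choose hyS hyx hfx hfy hf0 using hy
    set A := s * n 0 x with hA
    have hB : ∀ i : Fin 3, D i.succ (y i) * n 0 (y i) = 3 - A := fun i => by
      have he := hD0 _ (hsucc i)
      rw [ip_comm, ip_eq_two_point hx (hyS i) (hyx i).symm (hf0 i), hfx i, ← hA] at he
      omega
    set T : Finset X := insert x (Finset.univ.image y) with hT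
    have hTS : T ⊆ S := by
      intro z hz
      rcases Finset.mem_insert.1 hz with rfl | hz
      · exact hx
      · obtain ⟨i, -, rfl⟩ := Finset.mem_image.1 hz; exact hyS i
    have hxT : x ∉ Finset.univ.image y := fun h => by
      obtain ⟨i, -, e⟩ := Finset.mem_image.1 h; exact hyx i e
    have hTsum : ip T (n 0) (n 0) = A * A + 3 * ((3 - A) * (3 - A)) := by
      unfold ip
      rw [Finset.sum_insert hxT, Finset.sum_image (fun a _ b _ h => hyinj h)]
      rw [Finset.sum_congr rfl (g := fun _ => (3 - A) * (3 - A)) fun i _ => by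
        rw [← hB i]; linear_combination -(n 0 (y i) * n 0 (y i)) * hfy i]
      simp only [Finset.sum_const, Finset.card_univ, Fintype.card_fin, nsmul_eq_mul, hA]
      push_cast
      linear_combination (-(n 0 x * n 0 x)) * hs
    have hx₀T : x₀ ∈ S \ T := Finset.mem_sdiff.2 ⟨hx₀, fun h => by
      rcases Finset.mem_insert.1 h with e | e
      · have := hfx 0; rw [← e, hDx₀] at this; rw [← this] at hs; norm_num at hs
      · obtain ⟨i, -, e⟩ := Finset.mem_image.1 e
        have := hfy i; rw [e, hDx₀] at this; norm_num at this⟩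
    have hR1 : 1 ≤ ip (S \ T) (n 0) (n 0) := by
      have := sq_le_ip (f := n 0) hx₀T
      rwa [h1, one_mul] at this
    have hsplit := sum_split_sq (n 0) hTS
    rw [h0, hTsum] at hsplit
    have hA2 : A = 2 := by
      have h' : A * A + 3 * ((3 - A) * (3 - A)) ≤ 8 := by omega
      have : 1 < A ∧ A < 3 := ⟨by nlinarith, by nlinarith⟩
      omega
    rw [hA2] at hsplit hB
    have hnx : n 0 x = 2 * s := sign_mul (f := fun _ : X => s) (x := x) hs
      (by rw [mul_comm]; exact hA2)
    have hny : ∀ i, n 0 (y i) = D i.succ (y i) := fun i => by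
      have := sign_mul (f := D i.succ) (hfy i) (y := n 0 (y i)) (a := 1)
        (by rw [mul_comm]; exact (hB i).trans (by norm_num))
      rwa [one_mul] at this
    have hn : ∀ i : Fin 3, ∀ z ∈ S, n i.succ z = n 0 z - 3 * D i.succ z := fun i z hz => by
      have := hD i.succ z hz; omega
    have hR3 := rest_units (T := S \ T) hx₀T (h1 0) (by omega)
    have hcard : ((S \ T).filter fun z => n 0 z ≠ 0).card = 2 := by
      have := card_support hR3; omega
    have hσ : ∀ z, (∃ i, y i = z) ∨ ¬ ∃ i, y i = z := fun z => em _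
    refine Six.of_parts (Fin.cons x y)
      (fun z => if z = x then s else if h : ∃ i, y i = z then -D h.choose.succ z else 1)
      ((S \ T).filter fun z => n 0 z ≠ 0)
      (fun z hz => (Finset.mem_sdiff.1 (Finset.mem_filter.1 hz).1).1) hcard
      (Finset.mem_filter.2 ⟨hx₀T, by rw [h1]; norm_num⟩) (h1 0) ?_ ?_ ?_ ?_ ?_ ?_ ?_
    · intro j
      refine Fin.cases ?_ (fun i => ?_) j
      · exact ⟨hx, fun h => (Finset.mem_sdiff.1 (Finset.mem_filter.1 h).1).2 (Finset.mem_insert_self _ _)⟩
      · exact ⟨by simpa using hyS i, fun h => (Finset.mem_sdiff.1 (Finset.mem_filter.1 h).1).2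
          (Finset.mem_insert_of_mem (Finset.mem_image.2 ⟨i, Finset.mem_univ _, by simp⟩))⟩
    · rw [Fin.cons_injective_iff]
      exact ⟨fun ⟨i, e⟩ => hyx i e, hyinj⟩
    · intro z
      split_ifs with h1' h2
      · exact hs
      · have := hfy h2.choose
        rw [h2.choose_spec] at this
        rwa [neg_mul_neg]
      · norm_num
    · intro z hz i
      obtain ⟨hzS, hzn⟩ := Finset.mem_sdiff.1 (Finset.mem_filter.1 hz).1
      refine Fin.cases rfl (fun i => ?_) i
      rw [hn i z hzS, hf0 i z hzS (fun e => hzn (e ▸ Finset.mem_insert_self _ _))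
        (fun e => hzn (Finset.mem_insert_of_mem (Finset.mem_image.2 ⟨i, Finset.mem_univ _, e.symm⟩)))]
      ring
    · intro z hz
      obtain ⟨hzR, hz0⟩ := Finset.mem_filter.1 hz
      rcases unit_cases (hR3 z hzR) with e | e | e
      · rw [e]; norm_num
      · exact absurd e hz0
      · rw [e]; norm_num
    · intro i j
      have hch : ∀ k : Fin 3, ∀ h : ∃ i, y i = y k, h.choose = k := fun k h => hyinj h.choose_spec
      refine Fin.cases ?_ (fun k => ?_) j
      · simp only [Fin.cons_zero, if_true]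
        refine Fin.cases ?_ (fun l => ?_) i
        · rw [if_pos rfl, hnx]; ring
        · rw [if_neg (hsucc l), hn l x hx, hfx l, hnx]; ring
      · simp only [Fin.cons_succ, if_neg (hyx k), dif_pos (⟨k, rfl⟩ : ∃ i, y i = y k), hch]
        refine Fin.cases ?_ (fun l => ?_) i
        · rw [if_neg (Ne.symm (hsucc k)), hny]; ring
        · rw [hn l _ (hyS k), hny]
          by_cases e : l = k
          · subst e; rw [if_pos rfl]; ring
          · rw [if_neg fun h => e (Fin.succ_injective _ h),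
              hf0 l (y k) (hyS k) (hyx k) fun h => e (hyinj h.symm)]
            ring
    · intro z hz hzA hzb i
      have hzn : z ∉ T := by
        intro h
        rcases Finset.mem_insert.1 h with e | e
        · exact hzb 0 (by simpa using e)
        · obtain ⟨k, -, e⟩ := Finset.mem_image.1 e; exact hzb k.succ (by simpa using e.symm)
      have e0 : n 0 z = 0 := by
        by_contra h
        exact hzA (Finset.mem_filter.2 ⟨Finset.mem_sdiff.2 ⟨hz, hzn⟩, h⟩)
      refine Fin.cases e0 (fun k => ?_) i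
      rw [hn k z hz, e0, hf0 k z hz (by simpa using hzb 0) (by simpa using hzb k.succ)]
      ring

end Cfsg.Agent.ExtraThree
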