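import Cfsg.Agent.Lib.ExtraThree.Orbits
import Cfsg.Agent.Lib.Transfer.Fusion
import Cfsg.Agent.Lib.Char.Complete
import Cfsg.Agent.S4646
import Cfsg.Agent.S4652
import Cfsg.Agent.S4690
import Cfsg.Agent.S4691

/-!
The numbers of the principal block for each inertial index.
-/

set_option autoImplicit false
set_option linter.unusedSectionVars false
set_option linter.style.haveILetI false
set_option maxHeartbeats 1000000

namespace Cfsg.Agent.ExtraThree

open Cfsg Cfsg.Agent.Char Cfsg.Agent.Blocks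

universe u

/-- The degrees of the irreducible characters of an extraspecial group of order 27. -/
theorem irr_extraspecial_three {Q : Type u} [Group Q] [Finite Q] (hQ : Cfsg.IsExtraspecial 3 Q)
    (h27 : Nat.card Q = 27) :
    Nat.card (IrrCharacter Q) = 11 ∧
      Nat.card {χ : IrrCharacter Q // (charDegree (χ : Q → ℂ)).factorization 3 = 0} = 9 := by
  classical
  haveI : Fact (Nat.Prime 3) := ⟨Nat.prime_three⟩
  haveI : Fintype Q := Fintype.ofFinite Q
  have hidx : (commutator Q).index = 9 := by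
    have h := (commutator Q).card_mul_index
    have hc : Nat.card (commutator Q) = 3 := by rw [hQ.1.2.2, hQ.2]
    rw [hc, h27] at h
    omega
  have hdeg : ∀ χ : IrrCharacter Q, charDegree (χ : Q → ℂ) = 1 ∨ charDegree (χ : Q → ℂ) = 3 := by
    intro χ
    rcases XS.degree_cases hQ (n := 1) (by rw [h27]; norm_num) χ.2 with h | h <;>
      rw [irr_one_eq_charDegree] at h
    · exact Or.inl (by exact_mod_cast h)
    · exact Or.inr (by rw [pow_one] at h; exact_mod_cast h)
  have hlin : ∀ χ : IrrCharacter Q, (χ : Q → ℂ) 1 = 1 ↔ charDegree (χ : Q → ℂ) = 1 := fun χ => by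
    rw [irr_one_eq_charDegree, Nat.cast_eq_one]
  have h9 : (Finset.univ.filter fun χ : IrrCharacter Q => charDegree (χ : Q → ℂ) = 1).card = 9 := by
    rw [← Fintype.card_subtype, ← Nat.card_eq_fintype_card, ← hidx, ← card_linear]
    exact Nat.card_congr (Equiv.subtypeEquivRight fun χ => (hlin χ).symm)
  have hfac : ∀ χ : IrrCharacter Q, (charDegree (χ : Q → ℂ)).factorization 3 = 0 ↔
      charDegree (χ : Q → ℂ) = 1 := fun χ => by
    rcases hdeg χ with h | h <;> simp [h, Nat.prime_three.factorization_self]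
  refine ⟨?_, ?_⟩
  · have hs : ∑ χ : IrrCharacter Q, charDegree (χ : Q → ℂ) ^ 2 = 27 := by
      have h := sum_sq_degree (G := Q)
      simp only [irr_one_eq_charDegree] at h
      rw [h27] at h
      exact_mod_cast h
    rw [← Finset.sum_filter_add_sum_filter_not Finset.univ
        (fun χ : IrrCharacter Q => charDegree (χ : Q → ℂ) = 1),
      Finset.sum_congr (s₁ := Finset.univ.filter fun χ : IrrCharacter Q =>
          charDegree (χ : Q → ℂ) = 1) rfl (g := fun _ => 1) fun χ hχ => by
        rw [(Finset.mem_filter.1 hχ).2]; rfl,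
      Finset.sum_congr (s₁ := Finset.univ.filter fun χ : IrrCharacter Q =>
          ¬ charDegree (χ : Q → ℂ) = 1) rfl (g := fun _ => 9) fun χ hχ => by
        rw [(hdeg χ).resolve_left (Finset.mem_filter.1 hχ).2]; rfl,
      Finset.sum_const, Finset.sum_const, h9, smul_eq_mul, smul_eq_mul, mul_one] at hs
    have hc := Finset.card_filter_add_card_filter_not (s := (Finset.univ : Finset (IrrCharacter Q)))
      (fun χ : IrrCharacter Q => charDegree (χ : Q → ℂ) = 1)
    rw [Nat.card_eq_fintype_card, ← Finset.card_univ, ← hc, h9]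
    omega
  · rw [← h9, ← Fintype.card_subtype, ← Nat.card_eq_fintype_card]
    exact Nat.card_congr (Equiv.subtypeEquivRight hfac)

variable {G : Type u} [Group G] [Fintype G] {P : Sylow 3 G} {z : G}

/-- Without inertia the group is `3`-nilpotent. -/
theorem Loc.hasComplement (h : Loc P z)
    (he : ((P : Subgroup G) ⊔ Subgroup.centralizer ((P : Subgroup G) : Set G)).relIndex
      (Subgroup.normalizer ((P : Subgroup G) : Set G)) = 1) :
    Cfsg.HasNormalPComplement 3 G := by
  haveI : Fact (Nat.Prime 3) := ⟨Nat.prime_three⟩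
  refine Fusion.hasNormalPComplement_of_controlsFusion P fun x hx g hg => ?_
  by_cases hxz : x ∈ Subgroup.zpowers z
  · refine ⟨1, one_mem _, ?_⟩
    rcases h.zcases hxz with rfl | rfl | rfl
    · simp
    · rw [h.z_of_mem hg]; simp
    · have h1 := h.z_of_mem (g := g) (by
        have h2 := inv_mem (show g * z⁻¹ * g⁻¹ ∈ (P : Subgroup G) from hg)
        rwa [show (g * z⁻¹ * g⁻¹)⁻¹ = g * z * g⁻¹ by group] at h2)
      rw [show g * z⁻¹ * g⁻¹ = (g * z * g⁻¹)⁻¹ by group, h1]
      simp
  · have hyz : g * x * g⁻¹ ∉ Subgroup.zpowers z := by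
      intro hm
      have hxc : IsConj x (g * x * g⁻¹) := isConj_iff.2 ⟨g, rfl⟩
      rcases h.zcases hm with e | e | e
      · exact h.out_ne_one hxz (by rw [show x = g⁻¹ * (g * x * g⁻¹) * g by group, e]; group)
      · exact h.z_out hx hxz (e ▸ hxc).symm
      · exact h.zinv_out hx hxz (e ▸ hxc).symm
    obtain ⟨n, hn, hne⟩ := h.fusion hx hxz hg hyz (isConj_iff.2 ⟨g, rfl⟩)
    obtain ⟨-, hk⟩ := mem_kfix.1 (h.le_kfix hx (Subgroup.relIndex_eq_one.1 he hn))
    exact h.conj_coset hx hxz (w := g * x * g⁻¹) (hne ▸ hk)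

/-- The numbers without inertia. -/
theorem numbers_one (h : Loc P z) (hE : Cfsg.IsExtraspecial 3 ↥(P : Subgroup G))
    (he : ((P : Subgroup G) ⊔ Subgroup.centralizer ((P : Subgroup G) : Set G)).relIndex
      (Subgroup.normalizer ((P : Subgroup G) : Set G)) = 1)
    {M : Ideal AlgInt} (hM : IsPModular 3 M) :
    Nat.card (principalBlock M G) = 11 ∧
      Nat.card {χ : IrrCharacter G // χ ∈ principalBlock M G ∧
        blockHeight 3 (principalBlock M G) (χ : G → ℂ) = 0} = 9 ∧
      blockRank 3 (principalBlock M G) = 1 := by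
  haveI : Fact (Nat.Prime 3) := ⟨Nat.prime_three⟩
  have hnil := (Cfsg.Agent.S4691.result 3 M hM).1 (h.hasComplement he)
  obtain ⟨Φ, hΦ⟩ := Cfsg.Agent.S4690.result 3 M hM (principalBlock M G) hnil (P : Subgroup G)
    ((Cfsg.Agent.S4652.result 3 M hM (P : Subgroup G)).2 ⟨P, rfl⟩)
  obtain ⟨h11, h9⟩ := irr_extraspecial_three hE h.card
  refine ⟨(Nat.card_congr Φ).trans h11, ?_, (Cfsg.Agent.S4646.result 3 M hM).1 hnil⟩
  rw [← h9]
  exact Nat.card_congr ((Equiv.subtypeSubtypeEquivSubtypeInter _ _).symm.trans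
    (Φ.subtypeEquiv fun χ => by rw [hΦ χ]))

/-- The numbers for even inertial index. -/
theorem numbers_even (h : Loc P z) {e r : ℕ}
    (he : ((P : Subgroup G) ⊔ Subgroup.centralizer ((P : Subgroup G) : Set G)).relIndex
      (Subgroup.normalizer ((P : Subgroup G) : Set G)) = e) (hre : r * e = 8)
    (hr : r = 1 ∨ r = 2 ∨ r = 4) {M : Ideal AlgInt} (hM : IsPModular 3 M) :
    Nat.card (principalBlock M G) = 6 + 2 * (6 - r) ∧
      Nat.card {χ : IrrCharacter G // χ ∈ principalBlock M G ∧
        blockHeight 3 (principalBlock M G) (χ : G → ℂ) = 0} = 6 ∧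
      blockRank 3 (principalBlock M G) = 6 - r := by
  haveI := IsPModular.isPrime hM
  have he2 : 2 ∣ e := by
    rcases hr with rfl | rfl | rfl <;> exact ⟨e / 2, by omega⟩
  obtain ⟨r', u, hu, hr'⟩ := h.exists_reps he he2
  obtain rfl : r' = r := Nat.eq_of_mul_eq_mul_right
    (Nat.pos_of_ne_zero fun e0 => by simp [e0] at hre) (by linarith : r' * e = r * e)
  haveI : NeZero r' := ⟨by omega⟩
  obtain ⟨a, b, c⟩ := (h.pair hu).numbers hr hM
  exact ⟨a, c, b⟩

end Cfsg.Agent.ExtraThree
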