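import Cfsg.Agent.Lib.ExtraThree.Vectors
import Mathlib.LinearAlgebra.Dimension.Constructions
import Mathlib.LinearAlgebra.FiniteDimensional.Lemmas

/-!
From the centraliser of the centre to the group: the numbers of ordinary and Brauer characters
and of characters of height zero of the principal block.
-/

set_option autoImplicit false
set_option linter.unusedSectionVars false
set_option linter.style.haveILetI false
set_option maxHeartbeats 1000000

namespace Cfsg.Agent.ExtraThree

open Cfsg Cfsg.Agent.Char Cfsg.Agent.Blocks Cfsg.Agent.SmithTyrer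
open scoped ComplexConjugate

universe u

variable {G : Type u} [Group G] [Fintype G] {z : G} {r : ℕ} {u : Fin r → G} {M : Ideal AlgInt}
  [M.IsPrime]

/-- The data: the group and the centraliser of the central element. -/
structure Pair (z : G) (u : Fin r → G) where
  hS : Setup z u
  C : Subgroup G
  hC : C = Subgroup.centralizer ({z} : Set G)
  zC : C
  uC : Fin r → C
  hzC : (zC : G) = z
  huC : ∀ i, (uC i : G) = u i
  hSC : Setup zC uC

namespace Pair

variable (D : Pair z u)

noncomputable instance : Fintype D.C := Fintype.ofFinite _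

theorem central (c : D.C) : Commute D.zC c := Subtype.ext (by
  have h : (c : G) ∈ Subgroup.centralizer ({z} : Set G) := D.hC.le c.2
  simp only [Subgroup.coe_mul, D.hzC]
  exact (Subgroup.mem_centralizer_singleton_iff.1 h).symm)

/-- A representative of each kind of singular section. -/
def rep : Bool ⊕ Fin r → D.C
  | .inl true => D.zC
  | .inl false => D.zC⁻¹
  | .inr i => D.uC i

theorem exists_rep {x : D.C} (hx : 3 ∣ orderOf x) :
    ∃ (c : D.C) (k : Bool ⊕ Fin r) (s : D.C),
      c * x * c⁻¹ = D.rep k * s ∧ Commute (D.rep k) s ∧ ¬ 3 ∣ orderOf s := by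
  obtain ⟨a, ha⟩ := exists_isPPart Nat.prime_three x
  have ha1 : a ≠ 1 := fun e => (isPPart_one_iff Nat.prime_three).1 (e ▸ ha) hx
  obtain ⟨-, -, -, hk, -⟩ := id ha
  obtain ⟨k, hk'⟩ : ∃ k, IsConj (D.rep k) a := by
    rcases D.hSC.classes a hk ha1 with h | h | ⟨i, h⟩
    exacts [⟨.inl true, h⟩, ⟨.inl false, h⟩, ⟨.inr i, h⟩]
  obtain ⟨c, hc⟩ := isConj_iff.1 hk'
  have h := IsPPart.conj ha c⁻¹
  rw [← hc, show c⁻¹ * (c * D.rep k * c⁻¹) * c⁻¹⁻¹ = D.rep k by group] at h
  obtain ⟨s, hs, hcs, -, hodd⟩ := h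
  exact ⟨c⁻¹, k, s, by rw [hs], hcs, hodd⟩

theorem rep_sep {k l : Bool ⊕ Fin r} (h : k ≠ l) : ¬ IsConj (D.rep k : G) (D.rep l : G) := by
  rcases k with (_ | _) | i <;> rcases l with (_ | _) | j <;>
    simp only [rep, Subgroup.coe_inv, D.hzC, D.huC]
  · exact absurd rfl h
  · exact fun e => D.hS.zinv e.symm
  · exact D.hS.zu' j
  · exact D.hS.zinv
  · exact absurd rfl h
  · exact D.hS.zu j
  · exact fun e => D.hS.zu' i e.symm
  · exact fun e => D.hS.zu i e.symm
  · exact fun e => h (congrArg Sum.inr (D.hS.usep i j e))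

theorem rep_elt (k : Bool ⊕ Fin r) : ∃ j, orderOf (D.rep k) = 3 ^ j := by
  rcases k with (_ | _) | i
  exacts [D.hSC.zElt', D.hSC.zElt, D.hSC.uElt i]

theorem rep_elt' (k : Bool ⊕ Fin r) : ∃ j, orderOf (D.rep k : G) = 3 ^ j := by
  obtain ⟨j, hj⟩ := D.rep_elt k
  exact ⟨j, by rw [Subgroup.orderOf_coe, hj]⟩

theorem centralizer_zinv : D.C = Subgroup.centralizer ({z⁻¹} : Set G) := by
  rw [D.hC]
  ext g
  simp only [Subgroup.mem_centralizer_singleton_iff]
  exact ⟨fun h => (Commute.inv_right (show Commute g z from h)).eq,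
    fun h => inv_inv z ▸ (Commute.inv_right (show Commute g z⁻¹ from h)).eq⟩

variable (hM : IsPModular 3 M)
include hM

theorem pair_central {y : D.C} (hy : ∃ j, orderOf (y : G) = 3 ^ j) (hyc : ∀ c : D.C, Commute y c)
    (hyC : D.C = Subgroup.centralizer ({(y : G)} : Set G)) (s t : D.C) (hs : ¬ 3 ∣ orderOf s)
    (ht : ¬ 3 ∣ orderOf t) :
    blockPair (principalBlock M G) ((y * s : D.C) : G) ((y * t : D.C) : G) =
      blockPair (principalBlock M D.C) (y * s) (y * t) := by
  classical
  have h := blockPair_local hM (isPBlock_principalBlock M G) (y : G) hy D.C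
    (by rw [centralizer_zpowers_eq]; exact hyC) s t hs ht
  rw [unitBlocks_principal hM hy hyC, Finset.sum_singleton] at h
  rw [Subgroup.coe_mul, Subgroup.coe_mul, h]
  unfold blockPair
  refine Finset.sum_congr rfl fun θ _ => ?_
  obtain ⟨c, hc1, hc, -⟩ := IsIrrCharacter.exists_central_scalar θ.2
    (Subgroup.mem_center_iff.2 fun g => (hyc g).eq.symm)
  rw [hc, hc, map_mul]
  have h1 : c * conj c = 1 := by rw [Complex.mul_conj, Complex.normSq_eq_norm_sq, hc1]; simp
  linear_combination -((θ : D.C → ℂ) s * conj ((θ : D.C → ℂ) t)) * h1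

theorem pair_eq {x y : D.C} (hx : 3 ∣ orderOf x) (hy : 3 ∣ orderOf y) :
    blockPair (principalBlock M G) (x : G) (y : G) = blockPair (principalBlock M D.C) x y := by
  classical
  obtain ⟨c, k, s, hcs, hks, hs⟩ := D.exists_rep hx
  obtain ⟨d, l, t, hdt, hlt, ht⟩ := D.exists_rep hy
  have hinv : ∀ {H : Type u} [Group H] [Fintype H] (B : Set (IrrCharacter H)) (a b c d : H),
      blockPair B a b = blockPair B (c * a * c⁻¹) (d * b * d⁻¹) := fun B a b c d => by
    unfold blockPair
    exact Finset.sum_congr rfl fun χ _ => by rw [irr_conj_invariant, irr_conj_invariant]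
  rw [hinv _ (x : G) (y : G) (c : G) (d : G), hinv _ x y c d, ← Subgroup.coe_inv, ← Subgroup.coe_inv,
    ← Subgroup.coe_mul, ← Subgroup.coe_mul, ← Subgroup.coe_mul, ← Subgroup.coe_mul, hcs, hdt]
  by_cases hkl : k = l
  · subst hkl
    rcases k with (_ | _) | i
    · refine D.pair_central hM (D.rep_elt' (.inl false)) (fun c => (D.central c).inv_left) ?_ s t hs ht
      simp only [rep, Subgroup.coe_inv, D.hzC]
      exact D.centralizer_zinv
    · refine D.pair_central hM (D.rep_elt' (.inl true)) D.central ?_ s t hs ht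
      simp only [rep, D.hzC]
      exact D.hC
    · have hs' : ¬ 3 ∣ orderOf (s : G) := by rwa [Subgroup.orderOf_coe]
      have ht' : ¬ 3 ∣ orderOf (t : G) := by rwa [Subgroup.orderOf_coe]
      have hs'' : Commute (u i) (s : G) := D.huC i ▸ hks.map D.C.subtype
      have ht'' : Commute (u i) (t : G) := D.huC i ▸ hlt.map D.C.subtype
      have e1 : blockPair (principalBlock M G) (u i * (s : G)) (u i * (t : G)) = 9 := by
        rw [← D.hS.pair_u_self hM i]
        unfold blockPair
        refine Finset.sum_congr rfl fun χ hχ => ?_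
        have hχ' := (Finset.mem_filter.1 hχ).2
        rw [D.hS.value_u hM hχ' i hs'' hs', D.hS.value_u hM hχ' i ht'' ht']
      have e2 : blockPair (principalBlock M D.C) (D.uC i * s) (D.uC i * t) = 9 := by
        rw [← D.hSC.pair_u_self hM i]
        unfold blockPair
        refine Finset.sum_congr rfl fun χ hχ => ?_
        have hχ' := (Finset.mem_filter.1 hχ).2
        rw [D.hSC.value_u hM hχ' i hks hs, D.hSC.value_u hM hχ' i hlt ht]
      simp only [rep, Subgroup.coe_mul, D.huC]
      rw [e1, e2]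
  · have hsep := D.rep_sep hkl
    rw [Subgroup.coe_mul, Subgroup.coe_mul]
    rw [blockPair_eq_zero_of_not_isConj hM (isPBlock_principalBlock M G) (D.rep_elt' k) (D.rep_elt' l)
        (show Commute (D.rep k : G) (s : G) from hks.map D.C.subtype)
        (show Commute (D.rep l : G) (t : G) from hlt.map D.C.subtype)
        (show ¬ 3 ∣ orderOf (s : G) by rwa [Subgroup.orderOf_coe])
        (show ¬ 3 ∣ orderOf (t : G) by rwa [Subgroup.orderOf_coe]) hsep,
      blockPair_eq_zero_of_not_isConj hM (isPBlock_principalBlock M D.C) (D.rep_elt k) (D.rep_elt l)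
        hks hlt hs ht fun e => hsep (MonoidHom.map_isConj D.C.subtype e)]

/-- The restriction to the centraliser, seen through its principal block, at a singular element. -/
theorem res_sing {χ : IrrCharacter G} (hχ : χ ∈ pB M G) {x : D.C} (hx : 3 ∣ orderOf x) :
    (χ : G → ℂ) (x : G) = ∑ θ ∈ pB M D.C,
      classInner (fun c : D.C => (χ : G → ℂ) (c : G)) (θ : D.C → ℂ) * (θ : D.C → ℂ) x := by
  classical
  have hχ' := mem_pB.1 hχ
  have hlhs : (χ : G → ℂ) (x : G) = (Nat.card G : ℂ)⁻¹ *
      ∑ g : G, (χ : G → ℂ) g * blockPair (principalBlock M G) (x : G) g := by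
    rw [← blockPart_eq_pair, classInner_blockPart_self (principalBlock M G)
      (IsCharacter.isClassFunction (irr_isCharacter χ))
      fun ψ hψ => classInner_irr_of_ne χ.2 ψ.2 fun h => hψ (by rwa [← Subtype.ext h])]
  have hrhs : ∑ θ ∈ pB M D.C,
      classInner (fun c : D.C => (χ : G → ℂ) (c : G)) (θ : D.C → ℂ) * (θ : D.C → ℂ) x =
      (Nat.card D.C : ℂ)⁻¹ *
        ∑ y : D.C, (χ : G → ℂ) (y : G) * blockPair (principalBlock M D.C) x y := by
    rw [← blockPart_eq_pair, blockPart_eq_sum]
    exact Finset.sum_congr (by ext; simp [mem_pB]) fun _ _ => rfl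
  rw [hlhs, hrhs]
  set c : Fin r → ℂ := fun i => (χ : G → ℂ) (u i) * blockPair (principalBlock M G) (x : G) (u i)
    with hc
  have hFG : ∀ i g, (∃ a, IsPPart 3 g a ∧ IsConj (u i) a) →
      (χ : G → ℂ) g * blockPair (principalBlock M G) (x : G) g = c i := by
    rintro i g ⟨a, ha, hca⟩
    simp only [hc]
    rw [D.hS.value_sec hM hχ' i ha hca]
    congr 1
    unfold blockPair
    exact Finset.sum_congr rfl fun ψ hψ => by
      rw [D.hS.value_sec hM (Finset.mem_filter.1 hψ).2 i ha hca]
  have hFC : ∀ i y, (∃ a, IsPPart 3 y a ∧ IsConj (D.uC i) a) →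
      (χ : G → ℂ) (y : G) * blockPair (principalBlock M D.C) x y = c i := by
    rintro i y ⟨a, ha, hca⟩
    have haG : IsPPart 3 (y : G) (a : G) := by
      obtain ⟨s, hs, hcs, ⟨j, hj⟩, hodd⟩ := id ha
      exact ⟨(s : G), by rw [← hs, Subgroup.coe_mul], hcs.map D.C.subtype,
        ⟨j, by rw [Subgroup.orderOf_coe, hj]⟩, by rwa [Subgroup.orderOf_coe]⟩
    have hcG : IsConj (u i) (a : G) := D.huC i ▸ MonoidHom.map_isConj D.C.subtype hca
    simp only [hc]
    rw [D.hS.value_sec hM hχ' i haG hcG]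
    congr 1
    have hui : 3 ∣ orderOf (D.uC i) := by rw [D.hSC.uord i]
    rw [← D.huC i, D.pair_eq hM hx hui]
    unfold blockPair
    exact Finset.sum_congr rfl fun ψ hψ => by
      rw [D.hSC.value_sec hM (Finset.mem_filter.1 hψ).2 i ha hca]
  rw [D.hS.sum_kinds, Finset.sum_congr rfl fun i _ => D.hS.sum_sec_u i _ (c i) (hFG i),
    ← Finset.mul_sum, D.hSC.value_split D.central hM _ c hFC,
    Finset.sum_eq_zero (s := Finset.univ.filter fun g : G => ¬ 3 ∣ orderOf g) fun g hg => by
      rw [← blockPair_conj, blockPair_regular_singular hM (isPBlock_principalBlock M G)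
        (Finset.mem_filter.1 hg).2 (by rwa [Subgroup.orderOf_coe]), map_zero, mul_zero],
    zero_add,
    sum_section Nat.prime_three D.hS.zElt D.hC (F := fun g => (χ : G → ℂ) g *
      blockPair (principalBlock M G) (x : G) g) (fun g h => by
        unfold blockPair
        simp only [irr_conj_invariant]),
    sum_section Nat.prime_three D.hS.zElt' D.centralizer_zinv (F := fun g => (χ : G → ℂ) g *
      blockPair (principalBlock M G) (x : G) g) (fun g h => by
        unfold blockPair
        simp only [irr_conj_invariant])]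
  rw [Finset.sum_add_distrib, Finset.sum_add_distrib,
    Finset.sum_eq_zero (f := fun s : D.C => (χ : G → ℂ) (s : G) *
      blockPair (principalBlock M D.C) x s) fun s hs => by
      rw [← blockPair_conj, blockPair_regular_singular hM (isPBlock_principalBlock M D.C)
        (mem_regG.1 hs) hx, map_zero, mul_zero], zero_add]
  have hsec : ∀ (a : D.C), (∀ c : D.C, Commute a c) → (∃ j, orderOf a = 3 ^ j) → a ≠ 1 →
      ∀ s : D.C, ¬ 3 ∣ orderOf s → 3 ∣ orderOf (a * s) := by
    intro a hac haj ha1 s hs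
    by_contra h
    exact ha1 (isPPart_unique Nat.prime_three ⟨s, rfl, hac s, haj, hs⟩
      ((isPPart_one_iff Nat.prime_three).2 h))
  have hG0 : (Nat.card G : ℂ) ≠ 0 := Nat.cast_ne_zero.2 Nat.card_pos.ne'
  have hC0 : (Nat.card D.C : ℂ) ≠ 0 := Nat.cast_ne_zero.2 Nat.card_pos.ne'
  have hsum : ∀ (y : G) (a : D.C), (a : G) = y → (∀ c : D.C, Commute a c) →
      (∃ j, orderOf a = 3 ^ j) → a ≠ 1 →
      ∑ w ∈ Finset.univ.filter (fun w : D.C => ¬ 3 ∣ orderOf w),
        (χ : G → ℂ) (y * (w : G)) * blockPair (principalBlock M G) (x : G) (y * (w : G)) =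
      ∑ s ∈ regG D.C, (χ : G → ℂ) ((a * s : D.C) : G) *
        blockPair (principalBlock M D.C) x (a * s) := by
    intro y a hay hac haj ha1
    refine Finset.sum_congr (by ext; simp [mem_regG]) fun s hs => ?_
    rw [← D.pair_eq hM hx (hsec a hac haj ha1 s (mem_regG.1 hs)), Subgroup.coe_mul, hay]
  rw [hsum z D.zC D.hzC D.central D.hSC.zElt D.hSC.z_ne_one,
    hsum z⁻¹ D.zC⁻¹ (by rw [Subgroup.coe_inv, D.hzC]) (fun c => (D.central c).inv_left) D.hSC.zElt'
      (inv_ne_one.2 D.hSC.z_ne_one)]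
  field_simp

open scoped Classical in
/-- The image of a combination of the block of the centraliser. -/
noncomputable def img (M : Ideal AlgInt) [M.IsPrime] (d : IrrCharacter D.C → ℤ)
    (χ : IrrCharacter G) : ℤ :=
  if h : ∃ n : ℤ, classInner (∑ θ ∈ pB M D.C, (d θ : ℂ) • (θ : D.C → ℂ))
      (fun c : D.C => (χ : G → ℂ) (c : G)) = n then h.choose else 0

theorem img_spec (d : IrrCharacter D.C → ℤ) (χ : IrrCharacter G) :
    (D.img M d χ : ℂ) = classInner (∑ θ ∈ pB M D.C, (d θ : ℂ) • (θ : D.C → ℂ))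
      (fun c : D.C => (χ : G → ℂ) (c : G)) := by
  have h : ∃ n : ℤ, classInner (∑ θ ∈ pB M D.C, (d θ : ℂ) • (θ : D.C → ℂ))
      (fun c : D.C => (χ : G → ℂ) (c : G)) = n :=
    IsGeneralizedCharacter.exists_classInner_int
      (isGeneralizedCharacter_sum _ fun θ _ => IsGeneralizedCharacter.int_smul
        (IsGeneralizedCharacter.of_isCharacter (irr_isCharacter θ)) _)
      (IsGeneralizedCharacter.of_isCharacter (IsCharacter.restrict (irr_isCharacter χ) D.C))
  unfold img
  rw [dif_pos h]
  exact h.choose_spec.symm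

theorem img_coef (d : IrrCharacter D.C → ℤ) (χ : IrrCharacter G) :
    (D.img M d χ : ℂ) = ∑ θ ∈ pB M D.C,
      classInner (fun c : D.C => (χ : G → ℂ) (c : G)) (θ : D.C → ℂ) * (d θ : ℂ) := by
  rw [D.img_spec hM, classInner_sum_left]
  refine Finset.sum_congr rfl fun θ _ => ?_
  rw [classInner_smul_left, mul_comm]
  congr 1
  exact classInner_comm_of_isCharacter (irr_isCharacter θ)
    (IsCharacter.restrict (irr_isCharacter χ) D.C)

theorem img_principal (d : IrrCharacter D.C → ℤ) :
    D.img M d (Char.principal G) = d (Char.principal D.C) := by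
  classical
  refine Int.cast_injective (α := ℂ) ?_
  rw [D.img_coef hM]
  have h : ∀ θ : IrrCharacter D.C, classInner (fun c : D.C => (Char.principal G : G → ℂ) (c : G))
      (θ : D.C → ℂ) = if Char.principal D.C = θ then 1 else 0 := fun θ => by
    have e : (fun c : D.C => (Char.principal G : G → ℂ) (c : G)) = (Char.principal D.C : D.C → ℂ) :=
      funext fun c => by simp [Char.principal]
    rw [e]
    split_ifs with h
    · rw [h, classInner_self_irr θ.2]
    · exact classInner_irr_of_ne (Char.principal D.C).2 θ.2 fun he => h (Subtype.ext he)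
  simp only [h, ite_mul, one_mul, zero_mul]
  rw [Finset.sum_ite_eq, if_pos (mem_pB.2 principal_mem_principalBlock)]

/-- The image as a class function. -/
theorem img_value (d : IrrCharacter D.C → ℤ) (g : G) :
    ∑ χ ∈ pB M G, (D.img M d χ : ℂ) * (χ : G → ℂ) g =
      (Nat.card D.C : ℂ)⁻¹ * ∑ y : D.C,
        (∑ θ ∈ pB M D.C, (d θ : ℂ) * (θ : D.C → ℂ) y) * blockPair (principalBlock M G) g (y : G) := by
  simp only [D.img_spec hM, classInner, pair_eq_sum, Finset.mul_sum, Finset.sum_mul,
    Finset.sum_apply, Pi.smul_apply, smul_eq_mul]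
  rw [Finset.sum_comm]
  refine Finset.sum_congr rfl fun y _ => ?_
  exact Finset.sum_congr rfl fun χ _ => Finset.sum_congr rfl fun θ _ => by ring

variable {d : IrrCharacter D.C → ℤ}
  (hd : ∀ y : D.C, ¬ 3 ∣ orderOf y → ∑ θ ∈ pB M D.C, (d θ : ℂ) * (θ : D.C → ℂ) y = 0)
include hd

theorem img_regular {g : G} (hg : ¬ 3 ∣ orderOf g) :
    ∑ χ ∈ pB M G, (D.img M d χ : ℂ) * (χ : G → ℂ) g = 0 := by
  rw [D.img_value hM, Finset.sum_eq_zero, mul_zero]
  intro y _
  by_cases hy : 3 ∣ orderOf y
  · rw [blockPair_regular_singular hM (isPBlock_principalBlock M G) hg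
      (by rwa [Subgroup.orderOf_coe]), mul_zero]
  · rw [hd y hy, zero_mul]

theorem img_singular {x : D.C} (hx : 3 ∣ orderOf x) :
    ∑ χ ∈ pB M G, (D.img M d χ : ℂ) * (χ : G → ℂ) (x : G) =
      ∑ θ ∈ pB M D.C, (d θ : ℂ) * (θ : D.C → ℂ) x := by
  classical
  rw [D.img_value hM, Finset.sum_congr rfl (g := fun y : D.C =>
      (∑ θ ∈ pB M D.C, (d θ : ℂ) * (θ : D.C → ℂ) y) * blockPair (principalBlock M D.C) x y) fun y _ => by
    by_cases hy : 3 ∣ orderOf y
    · rw [D.pair_eq hM hx hy]
    · rw [hd y hy, zero_mul, zero_mul], ← blockPart_eq_pair, blockPart_eq_sum]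
  refine Finset.sum_congr (by ext; simp [mem_pB]) fun θ hθ => ?_
  congr 1
  have e : (fun y : D.C => ∑ θ ∈ pB M D.C, (d θ : ℂ) * (θ : D.C → ℂ) y) =
      ∑ θ ∈ pB M D.C, (d θ : ℂ) • (θ : D.C → ℂ) := by
    funext y; simp [Finset.sum_apply]
  rw [e, classInner_sum_left, Finset.sum_eq_single θ]
  · rw [classInner_smul_left, classInner_self_irr θ.2, mul_one]
  · intro η _ hne
    rw [classInner_smul_left, classInner_irr_of_ne η.2 θ.2 fun h => hne (Subtype.ext h), mul_zero]
  · exact fun h => absurd (by simpa [mem_pB] using hθ) h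

theorem ip_img [DecidableEq (IrrCharacter G)] [DecidableEq (IrrCharacter D.C)]
    (d' : IrrCharacter D.C → ℤ)
    (hd' : ∀ y : D.C, ¬ 3 ∣ orderOf y → ∑ θ ∈ pB M D.C, (d' θ : ℂ) * (θ : D.C → ℂ) y = 0) :
    ip (pB M G) (D.img M d) (D.img M d') = ip (pB M D.C) d d' := by
  classical
  refine Int.cast_injective (α := ℂ) ?_
  set f := ∑ θ ∈ pB M D.C, (d θ : ℂ) • (θ : D.C → ℂ) with hf
  set f' := ∑ θ ∈ pB M D.C, (d' θ : ℂ) • (θ : D.C → ℂ) with hf'
  have h1 : classInner f (fun y : D.C => ∑ χ ∈ pB M G, (D.img M d' χ : ℂ) * (χ : G → ℂ) (y : G)) =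
      classInner f f' := by
    unfold classInner
    congr 1
    refine Finset.sum_congr rfl fun y _ => ?_
    by_cases hy : 3 ∣ orderOf y
    · dsimp only
      rw [D.img_singular hM hd' hy]
      simp [hf', Finset.sum_apply]
    · have h0 : f y = 0 := by simpa [hf, Finset.sum_apply] using hd y hy
      rw [h0, zero_mul, zero_mul]
  have h2 : classInner f f' = ((ip (pB M D.C) d d' : ℤ) : ℂ) := by
    rw [hf', classInner_sum_right]
    unfold ip
    push_cast
    refine Finset.sum_congr rfl fun θ hθ => ?_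
    rw [classInner_smul_right, map_intCast, hf, classInner_sum_left, Finset.sum_eq_single θ]
    · rw [classInner_smul_left, classInner_self_irr θ.2, mul_one, mul_comm]
    · intro η _ hne
      rw [classInner_smul_left, classInner_irr_of_ne η.2 θ.2 fun h => hne (Subtype.ext h), mul_zero]
    · exact fun h => absurd hθ h
  rw [← h2, ← h1]
  have e : (fun y : D.C => ∑ χ ∈ pB M G, (D.img M d' χ : ℂ) * (χ : G → ℂ) (y : G)) =
      ∑ χ ∈ pB M G, (D.img M d' χ : ℂ) • fun y : D.C => (χ : G → ℂ) (y : G) := by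
    funext y; simp [Finset.sum_apply]
  rw [e, classInner_sum_right]
  unfold ip
  push_cast
  refine Finset.sum_congr rfl fun χ _ => ?_
  rw [classInner_smul_right, map_intCast, D.img_spec hM, mul_comm]

theorem ip_col_img [DecidableEq (IrrCharacter G)] [DecidableEq (IrrCharacter D.C)] (i : Fin r) :
    ip (pB M G) (col u i) (D.img M d) = ip (pB M D.C) (col D.uC i) d := by
  refine Int.cast_injective (α := ℂ) ?_
  unfold ip
  push_cast
  rw [Finset.sum_congr rfl fun χ _ => by rw [D.hS.col_spec, mul_comm, ← D.huC i],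
    D.img_singular hM hd (by rw [D.hSC.uord i])]
  exact Finset.sum_congr rfl fun θ _ => by rw [D.hSC.col_spec, mul_comm]

end Pair

/-- The signed regular parts of the six span all of theirs. -/
theorem Setup.six_span [NeZero r] [DecidableEq (IrrCharacter G)] (hS : Setup z u)
    (hM : IsPModular 3 M) {q : ℕ} (T : Six (pB M G) (col u) (Char.principal G) q) (hr : r ≠ 3) {χ : IrrCharacter G}
    (hχ : χ ∈ T.set) :
    pRegularPart 3 (χ : G → ℂ) ∈ Submodule.span ℂ
      (Set.range fun t : Fin q => pRegularPart 3 (T.a t : G → ℂ)) := by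
  classical
  set S := Submodule.span ℂ (Set.range fun t : Fin q => pRegularPart 3 (T.a t : G → ℂ))
  rcases Finset.mem_union.1 hχ with h | h <;> obtain ⟨j, -, rfl⟩ := Finset.mem_image.1 h
  · exact Submodule.subset_span ⟨j, rfl⟩
  set fA : Fin q → G → ℂ := fun t => (T.ε (T.a t) : ℂ) • pRegularPart 3 (T.a t : G → ℂ)
  set fB : Fin r → G → ℂ := fun l => (T.ε (T.b l) : ℂ) • pRegularPart 3 (T.b l : G → ℂ)
  have hrel : ∀ i, ∑ t, fA t + ((3 : ℂ) • fB i - ∑ l, fB l) = 0 := by
    intro i
    funext g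
    simp only [Pi.add_apply, Pi.sub_apply, Pi.smul_apply, Finset.sum_apply, smul_eq_mul,
      Pi.zero_apply, fA, fB, pRegularPart, IsPRegular]
    by_cases hg : 3 ∣ orderOf g
    · simp [hg]
    · simp only [hg, not_false_eq_true, ↓reduceIte]
      have h := hS.col_sum hM i g hg
      rw [pB_eq, ← Finset.sum_subset T.subset (fun χ hχ hn => by
        rw [T.n_eq_zero hχ hn i, Int.cast_zero, zero_mul]), T.sum_set] at h
      rw [← h]
      congr 1
      · exact Finset.sum_congr rfl fun t _ => by rw [T.na]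
      · symm
        rw [Finset.sum_congr rfl (g := fun l => (if i = l then 3 * ((T.ε (T.b l) : ℂ) * (T.b l : G → ℂ) g) else 0) -
            (T.ε (T.b l) : ℂ) * (T.b l : G → ℂ) g) fun l _ => by
            rw [T.nb]; split_ifs <;> push_cast <;> ring,
          Finset.sum_sub_distrib, Finset.sum_ite_eq, if_pos (Finset.mem_univ _)]
  have hB : ∀ l, fB l = fB j := fun l => by
    have h := (hrel l).trans (hrel j).symm
    rw [add_right_inj, sub_left_inj] at h
    exact smul_right_injective _ (by norm_num : (3 : ℂ) ≠ 0) h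
  have h := hrel j
  rw [Finset.sum_congr rfl fun l _ => hB l, Finset.sum_const, Finset.card_univ, Fintype.card_fin,
    ← Nat.cast_smul_eq_nsmul ℂ, ← sub_smul] at h
  have hr3 : (3 - (r : ℂ)) ≠ 0 := by
    rw [sub_ne_zero]; intro e; exact hr (by exact_mod_cast e.symm)
  have hmem : (3 - (r : ℂ)) • fB j ∈ S := by
    rw [eq_neg_of_add_eq_zero_right h]
    exact neg_mem (Submodule.sum_mem _ fun t _ => Submodule.smul_mem _ _
      (Submodule.subset_span ⟨t, rfl⟩))
  have h2 := S.smul_mem ((3 - (r : ℂ))⁻¹ * (T.ε (T.b j) : ℂ)) hmem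
  simp only [fB, smul_smul] at h2
  have e : (3 - (r : ℂ))⁻¹ * (T.ε (T.b j) : ℂ) * ((3 - (r : ℂ)) * (T.ε (T.b j) : ℂ)) = 1 := by
    have := congrArg (fun n : ℤ => (n : ℂ)) (T.sq (T.b j))
    push_cast at this
    field_simp
    linear_combination this
  rwa [e, one_smul] at h2

/-- The numbers of the principal block. -/
theorem Pair.numbers [NeZero r] (D : Pair z u) (hr : r = 1 ∨ r = 2 ∨ r = 4)
    (hM : IsPModular 3 M) :
    Nat.card (principalBlock M G) = 6 + 2 * (6 - r) ∧
      blockRank 3 (principalBlock M G) = 6 - r ∧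
      Nat.card {χ : IrrCharacter G // χ ∈ principalBlock M G ∧
        blockHeight 3 (principalBlock M G) (χ : G → ℂ) = 0} = 6 := by
  classical
  obtain ⟨W⟩ := D.hSC.exists_vectors D.central hM hr
  set S := pB M G with hS
  have hd : ∀ t, ∀ y : D.C, ¬ 3 ∣ orderOf y →
      ∑ θ ∈ pB M D.C, (W.v t θ : ℂ) * (θ : D.C → ℂ) y = 0 := W.vreg
  have hd' : ∀ t i, ∀ y : D.C, ¬ 3 ∣ orderOf y →
      ∑ θ ∈ pB M D.C, (W.w t i θ : ℂ) * (θ : D.C → ℂ) y = 0 := W.wreg
  set v : Fin (6 - r) → IrrCharacter G → ℤ := fun t => D.img M (W.v t) with hv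
  set w : Fin (6 - r) → Fin r → IrrCharacter G → ℤ := fun t i => D.img M (W.w t i) with hw
  have hvv : ∀ s t, ip S (v s) (v t) = if s = t then 2 else 0 := fun s t =>
    (D.ip_img hM (hd s) _ (hd t)).trans (W.vv s t)
  have hwv : ∀ i s t, ip S (w s i) (v t) = if s = t then 1 else 0 := fun i s t =>
    (D.ip_img hM (hd' s i) _ (hd t)).trans (W.wv i s t)
  have hnv : ∀ i t, ip S (col u i) (v t) = 0 := fun i t => (D.ip_col_img hM (hd t) i).trans (W.nv i t)
  have hnw : ∀ j s i, ip S (col u j) (w s i) = if j = i then 3 else 0 := fun j s i =>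
    (D.ip_col_img hM (hd' s i) j).trans (W.nw j s i)
  have hww : ∀ i s t, ip S (w s i) (w t i) = if s = t then 3 else 1 := fun i s t =>
    (D.ip_img hM (hd' s i) _ (hd' t i)).trans (W.ww i s t)
  have hv0 : ∀ t, v t (Char.principal G) = 0 := fun t => (D.img_principal hM _).trans (W.v0 t)
  have hshape := D.hS.shape hM hr
  rw [pB_eq] at hshape
  obtain ⟨T⟩ : Nonempty (Six S (col u) (Char.principal G) (6 - r)) := by
    refine hshape.resolve_right ?_
    rintro ⟨rfl, hle, h9⟩
    exact not_nine (col u 0) (x₀ := Char.principal G) (mem_pB.2 principal_mem_principalBlock)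
      (D.hS.col_principal 0) hle h9 v (fun t => w t 0) hvv (hwv 0) (hnv 0)
      (fun t => by rw [hnw 0 t 0, if_pos rfl]) (fun t => by rw [hww 0 t t, if_pos rfl]) hv0
  obtain ⟨P, hPS, hP2, hPd, hPT, hvsupp, hwsupp⟩ := images (col u) T (NeZero.pos r) v w W.s₀
    hvv hwv hnv hnw hww hv0 (fun t i => (D.img_principal hM _).trans (W.w0 t i))
  -- nothing is orthogonal to the images
  have hkill : ∀ γ : IrrCharacter G → ℂ,
      (∀ i, ∑ χ ∈ S, γ χ * (col u i χ : ℂ) = 0) →
      (∀ t, ∑ χ ∈ S, γ χ * (v t χ : ℂ) = 0) → (∀ t, ∑ χ ∈ S, γ χ * (w t 0 χ : ℂ) = 0) →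
      ∀ g : G, 3 ∣ orderOf g → ∑ χ ∈ S, γ χ * (χ : G → ℂ) g = 0 := by
    intro γ h1 h2 h3
    set k : IrrCharacter D.C → ℂ := fun θ =>
      ∑ χ ∈ S, γ χ * classInner (fun c : D.C => (χ : G → ℂ) (c : G)) (θ : D.C → ℂ) with hk
    have hval : ∀ x : D.C, 3 ∣ orderOf x → ∑ χ ∈ S, γ χ * (χ : G → ℂ) (x : G) =
        ∑ θ ∈ pB M D.C, k θ * (θ : D.C → ℂ) x := by
      intro x hx
      rw [Finset.sum_congr rfl fun χ hχ => by rw [D.res_sing hM hχ hx]]
      simp only [hk, Finset.sum_mul, Finset.mul_sum]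
      rw [Finset.sum_comm]
      exact Finset.sum_congr rfl fun θ _ => Finset.sum_congr rfl fun χ _ => by ring
    have himg : ∀ d : IrrCharacter D.C → ℤ, ∑ θ ∈ pB M D.C, k θ * (d θ : ℂ) =
        ∑ χ ∈ S, γ χ * (D.img M d χ : ℂ) := by
      intro d
      simp only [D.img_coef hM, hk, Finset.sum_mul, Finset.mul_sum]
      rw [Finset.sum_comm]
      exact Finset.sum_congr rfl fun θ _ => Finset.sum_congr rfl fun χ _ => by ring
    have hk1 : ∀ i, ∑ θ ∈ pB M D.C, k θ * (col D.uC i θ : ℂ) = 0 := fun i => by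
      rw [Finset.sum_congr rfl fun θ _ => by rw [D.hSC.col_spec], ← hval _ (by rw [D.hSC.uord i]),
        ← h1 i]
      exact Finset.sum_congr rfl fun χ _ => by rw [D.hS.col_spec, D.huC]
    have hk3 : ∀ t i, ∑ θ ∈ pB M D.C, k θ * (W.w t i θ : ℂ) = 0 := fun t i => by
      have h0 : ∑ θ ∈ pB M D.C, k θ * (W.w t 0 θ : ℂ) = 0 := (himg _).trans (h3 t)
      have e : ∑ θ ∈ pB M D.C, k θ * (3 * (W.w t i θ : ℂ) - 3 * (W.w t 0 θ : ℂ)) =
          ∑ θ ∈ pB M D.C, k θ * ((col D.uC i θ : ℂ) - (col D.uC 0 θ : ℂ)) := by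
        refine Finset.sum_congr rfl fun θ hθ => ?_
        have := congrArg (fun n : ℤ => (n : ℂ)) (W.wshift t i 0 θ hθ)
        push_cast at this
        linear_combination (k θ) * this
      simp only [mul_sub, Finset.sum_sub_distrib, hk1, sub_zero] at e
      have e2 : ∑ θ ∈ pB M D.C, k θ * (3 * (W.w t i θ : ℂ)) = 3 * ∑ θ ∈ pB M D.C, k θ * (W.w t i θ : ℂ) := by
        rw [Finset.mul_sum]; exact Finset.sum_congr rfl fun θ _ => by ring
      have e3 : ∑ θ ∈ pB M D.C, k θ * (3 * (W.w t 0 θ : ℂ)) = 3 * ∑ θ ∈ pB M D.C, k θ * (W.w t 0 θ : ℂ) := by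
        rw [Finset.mul_sum]; exact Finset.sum_congr rfl fun θ _ => by ring
      rw [e2, e3, h0] at e
      linear_combination e / 3
    have hz := W.kill k hk1 (fun t => (himg _).trans (h2 t)) hk3
    intro g hg
    obtain ⟨a, ha⟩ := exists_isPPart Nat.prime_three g
    have ha1 : a ≠ 1 := fun e => (isPPart_one_iff Nat.prime_three).1 (e ▸ ha) hg
    obtain ⟨-, -, -, hka, -⟩ := id ha
    have hzcase : ∀ (y : G) (yC : D.C), (yC : G) = y →
        D.C = Subgroup.centralizer ({y} : Set G) → IsConj y a →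
        (∀ s : D.C, ¬ 3 ∣ orderOf s → 3 ∣ orderOf (yC * s) ∧
          ∑ θ ∈ pB M D.C, k θ * (θ : D.C → ℂ) (yC * s) = 0) →
        ∑ χ ∈ S, γ χ * (χ : G → ℂ) g = 0 := by
      intro y yC hy hyC hconj hker
      obtain ⟨c, hc⟩ := isConj_iff.1 hconj
      have h := IsPPart.conj ha c⁻¹
      rw [← hc, show c⁻¹ * (c * y * c⁻¹) * c⁻¹⁻¹ = y by group, inv_inv] at h
      obtain ⟨s, hs, hcs, -, hodd⟩ := h
      have hsC : s ∈ D.C := hyC ▸ Subgroup.mem_centralizer_singleton_iff.2 hcs.eq.symm
      obtain ⟨h3', h0⟩ := hker ⟨s, hsC⟩ (by rwa [Subgroup.orderOf_mk])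
      rw [← hval _ h3'] at h0
      rw [← h0]
      refine Finset.sum_congr rfl fun χ _ => ?_
      rw [Subgroup.coe_mul, hy, hs, show (χ : G → ℂ) (c⁻¹ * g * c) = (χ : G → ℂ) g by
        have := irr_conj_invariant χ g c⁻¹; rwa [inv_inv] at this]
    have hord : ∀ yC : D.C, (∀ c, Commute yC c) → (∃ j, orderOf yC = 3 ^ j) → yC ≠ 1 →
        ∀ s : D.C, ¬ 3 ∣ orderOf s → 3 ∣ orderOf (yC * s) := by
      intro a hac haj ha1 s hs
      by_contra h
      exact ha1 (isPPart_unique Nat.prime_three ⟨s, rfl, hac s, haj, hs⟩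
        ((isPPart_one_iff Nat.prime_three).2 h))
    rcases D.hS.classes a hka ha1 with h | h | ⟨i, h⟩
    · exact hzcase z D.zC D.hzC D.hC h fun s hs =>
        ⟨hord _ D.central D.hSC.zElt D.hSC.z_ne_one s hs, (hz s hs).1⟩
    · exact hzcase z⁻¹ D.zC⁻¹ (by rw [Subgroup.coe_inv, D.hzC]) D.centralizer_zinv h fun s hs =>
        ⟨hord _ (fun c => (D.central c).inv_left) D.hSC.zElt' (inv_ne_one.2 D.hSC.z_ne_one) s hs,
          (hz s hs).2⟩
    · rw [← h1 i]
      exact Finset.sum_congr rfl fun χ hχ => by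
        rw [D.hS.value_sec hM (mem_pB.1 hχ) i ha h, ← D.hS.col_spec]
  -- the members
  set O := Finset.univ.biUnion P with hO
  have hmem : S = T.set ∪ O := by
    refine Finset.Subset.antisymm (fun χ hχ => ?_)
      (Finset.union_subset T.subset (Finset.biUnion_subset.2 fun t _ => hPS t))
    by_contra hn
    simp only [hO, Finset.mem_union, Finset.mem_biUnion, Finset.mem_univ, true_and, not_or,
      not_exists] at hn
    have hzero : ∀ g : G, 3 ∣ orderOf g → (χ : G → ℂ) g = 0 := by
      intro g hg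
      have h := hkill (fun ψ => if ψ = χ then 1 else 0) (fun i => ?_) (fun t => ?_) (fun t => ?_) g hg
      · simpa [Finset.sum_ite_eq', hχ] using h
      · simp [hχ, T.n_eq_zero hχ hn.1 i]
      · simp [hχ, hvsupp t χ hχ (hn.2 t)]
      · simp [hχ, hwsupp t 0 χ hχ (hn.2 t) hn.1]
    have hne : χ ≠ Char.principal G := fun e => hn.1 ((congrArg (· ∈ T.set) (e.trans T.ha₀.symm)).mpr (T.a_mem T.t₀))
    have h0 := classInner_irr_of_ne χ.2 (Char.principal G).2 fun e => hne (Subtype.ext e)
    unfold classInner at h0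
    rw [mul_eq_zero] at h0
    have h0' := h0.resolve_left (inv_ne_zero (Nat.cast_ne_zero.2 Nat.card_pos.ne'))
    refine regular_ne_zero hM (mem_pB.1 hχ) ?_
    rw [← h0', ← Finset.sum_filter_add_sum_filter_not Finset.univ (fun g : G => ¬ 3 ∣ orderOf g),
      Finset.sum_eq_zero (s := Finset.univ.filter fun g : G => ¬ ¬ 3 ∣ orderOf g) fun g hg => by
        rw [hzero g (not_not.1 (Finset.mem_filter.1 hg).2), zero_mul], add_zero]
    exact Finset.sum_congr rfl fun g _ => by simp [Char.principal]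
  have hdisj : Disjoint T.set O := by
    rw [hO, Finset.disjoint_biUnion_right]
    exact fun t _ => (hPT t).symm
  have hcard : S.card = 6 + 2 * (6 - r) := by
    rw [hmem, Finset.card_union_of_disjoint hdisj, T.card_set, hO,
      Finset.card_biUnion (fun a _ b _ hab => hPd a b hab), Finset.sum_congr rfl fun t _ => hP2 t,
      Finset.sum_const, Finset.card_univ, Fintype.card_fin, smul_eq_mul]
    omega
  have hk : Nat.card (principalBlock M G) = S.card := by
    rw [← Nat.card_eq_finsetCard]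
    exact Nat.card_congr (Equiv.subtypeEquivRight fun χ => mem_pB.symm)
  refine ⟨hk.trans hcard, ?_, ?_⟩
  · -- the rank
    set R := Submodule.span ℂ ((fun χ : IrrCharacter G => pRegularPart 3 (χ : G → ℂ)) ''
      principalBlock M G) with hR
    set A := Submodule.span ℂ (Set.range fun t : Fin (6 - r) => pRegularPart 3 (T.a t : G → ℂ))
    have hRA : R ≤ A := by
      rw [hR, Submodule.span_le]
      rintro _ ⟨χ, hχ, rfl⟩
      have hχS : χ ∈ S := mem_pB.2 hχ
      rw [hmem] at hχS
      rcases Finset.mem_union.1 hχS with h | h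
      · exact D.hS.six_span hM T (by omega) h
      obtain ⟨t, -, ht⟩ := Finset.mem_biUnion.1 h
      obtain ⟨y, hy, hxy, hPe⟩ : ∃ y ∈ P t, χ ≠ y ∧ P t = {χ, y} := by
        obtain ⟨a, b, hab, he⟩ := Finset.card_eq_two.1 (hP2 t)
        rw [he, Finset.mem_insert, Finset.mem_singleton] at ht
        rcases ht with rfl | rfl
        · exact ⟨b, by simp [he], hab, he⟩
        · exact ⟨a, by simp [he], hab.symm, by rw [he, Finset.pair_comm]⟩
      have hxS : χ ∈ S := hPS t (by simp [hPe])
      have hyS : y ∈ S := hPS t hy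
      have hv1 : v t χ * v t χ = 1 ∧ v t y * v t y = 1 := by
        have h2 := hvv t t
        rw [if_pos rfl, ip_eq_two_point hxS hyS hxy (fun z hz a b => hvsupp t z hz (by
          rw [hPe]; simp [a, b]))] at h2
        have h3 := hwv 0 t t
        rw [if_pos rfl, ip_comm, ip_eq_two_point hxS hyS hxy (fun z hz a b => hvsupp t z hz (by
          rw [hPe]; simp [a, b]))] at h3
        rcases unit_cases (show v t χ * v t χ ≤ 3 by nlinarith [mul_self_nonneg (v t y)]) with e | e | e <;>
          rcases unit_cases (show v t y * v t y ≤ 3 by nlinarith [mul_self_nonneg (v t χ)]) with e' | e' | e' <;>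
          rw [e, e'] at h2 ⊢ <;> omega
      have hw1 : v t χ * w t 0 χ + v t y * w t 0 y = 1 := by
        have h3 := hwv 0 t t
        rwa [if_pos rfl, ip_comm, ip_eq_two_point hxS hyS hxy (fun z hz a b => hvsupp t z hz (by
          rw [hPe]; simp [a, b]))] at h3
      have hreg : ∀ d : IrrCharacter D.C → ℤ,
          (∀ y : D.C, ¬ 3 ∣ orderOf y → ∑ θ ∈ pB M D.C, (d θ : ℂ) * (θ : D.C → ℂ) y = 0) →
          ∑ ψ ∈ S, (D.img M d ψ : ℂ) • pRegularPart 3 (ψ : G → ℂ) = 0 := by
        intro d hd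
        funext g
        simp only [Finset.sum_apply, Pi.smul_apply, smul_eq_mul, Pi.zero_apply, pRegularPart,
          IsPRegular]
        by_cases hg : 3 ∣ orderOf g
        · simp [hg]
        · simp only [hg, not_false_eq_true, ↓reduceIte]
          exact D.img_regular hM hd hg
      set rx := pRegularPart 3 (χ : G → ℂ)
      set ry := pRegularPart 3 (y : G → ℂ)
      have ev : (v t χ : ℂ) • rx + (v t y : ℂ) • ry = 0 := by
        have e := hreg _ (hd t)
        rw [← Finset.sum_subset (hPS t) fun ψ hψ hn => by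
          rw [show D.img M (W.v t) ψ = 0 from hvsupp t ψ hψ hn, Int.cast_zero, zero_smul],
          hPe, Finset.sum_pair hxy] at e
        exact e
      have ew : (w t 0 χ : ℂ) • rx + (w t 0 y : ℂ) • ry ∈ A := by
        have e := hreg _ (hd' t 0)
        rw [← Finset.sum_subset (Finset.union_subset (hPS t) T.subset) fun ψ hψ hn => by
          rw [show D.img M (W.w t 0) ψ = 0 from hwsupp t 0 ψ hψ (fun h => hn (Finset.mem_union_left _ h))
            (fun h => hn (Finset.mem_union_right _ h)), Int.cast_zero, zero_smul],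
          Finset.sum_union (hPT t), hPe, Finset.sum_pair hxy, add_eq_zero_iff_eq_neg] at e
        show (D.img M (W.w t 0) χ : ℂ) • rx + (D.img M (W.w t 0) y : ℂ) • ry ∈ A
        rw [e]
        exact neg_mem (Submodule.sum_mem _ fun ψ hψ => Submodule.smul_mem _ _
          (D.hS.six_span hM T (by omega) hψ))
      have hry : ry = (-((v t y : ℂ) * (v t χ : ℂ))) • rx := by
        have hy1 := congrArg (fun n : ℤ => (n : ℂ)) hv1.2
        push_cast at hy1
        calc ry = ((v t y : ℂ) * (v t y : ℂ)) • ry := by rw [hy1, one_smul]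
          _ = (v t y : ℂ) • -((v t χ : ℂ) • rx) := by
              rw [mul_smul, eq_neg_of_add_eq_zero_right ev]
          _ = _ := by module
      rw [hry, smul_smul, ← add_smul] at ew
      have hcoef : ((w t 0 χ : ℂ) + (w t 0 y : ℂ) * -((v t y : ℂ) * (v t χ : ℂ))) ≠ 0 := by
        intro h0
        have hi : w t 0 χ + w t 0 y * -(v t y * v t χ) = 0 := by exact_mod_cast h0
        have h1 : v t χ * w t 0 χ = v t y * w t 0 y := by
          linear_combination (v t χ) * hi + (w t 0 y * v t y) * hv1.1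
        omega
      have := A.smul_mem ((w t 0 χ : ℂ) + (w t 0 y : ℂ) * -((v t y : ℂ) * (v t χ : ℂ)))⁻¹ ew
      rwa [smul_smul, inv_mul_cancel₀ hcoef, one_smul] at this
    refine le_antisymm ?_ ?_
    · haveI : FiniteDimensional ℂ A := FiniteDimensional.span_of_finite ℂ (Set.finite_range _)
      exact (Submodule.finrank_mono hRA).trans
        ((finrank_range_le_card _).trans (by rw [Fintype.card_fin]))
    · let L : (S → ℂ) →ₗ[ℂ] (G → ℂ) := {
        toFun := fun γ => ∑ χ : S, γ χ • pRegularPart 3 (χ.1 : G → ℂ)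
        map_add' := fun γ γ' => by simp only [Pi.add_apply, add_smul, Finset.sum_add_distrib]
        map_smul' := fun c γ => by
          simp only [Pi.smul_apply, smul_eq_mul, RingHom.id_apply, Finset.smul_sum, smul_smul] }
      let K : (S → ℂ) →ₗ[ℂ] (Fin (6 - r) → ℂ) × (Fin (6 - r) → ℂ) × (Fin r → ℂ) := {
        toFun := fun γ => (fun t => ∑ χ : S, γ χ * (v t χ.1 : ℂ),
          fun t => ∑ χ : S, γ χ * (w t 0 χ.1 : ℂ), fun i => ∑ χ : S, γ χ * (col u i χ.1 : ℂ))
        map_add' := fun γ γ' => by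
          ext <;> simp [add_mul, Finset.sum_add_distrib]
        map_smul' := fun c γ => by
          ext <;> simp [Finset.mul_sum, mul_assoc] }
      have hrange : LinearMap.range L ≤ R := by
        rintro _ ⟨γ, rfl⟩
        exact Submodule.sum_mem _ fun χ _ => Submodule.smul_mem _ _
          (Submodule.subset_span ⟨χ.1, mem_pB.1 χ.2, rfl⟩)
      have hinj : ∀ γ ∈ LinearMap.ker L, K γ = 0 → γ = 0 := by
        intro γ hL hK
        let γ' : IrrCharacter G → ℂ := fun χ => if h : χ ∈ S then γ ⟨χ, h⟩ else 0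
        have hγ : ∀ f : IrrCharacter G → ℂ, ∑ χ ∈ S, γ' χ * f χ = ∑ χ : S, γ χ * f χ.1 := fun f => by
          rw [← Finset.sum_coe_sort]
          exact Finset.sum_congr rfl fun χ _ => by simp [γ', χ.2]
        simp only [K, LinearMap.coe_mk, AddHom.coe_mk, Prod.mk_eq_zero] at hK
        have hsing := hkill γ' (fun i => (hγ _).trans (congrFun hK.2.2 i))
          (fun t => (hγ _).trans (congrFun hK.1 t)) (fun t => (hγ _).trans (congrFun hK.2.1 t))
        have hall : ∑ χ : IrrCharacter G, (if χ ∈ S then γ' χ else 0) • (χ : G → ℂ) = 0 := by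
          funext g
          simp only [Finset.sum_apply, Pi.smul_apply, smul_eq_mul, ite_mul, zero_mul, Pi.zero_apply,
            Finset.sum_ite_mem, Finset.univ_inter]
          by_cases hg : 3 ∣ orderOf g
          · exact hsing g hg
          · rw [hγ fun χ => (χ : G → ℂ) g]
            have h2 := congrFun (LinearMap.mem_ker.1 hL) g
            simpa [L, pRegularPart, IsPRegular, hg, Finset.sum_apply] using h2
        funext χ
        have h3 := classInner_combination (fun ψ => if ψ ∈ S then γ' ψ else 0) χ.1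
        rw [hall] at h3
        simp [classInner, γ', χ.2] at h3
        simpa using h3.symm
      have h1 : Module.finrank ℂ (LinearMap.ker L) ≤ 2 * (6 - r) + r := by
        have h := LinearMap.finrank_le_finrank_of_injective (f := K.domRestrict (LinearMap.ker L))
          (LinearMap.ker_eq_bot.1 (Submodule.eq_bot_iff _ |>.2 fun γ hγ =>
            Subtype.ext (hinj γ.1 γ.2 (LinearMap.mem_ker.1 hγ))))
        simp only [Module.finrank_prod, Module.finrank_fintype_fun_eq_card, Fintype.card_fin] at h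
        omega
      have h2 := LinearMap.finrank_range_add_finrank_ker L
      rw [Module.finrank_fintype_fun_eq_card, Fintype.card_coe, hcard] at h2
      have h3 := Submodule.finrank_mono hrange
      show 6 - r ≤ Module.finrank ℂ R
      omega
  · -- the heights
    have hinf : sInf ((fun ψ : IrrCharacter G => (charDegree (ψ : G → ℂ)).factorization 3) ''
        principalBlock M G) = 0 :=
      Nat.eq_zero_of_le_zero (Nat.sInf_le ⟨Char.principal G, principal_mem_principalBlock,
        by simp [Char.principal, charDegree]⟩)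
    have hiff : ∀ χ : IrrCharacter G, (χ ∈ principalBlock M G ∧
        blockHeight 3 (principalBlock M G) (χ : G → ℂ) = 0) ↔ χ ∈ T.set := by
      intro χ
      have hh : blockHeight 3 (principalBlock M G) (χ : G → ℂ) = 0 ↔
          ¬ 3 ∣ charDegree (χ : G → ℂ) := by
        rw [blockHeight, hinf, Nat.sub_zero, Nat.factorization_eq_zero_iff]
        simp [Nat.prime_three, (charDegree_pos χ).ne']
      constructor
      · rintro ⟨hχ, h0⟩
        by_contra hn
        have h := D.hS.col_congr hM 0 χ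
        rw [T.n_eq_zero (mem_pB.2 hχ) hn 0] at h
        exact (hh.1 h0) (by exact_mod_cast (dvd_neg.1 (zero_sub (charDegree (χ : G → ℂ) : ℤ) ▸ h)))
      · intro hχ
        refine ⟨mem_pB.1 (T.subset hχ), hh.2 fun h3 => ?_⟩
        have h := D.hS.col_congr hM 0 χ
        have h' : (3 : ℤ) ∣ col u 0 χ := by
          have := dvd_add h (show (3 : ℤ) ∣ (charDegree (χ : G → ℂ) : ℤ) by exact_mod_cast h3)
          simpa using this
        rcases Finset.mem_union.1 hχ with h'' | h'' <;> obtain ⟨t, -, rfl⟩ := Finset.mem_image.1 h''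
        · rw [T.na] at h'
          rcases Int.eq_one_or_neg_one_of_mul_eq_one (T.sq (T.a t)) with e | e <;> rw [e] at h' <;>
            omega
        · rw [T.nb] at h'
          rcases Int.eq_one_or_neg_one_of_mul_eq_one (T.sq (T.b t)) with e | e <;> rw [e] at h' <;>
            split_ifs at h' <;> omega
    rw [Nat.card_congr (Equiv.subtypeEquivRight hiff), Nat.card_eq_finsetCard, T.card_set]
    omega

end Cfsg.Agent.ExtraThree
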