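import Cfsg.Agent.Lib.ExtraThree.Fusion
import Cfsg.Agent.Lib.ExtraThree.Transfer

/-!
The classes of the noncentral elements of the Sylow subgroup and the local data attached to them.
-/

set_option autoImplicit false
set_option linter.unusedSectionVars false
set_option linter.style.haveILetI false
set_option maxHeartbeats 1000000

namespace Cfsg.Agent.ExtraThree

open Subgroup

universe u

variable {G : Type u} [Group G] [Finite G] {P : Sylow 3 G} {z : G}

/-- Representatives of the classes of the noncentral elements, each conjugate to its inverse. -/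
structure Reps (P : Sylow 3 G) (z : G) {r : ℕ} (u : Fin r → G) : Prop where
  mem : ∀ i, u i ∈ (P : Subgroup G)
  out : ∀ i, u i ∉ zpowers z
  sep : ∀ i j, (∃ n ∈ Subgroup.normalizer ((P : Subgroup G) : Set G),
    n * u i * n⁻¹ = u j) → i = j
  cover : ∀ x ∈ (P : Subgroup G), x ∉ zpowers z →
    ∃ i, ∃ n ∈ Subgroup.normalizer ((P : Subgroup G) : Set G), n * u i * n⁻¹ = x
  inv : ∀ i, ∃ n ∈ Subgroup.normalizer ((P : Subgroup G) : Set G), n * u i * n⁻¹ = (u i)⁻¹

/-- The hypotheses give a central element with the local properties. -/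
theorem exists_loc (P : Sylow 3 G) (hE : Cfsg.IsExtraspecial 3 ↥(P : Subgroup G))
    (h27 : Nat.card ↥(P : Subgroup G) = 27) (hexp : ∀ x ∈ (P : Subgroup G), x ^ 3 = 1)
    (hNC : ∀ g ∈ Subgroup.normalizer ((P : Subgroup G) : Set G), ∀ z ∈ (P : Subgroup G),
      (∀ y ∈ (P : Subgroup G), z * y = y * z) → g * z = z * g) :
    ∃ z, Loc P z := by
  haveI : Fact (Nat.Prime 3) := ⟨Nat.prime_three⟩
  haveI : Fintype ↥(P : Subgroup G) := Fintype.ofFinite _
  haveI : Nontrivial ↥(Subgroup.center ↥(P : Subgroup G)) :=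
    Finite.one_lt_card_iff_nontrivial.1 (by rw [hE.2]; norm_num)
  obtain ⟨⟨w, hw⟩, hw1⟩ := exists_ne (1 : Subgroup.center ↥(P : Subgroup G))
  have hw1' : w ≠ 1 := fun e => hw1 (Subtype.ext e)
  have hz := Cfsg.Agent.Char.XS.zpowers_eq_center hE hw hw1'
  have hmap : ∀ x : ↥(P : Subgroup G), x ∈ Subgroup.center ↥(P : Subgroup G) →
      (x : G) ∈ zpowers (w : G) := by
    intro x hx
    rw [← hz] at hx
    obtain ⟨i, hi⟩ := mem_zpowers_iff.1 hx
    exact mem_zpowers_iff.2 ⟨i, by rw [← hi]; simp⟩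
  have hzc : ∀ y ∈ (P : Subgroup G), Commute (w : G) y := fun y hy =>
    (congrArg Subtype.val (Subgroup.mem_center_iff.1 hw ⟨y, hy⟩)).symm
  refine ⟨w, ⟨h27, hexp, w.2, fun e => hw1' (Subtype.ext e), hzc, ?_, ?_, ?_⟩⟩
  · intro x hx hc
    refine hmap ⟨x, hx⟩ (Subgroup.mem_center_iff.2 fun y => Subtype.ext ?_)
    exact ((hc y y.2).eq).symm
  · intro x hx y hy
    refine hmap (⟨x, hx⟩ * ⟨y, hy⟩ * ⟨x, hx⟩⁻¹ * ⟨y, hy⟩⁻¹) ?_
    rw [← hE.1.2.2]
    exact Subgroup.commutator_mem_commutator (Subgroup.mem_top _) (Subgroup.mem_top _)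
  · exact fun g hg => hNC g hg w w.2 fun y hy => (hzc y hy).eq

namespace Loc

variable (h : Loc P z)
include h

/-- The local properties pass to a subgroup containing the normaliser. -/
theorem restrict {H : Subgroup G} (hPH : (P : Subgroup G) ≤ H) :
    Loc (P.subtype hPH) (⟨z, hPH h.zP⟩ : H) where
  card := by
    rw [← h.card]
    exact Nat.card_congr (Subgroup.subgroupOfEquivOfLe hPH).toEquiv
  exp x hx := Subtype.ext (h.exp x hx)
  zP := h.zP
  zne e := h.zne (congrArg Subtype.val e)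
  zc y hy := Subtype.ext (h.zc y hy).eq
  zonly x hx hc := by
    obtain ⟨i, hi⟩ := mem_zpowers_iff.1 (h.zonly x hx fun y hy =>
      congrArg Subtype.val (hc ⟨y, hPH hy⟩ hy).eq)
    exact mem_zpowers_iff.2 ⟨i, Subtype.ext (by simpa using hi)⟩
  comm x hx y hy := by
    obtain ⟨i, hi⟩ := mem_zpowers_iff.1 (h.comm x hx y hy)
    exact mem_zpowers_iff.2 ⟨i, Subtype.ext (by simpa using hi)⟩
  nz g hg := by
    refine Subtype.ext (h.nz g ?_).eq
    refine mem_normalizer_iff.2 fun p => ⟨fun hp => (mem_normalizer_iff.1 hg ⟨p, hPH hp⟩).1 hp, fun hp => ?_⟩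
    have hpH : p ∈ H := by
      rw [show p = (g : G)⁻¹ * ((g : G) * p * (g : G)⁻¹) * g by group]
      exact mul_mem (mul_mem (inv_mem g.2) (hPH hp)) g.2
    exact (mem_normalizer_iff.1 hg ⟨p, hpH⟩).2 hp

theorem normalizer_le : Subgroup.normalizer ((P : Subgroup G) : Set G) ≤ centralizer ({z} : Set G) :=
  fun g hg => mem_centralizer_singleton_iff.2 (h.nz g hg).eq

theorem reps_restrict {r : ℕ} {u : Fin r → G} (hu : Reps P z u) {H : Subgroup G}
    (hPH : (P : Subgroup G) ≤ H)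
    (hNH : Subgroup.normalizer ((P : Subgroup G) : Set G) ≤ H) :
    Reps (P.subtype hPH) (⟨z, hPH h.zP⟩ : H) (fun i => (⟨u i, hPH (hu.mem i)⟩ : H)) := by
  have hN : ∀ n : H, n ∈ Subgroup.normalizer (((P.subtype hPH : Sylow 3 H) : Subgroup H) : Set H) ↔
      (n : G) ∈ Subgroup.normalizer ((P : Subgroup G) : Set G) := by
    intro n
    rw [mem_normalizer_iff, mem_normalizer_iff]
    refine ⟨fun hn p => ⟨fun hp => (hn ⟨p, hPH hp⟩).1 hp, fun hp => ?_⟩, fun hn p => hn p⟩
    have hpH : p ∈ H := by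
      rw [show p = (n : G)⁻¹ * ((n : G) * p * (n : G)⁻¹) * n by group]
      exact mul_mem (mul_mem (inv_mem n.2) (hPH hp)) n.2
    exact (hn ⟨p, hpH⟩).2 hp
  refine ⟨fun i => hu.mem i, fun i hi => ?_, fun i j hij => ?_, fun x hx hx' => ?_, fun i => ?_⟩
  · obtain ⟨m, hm⟩ := mem_zpowers_iff.1 hi
    exact hu.out i (mem_zpowers_iff.2 ⟨m, by simpa using congrArg Subtype.val hm⟩)
  · obtain ⟨n, hn, hne⟩ := hij
    exact hu.sep i j ⟨n, (hN n).1 hn, congrArg Subtype.val hne⟩
  · obtain ⟨i, n, hn, hne⟩ := hu.cover x hx fun hxz => hx' (by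
      obtain ⟨m, hm⟩ := mem_zpowers_iff.1 hxz
      exact mem_zpowers_iff.2 ⟨m, Subtype.ext (by simpa using hm)⟩)
    exact ⟨i, ⟨n, hNH hn⟩, (hN ⟨n, hNH hn⟩).2 hn, Subtype.ext hne⟩
  · obtain ⟨n, hn, hne⟩ := hu.inv i
    exact ⟨⟨n, hNH hn⟩, (hN ⟨n, hNH hn⟩).2 hn, Subtype.ext hne⟩

/-- The centraliser of a noncentral element has a normal `3`-complement. -/
theorem compl {v : G} (hv : v ∈ (P : Subgroup G)) (hv' : v ∉ zpowers z) :
    ∃ N : Subgroup ↥(centralizer ({v} : Set G)),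
      N.Normal ∧ ¬ 3 ∣ Nat.card N ∧ N.index = 9 := by
  haveI : Fact (Nat.Prime 3) := ⟨Nat.prime_three⟩
  set C := centralizer ({v} : Set G)
  obtain ⟨hD, hR⟩ := h.cent hv hv'
  set R := zpowers z ⊔ zpowers v
  obtain ⟨S, hS⟩ := h.sylow_cent hv hv' (hD ▸ inf_le_right : R ≤ C) hR
  have hSR : ∀ s : C, s ∈ (S : Subgroup C) ↔ (s : G) ∈ R := fun s => by
    rw [← hS]
    exact ⟨fun hs => ⟨s, hs, rfl⟩, fun ⟨t, ht, e⟩ => (Subtype.ext e : t = s) ▸ ht⟩
  have hP : Subgroup.normalizer ((S : Subgroup C) : Set C) ≤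
      centralizer ((S : Subgroup C) : Set C) := by
    intro n hn
    refine mem_centralizer_iff.2 fun s hs => Subtype.ext ?_
    have hnz : Commute (n : G) z := by
      have hzC : z ∈ C := mem_centralizer_singleton_iff.2 (h.zc v hv).eq
      have h1 := (hSR _).1 ((mem_normalizer_iff.1 hn ⟨z, hzC⟩).1
        ((hSR ⟨z, hzC⟩).2 (mem_sup_left (mem_zpowers z))))
      exact mul_inv_eq_iff_eq_mul.1 (h.z_of_mem ((hD ▸ inf_le_left : R ≤ _) h1))
    have hnv : Commute (n : G) v := mem_centralizer_singleton_iff.1 n.2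
    have hle : R ≤ centralizer ({(n : G)} : Set G) := sup_le
      (zpowers_le.2 (mem_centralizer_singleton_iff.2 hnz.symm.eq))
      (zpowers_le.2 (mem_centralizer_singleton_iff.2 hnv.symm.eq))
    exact mem_centralizer_singleton_iff.1 (hle ((hSR s).1 hs))
  refine ⟨(MonoidHom.transferSylow S hP).ker, inferInstance,
    MonoidHom.not_dvd_card_ker_transferSylow S hP, ?_⟩
  rw [(MonoidHom.ker_transferSylow_isComplement' S hP).symm.index_eq_card, ← hR, ← hS,
    Subgroup.card_map_of_injective C.subtype_injective]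

/-- The local data of the group. -/
theorem setup {r : ℕ} {u : Fin r → G} (hu : Reps P z u) : Setup z u where
  zord := h.zord
  uord i := h.elt_ord (hu.mem i) (h.out_ne_one (hu.out i))
  classes y hy hy1 := by
    haveI : Fact (Nat.Prime 3) := ⟨Nat.prime_three⟩
    obtain ⟨k, hk⟩ := hy
    obtain ⟨Q, hQ⟩ := (IsPGroup.of_card (p := 3) (n := k)
      (by rw [Nat.card_zpowers, hk]) : IsPGroup 3 ↥(zpowers y)).exists_le_sylow
    obtain ⟨g, hg⟩ := MulAction.exists_smul_eq G P Q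
    have hx : g⁻¹ * y * g ∈ (P : Subgroup G) := by
      have h1 : y ∈ (Q : Subgroup G) := hQ (mem_zpowers y)
      rw [← hg, Sylow.coe_subgroup_smul, mem_pointwise_smul_iff_inv_smul_mem] at h1
      simpa [MulAut.smul_def] using h1
    have hconj : IsConj (g⁻¹ * y * g) y := isConj_iff.2 ⟨g, by group⟩
    by_cases hx' : g⁻¹ * y * g ∈ zpowers z
    · rcases h.zcases hx' with e | e | e
      · exact absurd (by rw [show y = g * (g⁻¹ * y * g) * g⁻¹ by group, e]; group) hy1
      · exact Or.inl (e ▸ hconj)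
      · exact Or.inr (Or.inl (e ▸ hconj))
    · obtain ⟨i, n, -, hn⟩ := hu.cover _ hx hx'
      exact Or.inr (Or.inr ⟨i, (isConj_iff.2 ⟨n, hn⟩ : IsConj (u i) _).trans hconj⟩)
  zinv := h.zinv
  zu i := h.z_out (hu.mem i) (hu.out i)
  zu' i := h.zinv_out (hu.mem i) (hu.out i)
  usep i j hij := hu.sep i j (h.fusion (hu.mem i) (hu.out i) (hu.mem j) (hu.out j) hij)
  uinv i := by
    obtain ⟨n, -, hn⟩ := hu.inv i
    exact isConj_iff.2 ⟨n, hn⟩
  uz i := by
    obtain ⟨p, -, hp⟩ := h.conj_z (hu.mem i) (hu.out i)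
    exact isConj_iff.2 ⟨p, hp⟩
  comm i := h.zc _ (hu.mem i)
  compl i := h.compl (hu.mem i) (hu.out i)

/-- The group and the centraliser of the centre. -/
noncomputable def pair [Fintype G] {r : ℕ} {u : Fin r → G} (hu : Reps P z u) : Pair z u where
  hS := h.setup hu
  C := centralizer ({z} : Set G)
  hC := rfl
  zC := ⟨z, h.normalizer_le (le_normalizer h.zP)⟩
  uC i := ⟨u i, h.normalizer_le (le_normalizer (hu.mem i))⟩
  hzC := rfl
  huC _ := rfl
  hSC := (h.restrict (le_normalizer.trans h.normalizer_le)).setup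
    (h.reps_restrict hu (le_normalizer.trans h.normalizer_le) h.normalizer_le)

theorem sup_le_normalizer : (P : Subgroup G) ⊔ centralizer ((P : Subgroup G) : Set G) ≤
    Subgroup.normalizer ((P : Subgroup G) : Set G) :=
  sup_le le_normalizer (centralizer_le_normalizer _)

theorem cube_central {x n : G} (hx : x ∈ (P : Subgroup G)) (hx' : x ∉ zpowers z)
    (hn : n ∈ Subgroup.normalizer ((P : Subgroup G) : Set G)) (hnx : Commute n x) :
    n ^ 3 ∈ centralizer ((P : Subgroup G) : Set G) := by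
  refine mem_centralizer_iff.2 fun y hy => ?_
  set r := y⁻¹ * (n * y * n⁻¹) with hr
  have hnyP : n * y * n⁻¹ ∈ (P : Subgroup G) := (mem_normalizer_iff.1 hn y).1 hy
  have hrP : r ∈ (P : Subgroup G) := mul_mem (inv_mem hy) hnyP
  have hrx : Commute r x := by
    obtain ⟨i, hi⟩ := mem_zpowers_iff.1 (h.comm y hy x hx)
    have e1 : y * x * y⁻¹ = z ^ i * x := by rw [hi]; group
    have hni : n⁻¹ * x * n = x := by rw [mul_assoc, ← hnx.eq, inv_mul_cancel_left]
    have e2 : (n * y * n⁻¹) * x * (n * y * n⁻¹)⁻¹ = y * x * y⁻¹ := by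
      calc (n * y * n⁻¹) * x * (n * y * n⁻¹)⁻¹
          = n * (y * (n⁻¹ * x * n) * y⁻¹) * n⁻¹ := by group
        _ = n * (z ^ i * x) * n⁻¹ := by rw [hni, e1]
        _ = z ^ i * x := by
            rw [← mul_assoc n, ((h.nz n hn).zpow_right i).eq, mul_assoc (z ^ i), hnx.eq,
              mul_assoc, mul_assoc, mul_inv_cancel, mul_one]
        _ = y * x * y⁻¹ := e1.symm
    have e3 : r * x * r⁻¹ = x := by
      calc r * x * r⁻¹ = y⁻¹ * ((n * y * n⁻¹) * x * (n * y * n⁻¹)⁻¹) * y := by rw [hr]; group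
        _ = x := by rw [e2]; group
    exact mul_inv_eq_iff_eq_mul.1 e3
  have hnr : Commute n r := by
    have hle : zpowers z ⊔ zpowers x ≤ centralizer ({n} : Set G) := sup_le
      (zpowers_le.2 (mem_centralizer_singleton_iff.2 (h.nz n hn).symm.eq))
      (zpowers_le.2 (mem_centralizer_singleton_iff.2 hnx.symm.eq))
    have hrR : r ∈ zpowers z ⊔ zpowers x :=
      (h.cent hx hx').1 ▸ mem_inf.2 ⟨hrP, mem_centralizer_singleton_iff.2 hrx.eq⟩
    exact (mem_centralizer_singleton_iff.1 (hle hrR) : Commute r n).symm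
  have h1 : n * y * n⁻¹ = y * r := by rw [hr]; group
  have hrn : n * r * n⁻¹ = r := by rw [hnr.eq, mul_inv_cancel_right]
  have h3 : n ^ 3 * y * (n ^ 3)⁻¹ = y := by
    calc n ^ 3 * y * (n ^ 3)⁻¹ = n * (n * (n * y * n⁻¹) * n⁻¹) * n⁻¹ := by
          simp only [pow_succ, pow_zero, one_mul, mul_inv_rev, mul_assoc]
      _ = n * (n * (y * r) * n⁻¹) * n⁻¹ := by rw [h1]
      _ = n * ((n * y * n⁻¹) * (n * r * n⁻¹)) * n⁻¹ := by group
      _ = n * (y * r * r) * n⁻¹ := by rw [h1, hrn]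
      _ = (n * y * n⁻¹) * (n * r * n⁻¹) * (n * r * n⁻¹) := by group
      _ = y * r ^ 3 := by rw [h1, hrn, pow_succ, pow_two]; group
      _ = y := by rw [h.exp r hrP, mul_one]
  exact (mul_inv_eq_iff_eq_mul.1 h3).symm

theorem stab {x n : G} (hx : x ∈ (P : Subgroup G)) (hx' : x ∉ zpowers z)
    (hn : n ∈ Subgroup.normalizer ((P : Subgroup G) : Set G))
    (hnx : n * x * n⁻¹ * x⁻¹ ∈ zpowers z) :
    n ∈ (P : Subgroup G) ⊔ centralizer ((P : Subgroup G) : Set G) := by
  haveI : Fact (Nat.Prime 3) := ⟨Nat.prime_three⟩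
  obtain ⟨p, hp, hpx⟩ := h.conj_coset hx hx' hnx
  set m := p⁻¹ * n with hm
  have hmN : m ∈ Subgroup.normalizer ((P : Subgroup G) : Set G) :=
    mul_mem (inv_mem (le_normalizer hp)) hn
  have hmx : Commute m x := by
    refine mul_inv_eq_iff_eq_mul.1 ?_
    calc m * x * m⁻¹ = p⁻¹ * (n * x * n⁻¹) * p := by rw [hm]; group
      _ = x := by rw [← hpx]; group
  have h3 := h.cube_central hx hx' hmN hmx
  suffices hmem : m ∈ (P : Subgroup G) ⊔ centralizer ((P : Subgroup G) : Set G) by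
    rw [show n = p * m by rw [hm]; group]
    exact mul_mem (mem_sup_left hp) hmem
  obtain ⟨k, l, hl, hkl⟩ := Nat.exists_eq_pow_mul_and_not_dvd (orderOf_pos m).ne' 3 (by norm_num)
  have hpk : IsPGroup 3 ↥(zpowers (m ^ l)) := IsPGroup.of_card (n := k) (by
    rw [Nat.card_zpowers, orderOf_pow, hkl, Nat.gcd_mul_left_left,
      Nat.mul_div_assoc _ (dvd_refl l), Nat.div_self (Nat.pos_of_ne_zero fun e => hl (by rw [e]; exact dvd_zero 3)),
      mul_one])
  have hml : m ^ l ∈ (P : Subgroup G) := by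
    have h1 : m ^ l ∈ zpowers (m ^ l) ⊓ Subgroup.normalizer ((P : Subgroup G) : Set G) :=
      mem_inf.2 ⟨mem_zpowers _, pow_mem hmN l⟩
    exact ((hpk.inf_normalizer_sylow P).le h1).2
  have hcop : Nat.Coprime 3 l := (Nat.Prime.coprime_iff_not_dvd Nat.prime_three).2 hl
  have hb := Nat.gcd_eq_gcd_ab 3 l
  rw [hcop.gcd_eq_one] at hb
  have hme : m = (m ^ 3) ^ Nat.gcdA 3 l * (m ^ l) ^ Nat.gcdB 3 l := by
    rw [← zpow_natCast, ← zpow_natCast, ← zpow_mul, ← zpow_mul, ← zpow_add, ← hb]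
    exact (zpow_one m).symm
  rw [hme]
  exact mul_mem (zpow_mem (mem_sup_right h3) _) (zpow_mem (mem_sup_left hml) _)

theorem conj_inv {e : ℕ}
    (he : ((P : Subgroup G) ⊔ centralizer ((P : Subgroup G) : Set G)).relIndex
      (Subgroup.normalizer ((P : Subgroup G) : Set G)) = e) (he2 : 2 ∣ e)
    {x : G} (hx : x ∈ (P : Subgroup G)) (hx' : x ∉ zpowers z) :
    ∃ n ∈ Subgroup.normalizer ((P : Subgroup G) : Set G), n * x * n⁻¹ = x⁻¹ := by
  haveI : Fact (Nat.Prime 2) := ⟨Nat.prime_two⟩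
  set N := Subgroup.normalizer ((P : Subgroup G) : Set G)
  set M0 := (P : Subgroup G) ⊔ centralizer ((P : Subgroup G) : Set G)
  obtain ⟨T⟩ := (inferInstance : Nonempty (Sylow 2 N))
  have hTnot : ¬ (T : Subgroup N) ≤ M0.subgroupOf N := fun hle =>
    T.not_dvd_index (he2.trans (he ▸ (Subgroup.index_dvd_of_le hle :
      (M0.subgroupOf N).index ∣ (T : Subgroup N).index)))
  obtain ⟨s, hsT, hs⟩ := SetLike.not_le_iff_exists.1 hTnot
  obtain ⟨j, hj⟩ := T.isPGroup' ⟨s, hsT⟩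
  have hj' : (s : N) ^ 2 ^ j = 1 := by simpa using congrArg Subtype.val hj
  obtain ⟨t, ht, ht2⟩ : ∃ t : N, t ∉ M0.subgroupOf N ∧ t * t ∈ M0.subgroupOf N := by
    clear hj hsT
    induction j generalizing s with
    | zero => exact absurd (by rw [pow_zero, pow_one] at hj'; rw [hj']; exact one_mem _) hs
    | succ j ih =>
      by_cases hh : s * s ∈ M0.subgroupOf N
      · exact ⟨s, hs, hh⟩
      · exact ih (s * s) hh (by rw [← pow_two, ← pow_mul, ← pow_succ', hj'])
  rw [Subgroup.mem_subgroupOf] at ht ht2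
  rw [Subgroup.coe_mul] at ht2
  have htz : Commute (t : G) z := h.nz _ t.2
  set y := (t : G) * x * (t : G)⁻¹ with hy
  have hyP : y ∈ (P : Subgroup G) := (mem_normalizer_iff.1 t.2 x).1 hx
  obtain ⟨-, hty⟩ := mem_kfix.1 (h.le_kfix hx ht2)
  set a := (t : G) * (t : G) * x * ((t : G) * (t : G))⁻¹ * x⁻¹ with ha
  have hta : (t : G) * y * (t : G)⁻¹ = a * x := by rw [ha, hy]; group
  set w := x * y with hw
  have hwz : w ∈ zpowers z := by
    by_contra hw'
    refine ht (h.stab (mul_mem hx hyP) hw' t.2 ?_)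
    have e1 : (t : G) * w * (t : G)⁻¹ * w⁻¹ = y * ((t : G) * y * (t : G)⁻¹) * w⁻¹ := by
      rw [hw, hy]; group
    have haP : a ∈ (P : Subgroup G) := h.zle hty
    obtain ⟨i, hi⟩ := mem_zpowers_iff.1 hty
    have hac : y * a = a * y := by rw [← hi]; exact (((h.zc y hyP).zpow_left i).eq).symm
    have e2 : y * (a * x) * w⁻¹ = a * (y * x * y⁻¹ * x⁻¹) := by
      rw [hw, ← mul_assoc y a, hac]; group
    rw [e1, hta, e2]
    exact mul_mem hty (h.comm y hyP x hx)
  have hyout : y ∉ zpowers z := by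
    intro e
    obtain ⟨i, hi⟩ := mem_zpowers_iff.1 e
    refine hx' ?_
    rw [show x = (t : G)⁻¹ * y * t by rw [hy]; group, ← hi, (htz.inv_left.zpow_right i).eq,
      inv_mul_cancel_right]
    exact zpow_mem (mem_zpowers z) i
  obtain ⟨p, hp, hpy⟩ := h.conj_coset hyP hyout (w := x⁻¹) (by
    rw [show x⁻¹ * y⁻¹ = x⁻¹ * w⁻¹ * x by rw [hw]; group]
    obtain ⟨i, hi⟩ := mem_zpowers_iff.1 hwz
    rw [← hi, ← zpow_neg, mul_assoc, ((h.zc x hx).zpow_left (-i)).eq, inv_mul_cancel_left]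
    exact zpow_mem (mem_zpowers z) (-i))
  exact ⟨p * t, mul_mem (le_normalizer hp) t.2, by rw [← hpy, hy]; group⟩

end Loc

/-- The number of conjugates of an element by a subgroup. -/
theorem card_conj_image (H : Subgroup G) (x : G) :
    ((fun n => n * x * n⁻¹) '' (H : Set G)).ncard =
      (centralizer ({x} : Set G)).relIndex H := by
  have key : ∀ a b : H, (a : G) * x * (a : G)⁻¹ = (b : G) * x * (b : G)⁻¹ ↔
      a⁻¹ * b ∈ (centralizer ({x} : Set G)).subgroupOf H := by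
    intro a b
    rw [Subgroup.mem_subgroupOf, mem_centralizer_singleton_iff]
    push_cast
    constructor
    · intro e
      calc (a : G)⁻¹ * b * x = (a : G)⁻¹ * ((b : G) * x * (b : G)⁻¹) * b := by group
        _ = x * ((a : G)⁻¹ * b) := by rw [← e]; group
    · intro e
      calc (a : G) * x * (a : G)⁻¹ = (a : G) * (x * ((a : G)⁻¹ * b)) * (b : G)⁻¹ := by group
        _ = (b : G) * x * (b : G)⁻¹ := by rw [← e]; group
  rw [← Nat.card_coe_set_eq, Subgroup.relIndex, Subgroup.index]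
  refine (Nat.card_congr (Equiv.ofBijective
    (Quotient.lift (fun a : H =>
      (⟨(a : G) * x * (a : G)⁻¹, a, a.2, rfl⟩ : ↥((fun n => n * x * n⁻¹) '' (H : Set G))))
      fun a b hab => Subtype.ext ((key a b).2 (QuotientGroup.leftRel_apply.1 hab))) ⟨?_, ?_⟩)).symm
  · rintro ⟨a⟩ ⟨b⟩ e
    exact Quotient.sound (QuotientGroup.leftRel_apply.2 ((key a b).1 (congrArg Subtype.val e)))
  · rintro ⟨w, a, ha, rfl⟩
    exact ⟨Quotient.mk _ ⟨a, ha⟩, rfl⟩

namespace Loc

variable (h : Loc P z)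
include h

theorem card_orbit {e : ℕ}
    (he : ((P : Subgroup G) ⊔ centralizer ((P : Subgroup G) : Set G)).relIndex
      (Subgroup.normalizer ((P : Subgroup G) : Set G)) = e)
    {x : G} (hx : x ∈ (P : Subgroup G)) (hx' : x ∉ zpowers z) :
    ((fun n => n * x * n⁻¹) '' (Subgroup.normalizer ((P : Subgroup G) : Set G) : Set G)).ncard =
      3 * e := by
  set N := Subgroup.normalizer ((P : Subgroup G) : Set G)
  set M0 := (P : Subgroup G) ⊔ centralizer ((P : Subgroup G) : Set G)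
  have hle : centralizer ({x} : Set G) ⊓ N ≤ M0 := fun n hn => h.stab hx hx' hn.2 (by
    rw [mem_centralizer_singleton_iff.1 hn.1, mul_inv_cancel_right, mul_inv_cancel]
    exact one_mem _)
  have h3 : ((fun n => n * x * n⁻¹) '' (M0 : Set G)).ncard = 3 := by
    have himg : (fun n => n * x * n⁻¹) '' (M0 : Set G) = (fun w => w * x) '' (zpowers z : Set G) := by
      ext w
      constructor
      · rintro ⟨n, hn, rfl⟩
        exact ⟨n * x * n⁻¹ * x⁻¹, (mem_kfix.1 (h.le_kfix hx hn)).2, inv_mul_cancel_right _ _⟩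
      · rintro ⟨w, hw, rfl⟩
        obtain ⟨p, hp, hpw⟩ := h.conj_coset hx hx' (w := w * x) (by rwa [mul_inv_cancel_right])
        exact ⟨p, mem_sup_left hp, hpw⟩
    rw [himg, Set.ncard_image_of_injective _ (mul_left_injective x), ← Nat.card_coe_set_eq]
    exact (Nat.card_zpowers z).trans h.zord
  rw [card_conj_image] at h3 ⊢
  rw [← Subgroup.inf_relIndex_right, ← Subgroup.relIndex_mul_relIndex _ M0 N hle h.sup_le_normalizer, he]
  congr 1
  rw [← h3, ← Subgroup.inf_relIndex_right, ← Subgroup.inf_relIndex_right (centralizer ({x} : Set G)) M0,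
    inf_assoc, inf_eq_right.2 h.sup_le_normalizer]

theorem exists_reps {e : ℕ}
    (he : ((P : Subgroup G) ⊔ centralizer ((P : Subgroup G) : Set G)).relIndex
      (Subgroup.normalizer ((P : Subgroup G) : Set G)) = e) (he2 : 2 ∣ e) :
    ∃ (r : ℕ) (u : Fin r → G), Reps P z u ∧ r * (3 * e) = 24 := by
  classical
  haveI : Fintype G := Fintype.ofFinite G
  set N := Subgroup.normalizer ((P : Subgroup G) : Set G)
  set Ω := Finset.univ.filter fun x : G => x ∈ (P : Subgroup G) ∧ x ∉ zpowers z with hΩ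
  have hΩm : ∀ x, x ∈ Ω ↔ x ∈ (P : Subgroup G) ∧ x ∉ zpowers z := fun x => by simp [hΩ]
  have hΩc : Ω.card = 24 := by
    have hs : Ω = (Finset.univ.filter fun x : G => x ∈ (P : Subgroup G)) \
        (Finset.univ.filter fun x : G => x ∈ zpowers z) := by
      ext; simp [hΩ]
    rw [hs, Finset.card_sdiff_of_subset (Finset.monotone_filter_right _ fun x _ hx => h.zle hx),
      ← Fintype.card_subtype, ← Fintype.card_subtype, ← Nat.card_eq_fintype_card,
      ← Nat.card_eq_fintype_card]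
    show Nat.card ↥(P : Subgroup G) - Nat.card ↥(zpowers z) = 24
    rw [h.card, Nat.card_zpowers, h.zord]
  have hNΩ : ∀ n ∈ N, ∀ x ∈ Ω, n * x * n⁻¹ ∈ Ω := by
    intro n hn x hx
    obtain ⟨hxP, hxz⟩ := (hΩm x).1 hx
    refine (hΩm _).2 ⟨(mem_normalizer_iff.1 hn x).1 hxP, fun hm => hxz ?_⟩
    obtain ⟨i, hi⟩ := mem_zpowers_iff.1 hm
    rw [show x = n⁻¹ * (n * x * n⁻¹) * n by group, ← hi, ((h.nz n hn).inv_left.zpow_right i).eq,
      inv_mul_cancel_right]
    exact zpow_mem (mem_zpowers z) i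
  set T := Ω.image ConjClasses.mk with hT
  choose f hf using fun c : T => Finset.mem_image.1 c.2
  refine ⟨Fintype.card T, fun i => f ((Fintype.equivFin T).symm i),
    ⟨fun i => ((hΩm _).1 (hf _).1).1, fun i => ((hΩm _).1 (hf _).1).2, ?_, ?_, ?_⟩, ?_⟩
  · rintro i j ⟨n, -, hn⟩
    refine (Fintype.equivFin T).symm.injective (Subtype.ext ?_)
    rw [← (hf _).2, ← (hf ((Fintype.equivFin T).symm j)).2]
    exact ConjClasses.mk_eq_mk_iff_isConj.2 (isConj_iff.2 ⟨n, hn⟩)
  · intro x hxP hxz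
    have hxc : ConjClasses.mk x ∈ T := Finset.mem_image_of_mem _ ((hΩm x).2 ⟨hxP, hxz⟩)
    refine ⟨Fintype.equivFin T ⟨_, hxc⟩, ?_⟩
    simp only [Equiv.symm_apply_apply]
    obtain ⟨h1, h2⟩ := hf ⟨_, hxc⟩
    exact h.fusion ((hΩm _).1 h1).1 ((hΩm _).1 h1).2 hxP hxz
      (ConjClasses.mk_eq_mk_iff_isConj.1 h2)
  · exact fun i => h.conj_inv he he2 ((hΩm _).1 (hf _).1).1 ((hΩm _).1 (hf _).1).2
  · have hfib : ∀ c ∈ T, (Ω.filter fun x => ConjClasses.mk x = c).card = 3 * e := by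
      intro c hc
      obtain ⟨x, hx, rfl⟩ := Finset.mem_image.1 hc
      obtain ⟨hxP, hxz⟩ := (hΩm x).1 hx
      rw [← h.card_orbit he hxP hxz, ← Set.ncard_coe_finset]
      congr 1
      ext w
      simp only [Finset.coe_filter, Set.mem_setOf_eq, Set.mem_image, SetLike.mem_coe]
      constructor
      · rintro ⟨hw, hwc⟩
        exact h.fusion hxP hxz ((hΩm w).1 hw).1 ((hΩm w).1 hw).2
          (ConjClasses.mk_eq_mk_iff_isConj.1 hwc.symm)
      · rintro ⟨n, hn, rfl⟩
        exact ⟨hNΩ n hn x hx,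
          (ConjClasses.mk_eq_mk_iff_isConj.2 (isConj_iff.2 ⟨n, rfl⟩)).symm⟩
    rw [Fintype.card_coe, ← hΩc,
      Finset.card_eq_sum_card_fiberwise (f := ConjClasses.mk) (t := T)
        fun x hx => Finset.mem_image_of_mem _ hx,
      Finset.sum_congr rfl hfib, Finset.sum_const, smul_eq_mul]

end Loc

end Cfsg.Agent.ExtraThree
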