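import Cfsg.Agent.Lib.ExtraThree.Embed
import Cfsg.Agent.Lib.SmithTyrer.Part
import Cfsg.Agent.Lib.Blocks.Congr
import Cfsg.Agent.Lib.Blocks.RegularSum
import Cfsg.Agent.Lib.Blocks.SecondMain
import Cfsg.Agent.Lib.Blocks.Subsections
import Cfsg.Agent.Lib.Blocks.SubsectionRow
import Cfsg.Agent.Lib.BrauerPairs.SuzukiOrth

/-!
The `3`-local data of a group with extraspecial Sylow `3`-subgroup of order 27 whose centre is
isolated, and the columns of the principal block at the elements outside the centre.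
-/

set_option autoImplicit false
set_option linter.unusedSectionVars false
set_option linter.style.haveILetI false

namespace Cfsg.Agent.ExtraThree

open Cfsg Cfsg.Agent.Char Cfsg.Agent.Blocks Cfsg.Agent.SmithTyrer
open scoped ComplexConjugate

universe u

/-- A character of the principal block does not sum to zero over the regular elements. -/
theorem regular_ne_zero {G : Type u} [Group G] [Fintype G] {p : ℕ} {M : Ideal AlgInt} [M.IsPrime]
    (hM : IsPModular p M) {χ : IrrCharacter G} (hχ : χ ∈ principalBlock M G)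
    [DecidablePred fun x : G => ¬ p ∣ orderOf x] :
    ∑ g ∈ Finset.univ.filter (fun x : G => ¬ p ∣ orderOf x), (χ : G → ℂ) g ≠ 0 := by
  classical
  intro h0
  let w : MonoidAlgebra (locRing M) G := gaOfFun fun g => if ¬ p ∣ orderOf g then 1 else 0
  have hw : IsClassElt w := fun g h => by
    simp only [w, coeff_gaOfFun]
    have ho : orderOf (h * g * h⁻¹) = orderOf g := by rw [← MulAut.conj_apply, MulEquiv.orderOf_eq]
    simp only [ho]
  have hsum : ∀ ψ : IrrCharacter G, omegaR ψ w =
      (∑ g ∈ Finset.univ.filter (fun x : G => ¬ p ∣ orderOf x), (ψ : G → ℂ) g) / (ψ : G → ℂ) 1 := by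
    intro ψ
    rw [omega_eq_sum_div]
    congr 1
    rw [Finset.sum_filter]
    refine Finset.sum_congr rfl fun g _ => ?_
    simp only [w, coeff_gaOfFun]
    split_ifs <;> simp
  have hd := omegaR_congr (χ := Char.principal G) (ψ := χ) hχ hw
  rw [hsum, hsum, h0, zero_div, sub_zero] at hd
  have h1 := sum_regular_not_mem hM (ψ := Char.principal G) principal_mem_principalBlock (by
    simpa [charDegree, Char.principal] using hM.1.ne_one)
  refine h1 ?_
  simpa [Char.principal] using hd

/-- An element of order three conjugate to its inverse takes integral values. -/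
theorem int_value {G : Type u} [Group G] [Fintype G] {χ : G → ℂ} (hχ : IsCharacter G χ) {y : G}
    (hy : orderOf y = 3) (hinv : IsConj y y⁻¹) : ∃ n : ℤ, χ y = n := by
  obtain ⟨d, ρ, rfl⟩ := hχ
  obtain ⟨L, -, h2, h3, -⟩ := exists_eigenvalues ρ y
  have hprim := Complex.isPrimitiveRoot_exp 3 (by norm_num)
  set ω := Complex.exp (2 * Real.pi * Complex.I / (3 : ℕ)) with hω
  have hω2 : ω ^ 2 = -1 - ω := by
    have := hprim.geom_sum_eq_zero (by norm_num)
    simp [Finset.sum_range_succ] at this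
    linear_combination this
  have hz : ∀ z ∈ L, ∃ a b : ℤ, z = a + b * ω := fun z hz => by
    obtain ⟨i, hi, rfl⟩ := hprim.eq_pow_of_pow_eq_one (by rw [← hy]; exact h2 z hz)
    interval_cases i
    · exact ⟨1, 0, by simp⟩
    · exact ⟨0, 1, by simp⟩
    · exact ⟨-1, -1, by rw [hω2]; push_cast; ring⟩
  have hs : ∀ L' : Multiset ℂ, (∀ z ∈ L', ∃ a b : ℤ, z = a + b * ω) →
      ∃ a b : ℤ, L'.sum = a + b * ω := by
    intro L'
    induction L' using Multiset.induction with
    | empty => exact fun _ => ⟨0, 0, by simp⟩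
    | cons z L' ih =>
      intro h
      obtain ⟨a, b, e⟩ := h z (Multiset.mem_cons_self z L')
      obtain ⟨a', b', e'⟩ := ih fun w hw => h w (Multiset.mem_cons_of_mem hw)
      exact ⟨a + a', b + b', by rw [Multiset.sum_cons, e, e']; push_cast; ring⟩
  obtain ⟨a, b, hab⟩ := hs L hz
  have hval : ρ.character y = L.sum := by
    have := h3 1
    simpa using this
  have hcc : conj (ρ.character y) = ρ.character y := by
    have h1 := IsCharacter.inv (χ := ρ.character) ⟨d, ρ, rfl⟩ y
    obtain ⟨c, hc⟩ := isConj_iff.1 hinv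
    have h5 := IsCharacter.isClassFunction (χ := ρ.character) ⟨d, ρ, rfl⟩ y c
    rw [hc] at h5
    rw [← h1, h5]
  have hb : b = 0 := by
    by_contra hb
    rw [hval, hab, map_add, map_mul, map_intCast, map_intCast] at hcc
    have hreal : conj ω = ω := mul_left_cancel₀ (Int.cast_ne_zero.2 hb) (by linear_combination hcc)
    have hn : ω * conj ω = 1 := by
      rw [Complex.mul_conj, Complex.normSq_eq_norm_sq, hprim.norm'_eq_one (by norm_num)]
      simp
    rw [hreal, ← pow_two] at hn
    exact hprim.pow_ne_one_of_pos_of_lt (by norm_num) (by norm_num) hn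
  exact ⟨a, by rw [hval, hab, hb]; simp⟩

/-- The local data. -/
structure Setup {G : Type u} [Group G] [Finite G] (z : G) {r : ℕ} (u : Fin r → G) : Prop where
  zord : orderOf z = 3
  uord : ∀ i, orderOf (u i) = 3
  classes : ∀ y : G, (∃ k, orderOf y = 3 ^ k) → y ≠ 1 →
    IsConj z y ∨ IsConj z⁻¹ y ∨ ∃ i, IsConj (u i) y
  zinv : ¬ IsConj z z⁻¹
  zu : ∀ i, ¬ IsConj z (u i)
  zu' : ∀ i, ¬ IsConj z⁻¹ (u i)
  usep : ∀ i j, IsConj (u i) (u j) → i = j
  uinv : ∀ i, IsConj (u i) (u i)⁻¹
  uz : ∀ i, IsConj (u i) (z * u i)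
  comm : ∀ i, Commute z (u i)
  compl : ∀ i, ∃ N : Subgroup ↥(Subgroup.centralizer ({u i} : Set G)),
    N.Normal ∧ ¬ 3 ∣ Nat.card N ∧ N.index = 9

/-- The integral value at a noncentral element. -/
noncomputable def col {G : Type u} [Group G] {r : ℕ} (u : Fin r → G) (i : Fin r)
    (χ : IrrCharacter G) : ℤ := by
  classical
  exact if h : ∃ n : ℤ, (χ : G → ℂ) (u i) = n then h.choose else 0

variable {G : Type u} [Group G] [Fintype G] {z : G} {r : ℕ} {u : Fin r → G} {M : Ideal AlgInt}
  [M.IsPrime]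

namespace Setup

variable (hS : Setup z u)
include hS

theorem zElt : ∃ k, orderOf z = 3 ^ k := ⟨1, by rw [hS.zord]; norm_num⟩

theorem zElt' : ∃ k, orderOf z⁻¹ = 3 ^ k := ⟨1, by rw [orderOf_inv, hS.zord]; norm_num⟩

theorem uElt (i : Fin r) : ∃ k, orderOf (u i) = 3 ^ k := ⟨1, by rw [hS.uord i]; norm_num⟩

theorem z_ne_one : z ≠ 1 := fun h => by have := hS.zord; rw [h, orderOf_one] at this; omega

theorem u_ne_one (i : Fin r) : u i ≠ 1 := fun h => by
  have := hS.uord i; rw [h, orderOf_one] at this; omega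

theorem col_spec (i : Fin r) (χ : IrrCharacter G) : ((col u i χ : ℤ) : ℂ) = (χ : G → ℂ) (u i) := by
  have h := int_value (irr_isCharacter χ) (hS.uord i) (hS.uinv i)
  unfold col
  rw [dif_pos h]
  exact h.choose_spec.symm

theorem col_principal (i : Fin r) : col u i (Char.principal G) = 1 := by
  have := hS.col_spec i (Char.principal G)
  simp [Char.principal] at this
  exact_mod_cast this

theorem mem_compl {i : Fin r} {N : Subgroup ↥(Subgroup.centralizer ({u i} : Set G))} [N.Normal]
    (hN : N.index = 9) {c : ↥(Subgroup.centralizer ({u i} : Set G))} (hc : ¬ 3 ∣ orderOf c) :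
    c ∈ N := by
  rw [← QuotientGroup.eq_one_iff]
  have h1 : orderOf (c : ↥(Subgroup.centralizer ({u i} : Set G)) ⧸ N) ∣ orderOf c :=
    orderOf_map_dvd (QuotientGroup.mk' N) c
  have h2 : orderOf (c : ↥(Subgroup.centralizer ({u i} : Set G)) ⧸ N) ∣ 3 ^ 2 := by
    have := orderOf_dvd_natCard (c : ↥(Subgroup.centralizer ({u i} : Set G)) ⧸ N)
    rwa [← Subgroup.index_eq_card, hN] at this
  obtain ⟨j, -, hj⟩ := (Nat.dvd_prime_pow Nat.prime_three).1 h2
  rcases Nat.eq_zero_or_pos j with rfl | hj0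
  · exact orderOf_eq_one_iff.1 (by simpa using hj)
  · exact absurd ((dvd_pow_self 3 hj0.ne').trans (hj ▸ h1)) hc

variable (hM : IsPModular 3 M)
include hM

theorem value_u {χ : IrrCharacter G} (hχ : χ ∈ principalBlock M G) (i : Fin r) {s : G}
    (hc : Commute (u i) s) (hs : ¬ 3 ∣ orderOf s) : (χ : G → ℂ) (u i * s) = (χ : G → ℂ) (u i) := by
  haveI : Fintype ↥(Subgroup.centralizer ({u i} : Set G)) := Fintype.ofFinite _
  obtain ⟨N, hN, hN3, hN9⟩ := hS.compl i
  haveI := hN
  have hmem : s ∈ Subgroup.centralizer ({u i} : Set G) :=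
    Subgroup.mem_centralizer_singleton_iff.2 hc.eq.symm
  exact irr_section_of_kernel hM (hS.uElt i) rfl hχ N hN3 (v := ⟨s, hmem⟩)
    (hS.mem_compl hN9 (by rwa [Subgroup.orderOf_mk]))

theorem value_sec {χ : IrrCharacter G} (hχ : χ ∈ principalBlock M G) (i : Fin r) {g a : G}
    (ha : IsPPart 3 g a) (hc : IsConj (u i) a) : (χ : G → ℂ) g = (χ : G → ℂ) (u i) := by
  obtain ⟨c, hc⟩ := isConj_iff.1 hc
  have h := IsPPart.conj ha c⁻¹
  rw [← hc, show c⁻¹ * (c * u i * c⁻¹) * c⁻¹⁻¹ = u i by group, inv_inv] at h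
  obtain ⟨s, hs, hcs, -, hodd⟩ := h
  rw [← irr_conj_invariant χ g c⁻¹, inv_inv, ← hs]
  exact hS.value_u hM hχ i hcs hodd

theorem pair_u_self (i : Fin r) : blockPair (principalBlock M G) (u i) (u i) = 9 := by
  classical
  haveI : Fact (Nat.Prime 3) := ⟨Nat.prime_three⟩
  set C := Subgroup.centralizer ({u i} : Set G) with hC
  obtain ⟨N, hN, hN3, hN9⟩ : ∃ N : Subgroup C, N.Normal ∧ ¬ 3 ∣ Nat.card N ∧ N.index = 9 :=
    hS.compl i
  haveI := hN
  haveI : Fintype C := Fintype.ofFinite _
  have h1 : ¬ 3 ∣ orderOf (1 : C) := by simp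
  have h := blockPair_local hM (isPBlock_principalBlock M G) (u i) (hS.uElt i) C
    (by rw [hC, centralizer_zpowers_eq]) 1 1 h1 h1
  rw [unitBlocks_principal hM (hS.uElt i) hC, Finset.sum_singleton,
    blockPair_principal_of_pComplement hM N hN3 ⟨2, by rw [hN9]; norm_num⟩ h1] at h
  simp only [OneMemClass.coe_one, mul_one] at h
  rw [h]
  have h2 : (Nat.card C).factorization 3 = 2 := by
    rw [← N.index_mul_card, hN9, Nat.factorization_mul (by norm_num) Nat.card_pos.ne',
      Finsupp.add_apply, Nat.factorization_eq_zero_of_not_dvd hN3,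
      show (9 : ℕ) = 3 ^ 2 by norm_num, Nat.prime_three.factorization_pow, Finsupp.single_eq_same]
  rw [h2]; norm_num

theorem pair_u (i j : Fin r) :
    blockPair (principalBlock M G) (u i) (u j) = if i = j then 9 else 0 := by
  split_ifs with h
  · rw [← h]; exact hS.pair_u_self hM i
  · exact blockPair_eq_zero_of_pPart hM (isPBlock_principalBlock M G)
      ⟨1, mul_one _, Commute.one_right _, hS.uElt i, by simp⟩
      ⟨1, mul_one _, Commute.one_right _, hS.uElt j, by simp⟩ fun e => h (hS.usep i j e)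

theorem pair_regular_u {g : G} (hg : ¬ 3 ∣ orderOf g) (i : Fin r) :
    blockPair (principalBlock M G) g (u i) = 0 :=
  blockPair_regular_singular hM (isPBlock_principalBlock M G) hg (by rw [hS.uord i])

/-- The columns are congruent to the degrees. -/
theorem col_congr (i : Fin r) (χ : IrrCharacter G) :
    (3 : ℤ) ∣ col u i χ - (charDegree (χ : G → ℂ) : ℤ) := by
  have h := char_congr_regular hM (irr_isCharacter χ) (x := u i) (y := 1) (Commute.one_right _)
    (k := 1) (by rw [hS.uord i]; norm_num) (by simp)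
  rw [mul_one, ← hS.col_spec i χ, irr_one_eq_charDegree] at h
  refine (intCast_memLocalIdeal_iff hM _).1 ?_
  push_cast
  exact h

theorem col_sum (i : Fin r) [DecidablePred (· ∈ principalBlock M G)] :
    ∀ g : G, ¬ 3 ∣ orderOf g →
      ∑ χ ∈ Finset.univ.filter (· ∈ principalBlock M G),
        (col u i χ : ℂ) * (χ : G → ℂ) g = 0 := by
  intro g hg
  have h := congrArg conj (hS.pair_regular_u hM hg i)
  rw [blockPair_conj, map_zero] at h
  have h2 := congrArg conj h
  unfold blockPair at h2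
  rw [map_sum, map_zero] at h2
  refine Eq.trans (Finset.sum_congr (by ext; simp) fun χ _ => ?_) h2
  rw [map_mul, Complex.conj_conj, ← hS.col_spec i χ, map_intCast]

theorem col_orth (i j : Fin r) [DecidablePred (· ∈ principalBlock M G)] :
    ip (Finset.univ.filter (· ∈ principalBlock M G)) (col u i) (col u j) =
      if i = j then 9 else 0 := by
  have h := hS.pair_u hM i j
  unfold blockPair at h
  refine Int.cast_injective (α := ℂ) ?_
  rw [apply_ite (Int.cast : ℤ → ℂ)]
  push_cast
  rw [← h]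
  unfold ip
  push_cast
  refine Finset.sum_congr (by ext; simp) fun χ _ => ?_
  rw [← hS.col_spec j χ, hS.col_spec i χ, map_intCast]

/-- The shape of the columns in the principal block. -/
theorem shape [NeZero r] (hr : r = 1 ∨ r = 2 ∨ r = 4) [DecidablePred (· ∈ principalBlock M G)]
    [DecidableEq (IrrCharacter G)] :
    Nonempty (Six (Finset.univ.filter (· ∈ principalBlock M G)) (col u) (Char.principal G) (6 - r)) ∨
      (r = 1 ∧ (∀ χ ∈ Finset.univ.filter (· ∈ principalBlock M G), col u 0 χ * col u 0 χ ≤ 1) ∧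
        ((Finset.univ.filter (· ∈ principalBlock M G)).filter fun χ => col u 0 χ ≠ 0).card = 9) := by
  classical
  refine six_or_nine hr _ (by simp [principal_mem_principalBlock]) hS.col_principal
    (fun i j => hS.col_orth hM i j) (fun i j χ _ => ?_) (fun χ => (charDegree (χ : G → ℂ) : ℤ))
    (by simp [Char.principal, charDegree]) fun i => ?_
  · have h := dvd_sub (hS.col_congr hM i χ) (hS.col_congr hM j χ)
    simpa using h
  · have h := hS.col_sum hM i 1 (by simp)
    refine Int.cast_injective (α := ℂ) ?_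
    rw [Int.cast_zero, ← h]
    unfold ip
    push_cast
    exact Finset.sum_congr rfl fun χ _ => by rw [irr_one_eq_charDegree]

omit hM in
/-- A sum over the group by the four kinds of sections. -/
theorem sum_kinds (F : G → ℂ) [DecidablePred fun g : G => ¬ 3 ∣ orderOf g]
    [∀ y : G, DecidablePred fun g : G => ∃ a, IsPPart 3 g a ∧ IsConj y a] :
    ∑ g : G, F g = ∑ g ∈ Finset.univ.filter (fun g : G => ¬ 3 ∣ orderOf g), F g +
      ∑ g ∈ Finset.univ.filter (fun g : G => ∃ a, IsPPart 3 g a ∧ IsConj z a), F g +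
      ∑ g ∈ Finset.univ.filter (fun g : G => ∃ a, IsPPart 3 g a ∧ IsConj z⁻¹ a), F g +
      ∑ i, ∑ g ∈ Finset.univ.filter (fun g : G => ∃ a, IsPPart 3 g a ∧ IsConj (u i) a), F g := by
  classical
  simp only [Finset.sum_filter]
  rw [Finset.sum_comm (s := (Finset.univ : Finset (Fin r))), ← Finset.sum_add_distrib,
    ← Finset.sum_add_distrib, ← Finset.sum_add_distrib]
  refine Finset.sum_congr rfl fun g _ => ?_
  obtain ⟨a, ha⟩ := exists_isPPart Nat.prime_three g
  have hiff : ∀ y, (∃ b, IsPPart 3 g b ∧ IsConj y b) ↔ IsConj y a := fun y =>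
    ⟨fun ⟨b, hb, hy⟩ => isPPart_unique Nat.prime_three hb ha ▸ hy, fun h => ⟨a, ha, h⟩⟩
  simp only [hiff]
  by_cases ha1 : a = 1
  · subst ha1
    have hz : ¬ IsConj z 1 := fun h => hS.z_ne_one (isConj_one_left.1 h)
    have hz' : ¬ IsConj z⁻¹ 1 := fun h => hS.z_ne_one (inv_eq_one.1 (isConj_one_left.1 h))
    have hu : ∀ i, ¬ IsConj (u i) 1 := fun i h => hS.u_ne_one i (isConj_one_left.1 h)
    rw [if_pos ((isPPart_one_iff Nat.prime_three).1 ha)]
    rw [if_neg hz, if_neg hz', Finset.sum_eq_zero fun i _ => if_neg (hu i), add_zero, add_zero,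
      add_zero]
  · have hsing : ¬ ¬ 3 ∣ orderOf g := fun h => ha1
      (isPPart_unique Nat.prime_three ha ((isPPart_one_iff Nat.prime_three).2 h))
    rw [if_neg hsing]
    obtain ⟨-, -, -, hk, -⟩ := ha
    rcases hS.classes a hk ha1 with h | h | ⟨i, h⟩
    · have h1 : ¬ IsConj z⁻¹ a := fun e => hS.zinv (h.trans e.symm)
      have h2 : ∀ j, ¬ IsConj (u j) a := fun j e => hS.zu j (h.trans e.symm)
      rw [if_pos h, if_neg h1, Finset.sum_eq_zero fun j _ => if_neg (h2 j)]
      ring
    · have h1 : ¬ IsConj z a := fun e => hS.zinv (e.trans h.symm)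
      have h2 : ∀ j, ¬ IsConj (u j) a := fun j e => hS.zu' j (h.trans e.symm)
      rw [if_neg h1, if_pos h, Finset.sum_eq_zero fun j _ => if_neg (h2 j)]
      ring
    · have h1 : ¬ IsConj z a := fun e => hS.zu i (e.trans h.symm)
      have h1' : ¬ IsConj z⁻¹ a := fun e => hS.zu' i (e.trans h.symm)
      have h2 : ∀ j, IsConj (u j) a ↔ i = j :=
        fun j => ⟨fun e => hS.usep i j (h.trans e.symm), fun e => e ▸ h⟩
      rw [if_neg h1, if_neg h1', Finset.sum_eq_single i
        (fun j _ hj => if_neg fun e => hj ((h2 j).1 e).symm) (by simp), if_pos h]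
      ring

omit hM in
/-- The section of a noncentral element has a ninth of the group. -/
theorem sum_sec_u (i : Fin r) (F : G → ℂ) (c : ℂ)
    (hF : ∀ g : G, (∃ a, IsPPart 3 g a ∧ IsConj (u i) a) → F g = c)
    [DecidablePred fun g : G => ∃ a, IsPPart 3 g a ∧ IsConj (u i) a] :
    ∑ g ∈ Finset.univ.filter (fun g : G => ∃ a, IsPPart 3 g a ∧ IsConj (u i) a), F g =
      (Nat.card G : ℂ) / 9 * c := by
  classical
  rw [Finset.sum_congr rfl fun g hg => hF g (Finset.mem_filter.1 hg).2]
  set C := Subgroup.centralizer ({u i} : Set G) with hC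
  obtain ⟨N, hN, hN3, hN9⟩ : ∃ N : Subgroup C, N.Normal ∧ ¬ 3 ∣ Nat.card N ∧ N.index = 9 :=
    hS.compl i
  haveI := hN
  haveI : Fintype C := Fintype.ofFinite _
  rw [sum_section Nat.prime_three (hS.uElt i) hC (F := fun _ => c) (fun _ _ => rfl)]
  simp only [Finset.sum_const, nsmul_eq_mul]
  have hreg : (Finset.univ.filter fun w : C => ¬ 3 ∣ orderOf w).card = Nat.card N := by
    rw [Nat.card_eq_fintype_card, Fintype.card_of_subtype _ fun w => ?_]
    simp only [Finset.mem_filter, Finset.mem_univ, true_and]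
    exact ⟨fun hw => hS.mem_compl hN9 hw, fun hw h => hN3 (h.trans (N.orderOf_dvd_natCard hw))⟩
  have hcard : (Nat.card C : ℂ) = 9 * (Nat.card N : ℂ) := by
    rw [← N.index_mul_card, hN9]; push_cast; ring
  have hN0 : (Nat.card N : ℂ) ≠ 0 := Nat.cast_ne_zero.2 Nat.card_pos.ne'
  rw [hreg, hcard]
  field_simp

end Setup

end Cfsg.Agent.ExtraThree
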