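import Cfsg.Agent.Lib.ExtraThree.Central

/-!
The small vectors of the principal block of a centraliser of the centre.
-/

set_option autoImplicit false
set_option linter.unusedSectionVars false
set_option linter.style.haveILetI false
set_option maxHeartbeats 1000000

namespace Cfsg.Agent.ExtraThree

open Cfsg Cfsg.Agent.Char Cfsg.Agent.Blocks Cfsg.Agent.SmithTyrer
open scoped ComplexConjugate

universe u

variable {G : Type u} [Group G] [Fintype G] {z : G} {r : ℕ} {u : Fin r → G} {M : Ideal AlgInt}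
  [M.IsPrime]

/-- The small vectors. -/
structure Vectors (M : Ideal AlgInt) [M.IsPrime] (z : G) (u : Fin r → G) (q : ℕ) where
  v : Fin q → IrrCharacter G → ℤ
  w : Fin q → Fin r → IrrCharacter G → ℤ
  s₀ : Fin q
  vsupp : ∀ t χ, χ ∉ pB M G → v t χ = 0
  wsupp : ∀ t i χ, χ ∉ pB M G → w t i χ = 0
  vreg : ∀ t g, ¬ 3 ∣ orderOf g → ∑ χ ∈ pB M G, (v t χ : ℂ) * (χ : G → ℂ) g = 0
  wreg : ∀ t i g, ¬ 3 ∣ orderOf g → ∑ χ ∈ pB M G, (w t i χ : ℂ) * (χ : G → ℂ) g = 0
  vv : ∀ s t, ip (pB M G) (v s) (v t) = if s = t then 2 else 0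
  wv : ∀ i s t, ip (pB M G) (w s i) (v t) = if s = t then 1 else 0
  nv : ∀ i t, ip (pB M G) (col u i) (v t) = 0
  nw : ∀ j s i, ip (pB M G) (col u j) (w s i) = if j = i then 3 else 0
  ww : ∀ i s t, ip (pB M G) (w s i) (w t i) = if s = t then 3 else 1
  v0 : ∀ t, v t (Char.principal G) = 0
  w0 : ∀ s i, w s i (Char.principal G) = if s = s₀ then 1 else 0
  wshift : ∀ t i j, ∀ χ ∈ pB M G, 3 * (w t i χ - w t j χ) = col u i χ - col u j χ
  kill : ∀ c : IrrCharacter G → ℂ,
    (∀ i, ∑ χ ∈ pB M G, c χ * (col u i χ : ℂ) = 0) →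
    (∀ t, ∑ χ ∈ pB M G, c χ * (v t χ : ℂ) = 0) →
    (∀ t i, ∑ χ ∈ pB M G, c χ * (w t i χ : ℂ) = 0) →
    ∀ s, ¬ 3 ∣ orderOf s → ∑ χ ∈ pB M G, c χ * (χ : G → ℂ) (z * s) = 0 ∧
      ∑ χ ∈ pB M G, c χ * (χ : G → ℂ) (z⁻¹ * s) = 0

theorem sum_pt_mul {X : Type*} [DecidableEq X] {S : Finset X} {a : X} (ha : a ∈ S) (s : ℤ)
    (g : X → ℂ) : ∑ x ∈ S, (pt a s x : ℂ) * g x = (s : ℂ) * g a := by
  simpa using sum_pt_smul ha s g

namespace Setup

variable (hS : Setup z u) (hcen : ∀ g, Commute z g) (hM : IsPModular 3 M)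
include hS hcen hM

theorem central_six [NeZero r] (hr : r = 1 ∨ r = 2 ∨ r = 4) [DecidableEq (IrrCharacter G)] :
    Nonempty (Six (pB M G) (col u) (Char.principal G) (6 - r)) := by
  classical
  have hshape := hS.shape hM hr
  rw [pB_eq] at hshape
  refine hshape.resolve_right ?_
  rintro ⟨rfl, hle, h9⟩
  set N := (pB M G).filter fun χ => col u 0 χ ≠ 0 with hN
  have hx₀ : Char.principal G ∈ N := Finset.mem_filter.2
    ⟨mem_pB.2 principal_mem_principalBlock, by rw [hS.col_principal]; norm_num⟩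
  have hNT : typ M z 1 = N := by
    ext χ
    refine ⟨fun h => ?_, fun h => hS.typ_of_col hcen hM (Finset.mem_filter.1 h).1 (Finset.mem_filter.1 h).2⟩
    obtain ⟨i, hi⟩ := hS.col_of_typ hcen hM h
    exact Finset.mem_filter.2 ⟨(mem_typ.1 h).1, by rwa [Subsingleton.elim i 0] at hi⟩
  set W := N.erase (Char.principal G) with hW
  have hW8 : W.card = 8 := by rw [hW, Finset.card_erase_of_mem hx₀, h9]
  have hunit : ∀ χ ∈ N, col u 0 χ * col u 0 χ = 1 := fun χ hχ => by
    obtain ⟨h1, h2⟩ := Finset.mem_filter.1 hχ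
    have := mul_self_pos.2 h2
    have := hle χ h1
    omega
  let c : W → IrrCharacter G → ℤ := fun a =>
    pt (Char.principal G) 1 - pt a.1 (col u 0 a.1)
  have hWN : ∀ a : W, a.1 ∈ typ M z 1 ∧ a.1 ≠ Char.principal G := fun a =>
    ⟨hNT ▸ Finset.mem_of_mem_erase a.2, Finset.ne_of_mem_erase a.2⟩
  have hP1 : Char.principal G ∈ typ M z 1 := hS.principal_typ hcen hM
  have hc : ∀ a i, ip (typ M z 1) (col u i) (c a) = 0 := fun a i => by
    rw [Subsingleton.elim i 0, ip_sub, ip_pt hP1, ip_pt (hWN a).1, hS.col_principal,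
      hunit _ (Finset.mem_of_mem_erase a.2)]
    norm_num
  have hcc : ∀ a b, ip (typ M z 1) (c a) (c b) = if a = b then 2 else 1 := fun a b => by
    rw [ip_sub, ip_pt hP1, ip_pt (hWN b).1]
    simp only [c, Pi.sub_apply, pt_self, pt_ne (Ne.symm (hWN a).2), pt_ne (hWN b).2, sub_zero]
    by_cases e : a = b
    · subst e
      rw [pt_self, if_pos rfl, zero_sub, neg_mul, hunit _ (Finset.mem_of_mem_erase a.2)]
      norm_num
    · rw [pt_ne (fun h => e (Subtype.ext h.symm)), if_neg e]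
      norm_num
  set ω := Complex.exp (2 * Real.pi * Complex.I / (3 : ℕ))
  have hω : IsPrimitiveRoot ω 3 := Complex.isPrimitiveRoot_exp 3 (by norm_num)
  choose d hd1 hd2 using fun a => hS.coords hcen hM hω (c a) (hc a)
  have hdd : ∀ a b, ip (typ M z ω) (d a) (d b) = if a = b then 2 else 1 := fun a b =>
    (hS.coords_ip hcen hM hω (hc b) (hd2 a) (hd1 b)).trans (hcc a b)
  have hspan : (typ M z ω).card ≤ 8 := by
    have h := hS.card_typ_le hcen hM hω (ι := W)
      (fun a => fun s : {s : G // ¬ 3 ∣ orderOf s} => ((a.1 : IrrCharacter G) : G → ℂ) s) (fun a ha => ?_)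
    · rwa [Fintype.card_coe, hW8] at h
    rw [hNT] at ha
    by_cases e : a = Char.principal G
    · subst e
      have e1 : (fun s : {s : G // ¬ 3 ∣ orderOf s} => (Char.principal G : G → ℂ) s) =
          ∑ b : W, (-(col u 0 b.1 : ℂ)) • fun s : {s : G // ¬ 3 ∣ orderOf s} => (b.1 : G → ℂ) s := by
        funext s
        have h := hS.col_sum hM 0 s.1 s.2
        rw [pB_eq, ← Finset.sum_filter_of_ne (p := fun χ => col u 0 χ ≠ 0) (fun χ _ hne h0 => hne (by
          rw [h0, Int.cast_zero, zero_mul])), ← hN, ← Finset.add_sum_erase _ _ hx₀,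
          hS.col_principal, Int.cast_one, one_mul] at h
        simp only [Finset.sum_apply, Pi.smul_apply, smul_eq_mul, neg_mul]
        rw [Finset.sum_neg_distrib, eq_neg_iff_add_eq_zero,
          Finset.sum_coe_sort W fun χ => (col u 0 χ : ℂ) * (χ : G → ℂ) s, hW]
        exact h
      rw [e1]
      exact Submodule.sum_mem _ fun b _ => Submodule.smul_mem _ _ (Submodule.subset_span ⟨b, rfl⟩)
    · exact Submodule.subset_span ⟨⟨a, Finset.mem_erase.2 ⟨e, ha⟩⟩, rfl⟩
  let en := (W.equivFinOfCardEq hW8).symm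
  rcases star (S := typ M z ω) (fun k => d (en k)) 0 (fun k => by rw [hdd, if_pos rfl])
      (fun k l hkl => by rw [hdd, if_neg fun h => hkl (en.injective h)]) with
    ⟨x, hx, s, -, y, hy, hyp⟩ | ⟨h3, -⟩
  · have : (Finset.univ.image y).card ≤ ((typ M z ω).erase x).card := Finset.card_le_card
      fun a ha => by
        obtain ⟨k, -, rfl⟩ := Finset.mem_image.1 ha
        exact Finset.mem_erase.2 ⟨(hyp k).2.1, (hyp k).1⟩
    rw [Finset.card_image_of_injective _ hy, Finset.card_univ, Fintype.card_fin,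
      Finset.card_erase_of_mem hx] at this
    omega
  · omega

theorem exists_vectors [NeZero r] (hr : r = 1 ∨ r = 2 ∨ r = 4) :
    Nonempty (Vectors M z u (6 - r)) := by
  classical
  obtain ⟨T⟩ := hS.central_six hcen hM hr
  set q := 6 - r with hq
  have hqr : q + r = 6 := by omega
  have hT : typ M z 1 = T.set := by
    ext χ
    constructor
    · intro h
      obtain ⟨i, hi⟩ := hS.col_of_typ hcen hM h
      by_contra hn
      exact hi (T.n_eq_zero (mem_typ.1 h).1 hn i)
    · intro h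
      rcases Finset.mem_union.1 h with h' | h' <;> obtain ⟨t, -, rfl⟩ := Finset.mem_image.1 h'
      · exact hS.typ_of_col hcen hM (T.haS t) (i := 0) (by
          rw [T.na]; intro e; have := T.sq (T.a t); rw [e] at this; norm_num at this)
      · exact hS.typ_of_col hcen hM (T.hbS t) (i := t) (by
          rw [T.nb, if_pos rfl]; intro e; have := T.sq (T.b t)
          rcases mul_eq_zero.1 e with e | e
          · rw [e] at this; norm_num at this
          · norm_num at e)
  have ha1 : ∀ t, T.a t ∈ typ M z 1 := fun t => hT ▸ T.a_mem t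
  have hb1 : ∀ j, T.b j ∈ typ M z 1 := fun j => hT ▸ T.b_mem j
  set fA : Fin q → ({s : G // ¬ 3 ∣ orderOf s} → ℂ) :=
    fun t s => (T.ε (T.a t) : ℂ) * (T.a t : G → ℂ) s with hfA
  set fB : Fin r → ({s : G // ¬ 3 ∣ orderOf s} → ℂ) :=
    fun j s => (T.ε (T.b j) : ℂ) * (T.b j : G → ℂ) s with hfB
  have hrel : ∀ i, ∑ t, fA t + ((3 : ℂ) • fB i - ∑ j, fB j) = 0 := by
    intro i
    funext s
    have h := hS.col_sum hM i s.1 s.2
    rw [pB_eq, ← Finset.sum_subset T.subset (fun χ hχ hn => by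
      rw [T.n_eq_zero hχ hn i, Int.cast_zero, zero_mul]), T.sum_set] at h
    simp only [Pi.add_apply, Pi.sub_apply, Pi.smul_apply, Finset.sum_apply, smul_eq_mul,
      Pi.zero_apply, hfA, hfB]
    rw [← h]
    congr 1
    · exact Finset.sum_congr rfl fun t _ => by rw [T.na]
    · symm
      rw [Finset.sum_congr rfl (g := fun j => (if i = j then 3 * ((T.ε (T.b j) : ℂ) * (T.b j : G → ℂ) s) else 0) -
          (T.ε (T.b j) : ℂ) * (T.b j : G → ℂ) s) fun j _ => by
          rw [T.nb]; split_ifs <;> push_cast <;> ring,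
        Finset.sum_sub_distrib, Finset.sum_ite_eq, if_pos (Finset.mem_univ _)]
  set β := fB 0 with hβ
  have hB : ∀ j, fB j = β := by
    intro j
    have h := (hrel j).trans (hrel 0).symm
    rw [add_right_inj, sub_left_inj] at h
    exact smul_right_injective _ (by norm_num : (3 : ℂ) ≠ 0) h
  have hrel' : ∑ t, fA t + (3 - (r : ℂ)) • β = 0 := by
    have h := hrel 0
    rw [hB 0, Finset.sum_congr rfl fun j _ => hB j, Finset.sum_const, Finset.card_univ,
      Fintype.card_fin, ← Nat.cast_smul_eq_nsmul ℂ, ← sub_smul] at h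
    exact h
  have hr3 : (3 - (r : ℂ)) ≠ 0 := by
    rw [sub_ne_zero]
    intro h
    have : (3 : ℕ) = r := by exact_mod_cast h
    omega
  have hA0 : T.a T.t₀ = Char.principal G := T.ha₀
  have hεA0 : T.ε (T.a T.t₀) = 1 := by rw [hA0]; exact T.hε₀
  -- the small vectors trivial on the centre
  let c : Fin q → IrrCharacter G → ℤ := fun t =>
    pt (T.a T.t₀) 1 - pt (T.a t) (T.ε (T.a t))
  let e : IrrCharacter G → ℤ :=
    ∑ j, pt (T.b j) (T.ε (T.b j)) - pt (T.a T.t₀) (3 - (r : ℤ))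
  have hc : ∀ t i, ip (typ M z 1) (col u i) (c t) = 0 := fun t i => by
    rw [ip_sub, ip_pt (ha1 _), ip_pt (ha1 _), T.na, T.na, hεA0, T.sq]; norm_num
  have he : ∀ i, ip (typ M z 1) (col u i) e = 0 := fun i => by
    rw [ip_sub, ip_sum, Finset.sum_congr rfl fun j _ => by
      rw [ip_pt (hb1 j), T.nb, mul_right_comm, T.sq, one_mul], ip_pt (ha1 _), T.na, hεA0]
    rw [Finset.sum_congr rfl (g := fun j => (if i = j then (3 : ℤ) else 0) - 1) fun j _ => by
      split_ifs <;> norm_num, Finset.sum_sub_distrib, Finset.sum_ite_eq, if_pos (Finset.mem_univ _),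
      Finset.sum_const, Finset.card_univ, Fintype.card_fin, nsmul_eq_mul]
    ring
  have hcb : ∀ t j, c t (T.b j) = 0 := fun t j => by
    simp only [c, Pi.sub_apply, pt_ne (T.ne _ j).symm, sub_zero]
  have hca : ∀ s t, s ≠ T.t₀ → t ≠ T.t₀ →
      c s (T.a T.t₀) = 1 ∧ c s (T.a t) = if s = t then -T.ε (T.a s) else 0 := by
    intro s t hs ht
    refine ⟨?_, ?_⟩
    · simp only [c, Pi.sub_apply, pt_self, pt_ne (fun h => hs (T.inj_a h).symm), sub_zero]
    · simp only [c, Pi.sub_apply, pt_ne (fun h => ht (T.inj_a h)), zero_sub]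
      split_ifs with h
      · rw [h, pt_self]
      · rw [pt_ne fun h' => h (T.inj_a h').symm, neg_zero]
  have hcc : ∀ s t, s ≠ T.t₀ → t ≠ T.t₀ →
      ip (typ M z 1) (c s) (c t) = if s = t then 2 else 1 := by
    intro s t hs ht
    show ip (typ M z 1) (c s) (pt (T.a T.t₀) 1 - pt (T.a t) (T.ε (T.a t))) = _
    rw [ip_sub, ip_pt (ha1 _), ip_pt (ha1 _), (hca s t hs ht).1, (hca s t hs ht).2]
    split_ifs with h
    · rw [h, neg_mul, T.sq]; norm_num
    · norm_num
  have hce : ∀ t, t ≠ T.t₀ → ip (typ M z 1) (c t) e = (r : ℤ) - 3 := fun t ht => by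
    rw [ip_sub, ip_sum, Finset.sum_eq_zero fun j _ => by rw [ip_pt (hb1 j), hcb, zero_mul],
      ip_pt (ha1 _), (hca t t ht ht).1]
    ring
  have hee : ip (typ M z 1) e e = (r : ℤ) + (3 - (r : ℤ)) ^ 2 := by
    have he1 : ∀ j, e (T.b j) = T.ε (T.b j) := fun j => by
      simp only [e, Pi.sub_apply, Finset.sum_apply]
      rw [Finset.sum_eq_single j (fun k _ hk => pt_ne (fun h => hk (T.inj_b h).symm) _) (by simp),
        pt_self, pt_ne (T.ne _ j).symm, sub_zero]
    have he2 : e (T.a T.t₀) = (r : ℤ) - 3 := by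
      simp only [e, Pi.sub_apply, Finset.sum_apply]
      rw [Finset.sum_eq_zero fun j _ => pt_ne (T.ne _ j) _, pt_self]
      ring
    show ip (typ M z 1) e (∑ j, pt (T.b j) (T.ε (T.b j)) - pt (T.a T.t₀) (3 - (r : ℤ))) = _
    rw [ip_sub, ip_sum, Finset.sum_congr rfl fun j _ => by rw [ip_pt (hb1 j), he1, T.sq],
      ip_pt (ha1 _), he2, Finset.sum_const, Finset.card_univ, Fintype.card_fin, nsmul_eq_mul]
    ring
  -- the faithful characters of one kind
  have key : ∀ w : ℂ, IsPrimitiveRoot w 3 → ∃ χ : Fin q → IrrCharacter G, Function.Injective χ ∧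
      typ M z w = Finset.univ.image χ ∧ ∃ δ : Fin q → ℤ, (∀ t, δ t * δ t = 1) ∧
        ∀ t, ∀ s : {s : G // ¬ 3 ∣ orderOf s},
          (δ t : ℂ) * (χ t : G → ℂ) s = -(fA t s + β s) := by
    intro w hw
    choose d hd1 hd2 using fun t => hS.coords hcen hM hw (c t) (hc t)
    obtain ⟨d', hd1', hd2'⟩ := hS.coords hcen hM hw e he
    have hcard : (typ M z w).card ≤ q := by
      have h := hS.card_typ_le hcen hM hw fA (fun a ha => ?_)
      · rwa [Fintype.card_fin] at h
      have hmem : ∀ t, fA t ∈ Submodule.span ℂ (Set.range fA) := fun t =>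
        Submodule.subset_span ⟨t, rfl⟩
      rw [hT] at ha
      rcases Finset.mem_union.1 ha with h' | h' <;> obtain ⟨t, -, rfl⟩ := Finset.mem_image.1 h'
      · have e1 : (fun s : {s : G // ¬ 3 ∣ orderOf s} => (T.a t : G → ℂ) s) = (T.ε (T.a t) : ℂ) • fA t := by
          funext s
          simp only [hfA, Pi.smul_apply, smul_eq_mul]
          rw [← mul_assoc, ← Int.cast_mul, T.sq, Int.cast_one, one_mul]
        rw [e1]; exact Submodule.smul_mem _ _ (hmem t)
      · have e1 : (fun s : {s : G // ¬ 3 ∣ orderOf s} => (T.b t : G → ℂ) s) = (T.ε (T.b t) : ℂ) • fB t := by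
          funext s
          simp only [hfB, Pi.smul_apply, smul_eq_mul]
          rw [← mul_assoc, ← Int.cast_mul, T.sq, Int.cast_one, one_mul]
        have e2 : β = -((3 - (r : ℂ))⁻¹ • ∑ t, fA t) := by
          rw [eq_neg_of_add_eq_zero_left hrel', smul_neg, neg_neg, smul_smul, inv_mul_cancel₀ hr3,
            one_smul]
        rw [e1, hB, e2]
        exact Submodule.smul_mem _ _ (neg_mem (Submodule.smul_mem _ _
          (Submodule.sum_mem _ fun t _ => hmem t)))
    obtain ⟨χ, hinj, hmem, hE, δ, hδ, hval⟩ := embed hqr hr (typ M z w) hcard fA β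
      (fun θ => fun s : {s : G // ¬ 3 ∣ orderOf s} => (θ : G → ℂ) s) T.t₀ hrel' d d'
      (fun t ht => by
        funext s
        simp only [Pi.sub_apply, Finset.sum_apply, Pi.smul_apply, smul_eq_mul]
        rw [← hd1 t s.1 s.2]
        simp only [c, Pi.sub_apply, Int.cast_sub, sub_mul, Finset.sum_sub_distrib,
          sum_pt_mul (ha1 _), hfA, hεA0, Int.cast_one, one_mul])
      (by
        funext s
        simp only [Pi.sub_apply, Finset.sum_apply, Pi.smul_apply, smul_eq_mul]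
        rw [← hd1' s.1 s.2]
        simp only [e, Pi.sub_apply, Int.cast_sub, sub_mul, Finset.sum_sub_distrib, Finset.sum_apply,
          Int.cast_sum, Finset.sum_mul, sum_pt_mul (ha1 _)]
        rw [Finset.sum_comm]
        simp only [sum_pt_mul (hb1 _)]
        have hs : ∑ j, (T.ε (T.b j) : ℂ) * (T.b j : G → ℂ) s = (r : ℂ) * β s := by
          rw [Finset.sum_congr rfl fun j _ => show (T.ε (T.b j) : ℂ) * (T.b j : G → ℂ) s = β s from
            congrFun (hB j) s, Finset.sum_const, Finset.card_univ, Fintype.card_fin, nsmul_eq_mul]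
        rw [hs]
        simp only [hfA, hεA0, Int.cast_one, one_mul]
        push_cast
        ring)
      (fun s t hs ht => (hS.coords_ip hcen hM hw (hc t) (hd2 s) (hd1 t)).trans (hcc s t hs ht))
      (fun t ht => (hS.coords_ip hcen hM hw he (hd2 t) hd1').trans (hce t ht))
      ((hS.coords_ip hcen hM hw he hd2' hd1').trans hee)
    refine ⟨χ, hinj, (Finset.eq_of_subset_of_card_le (fun x hx => ?_) ?_).symm, δ, hδ, fun t s => ?_⟩
    · obtain ⟨t, -, rfl⟩ := Finset.mem_image.1 hx; exact hmem t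
    · rw [Finset.card_image_of_injective _ hinj, Finset.card_univ, Fintype.card_fin, hE]
    · have := congrFun (hval t) s
      simpa [mul_comm] using this
  set ω := Complex.exp (2 * Real.pi * Complex.I / (3 : ℕ))
  have hω : IsPrimitiveRoot ω 3 := Complex.isPrimitiveRoot_exp 3 (by norm_num)
  have hω' : IsPrimitiveRoot (ω ^ 2) 3 := hω.pow_of_coprime 2 (by norm_num)
  have hω1 : ω ≠ 1 := hω.ne_one (by norm_num)
  have hω21 : ω ^ 2 ≠ 1 := hω'.ne_one (by norm_num)
  have hω2ω : ω ^ 2 ≠ ω := fun h => hω1 (mul_right_cancel₀ (hω.ne_zero (by norm_num))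
    (by linear_combination h))
  obtain ⟨χ, hχinj, hχ, δ, hδ, hval⟩ := key ω hω
  obtain ⟨χ', hχinj', hχ', δ', hδ', hval'⟩ := key (ω ^ 2) hω'
  have hmem : ∀ t, χ t ∈ typ M z ω := fun t => hχ ▸ Finset.mem_image_of_mem _ (Finset.mem_univ _)
  have hmem' : ∀ t, χ' t ∈ typ M z (ω ^ 2) := fun t => hχ' ▸ Finset.mem_image_of_mem _ (Finset.mem_univ _)
  have hdisj : ∀ {w w' : ℂ} {θ θ' : IrrCharacter G}, w ≠ w' → θ ∈ typ M z w → θ' ∈ typ M z w' →
      θ ≠ θ' := fun hne h h' e => hne (mul_right_cancel₀ (irr_one_ne_zero _)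
        ((mem_typ.1 h).2.symm.trans (e ▸ (mem_typ.1 h').2)))
  have hne1 : ∀ t s, χ t ≠ χ' s := fun t s => hdisj hω2ω.symm (hmem t) (hmem' s)
  have hne2 : ∀ t {θ : IrrCharacter G}, θ ∈ typ M z 1 → χ t ≠ θ := fun t θ h => hdisj hω1 (hmem t) h
  have hne3 : ∀ t {θ : IrrCharacter G}, θ ∈ typ M z 1 → χ' t ≠ θ := fun t θ h =>
    hdisj hω21 (hmem' t) h
  have hS' : ∀ t, χ t ∈ pB M G ∧ χ' t ∈ pB M G := fun t =>
    ⟨(mem_typ.1 (hmem t)).1, (mem_typ.1 (hmem' t)).1⟩
  have hcol : ∀ t i, col u i (χ t) = 0 ∧ col u i (χ' t) = 0 := fun t i =>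
    ⟨hS.col_zero hcen hω1 (hmem t) i, hS.col_zero hcen hω21 (hmem' t) i⟩
  let V : Fin q → IrrCharacter G → ℤ := fun t => pt (χ t) (δ t) - pt (χ' t) (δ' t)
  let W : Fin q → Fin r → IrrCharacter G → ℤ := fun t i =>
    pt (χ t) (δ t) + pt (T.a t) (T.ε (T.a t)) + pt (T.b i) (T.ε (T.b i))
  have hVχ : ∀ s t, V s (χ t) = if s = t then δ t else 0 := fun s t => by
    simp only [V, Pi.sub_apply, pt_ne (hne1 t s), sub_zero]
    split_ifs with h
    · rw [h, pt_self]
    · rw [pt_ne fun h' => h (hχinj h').symm]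
  have hVχ' : ∀ s t, V s (χ' t) = if s = t then -δ' t else 0 := fun s t => by
    simp only [V, Pi.sub_apply, pt_ne (hne1 s t).symm, zero_sub]
    split_ifs with h
    · rw [h, pt_self]
    · rw [pt_ne fun h' => h (hχinj' h').symm, neg_zero]
  have hVT : ∀ t {θ : IrrCharacter G}, θ ∈ typ M z 1 → V t θ = 0 := fun t θ h => by
    simp only [V, Pi.sub_apply, pt_ne (hne2 t h).symm, pt_ne (hne3 t h).symm, sub_zero]
  have hWχ : ∀ s i t, W s i (χ t) = if s = t then δ t else 0 := fun s i t => by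
    simp only [W, Pi.add_apply, pt_ne (hne2 t (ha1 s)), pt_ne (hne2 t (hb1 i)), add_zero]
    split_ifs with h
    · rw [h, pt_self]
    · rw [pt_ne fun h' => h (hχinj h').symm]
  have hWχ' : ∀ s i t, W s i (χ' t) = 0 := fun s i t => by
    simp only [W, Pi.add_apply, pt_ne (hne1 s t).symm, pt_ne (hne3 t (ha1 s)),
      pt_ne (hne3 t (hb1 i)), add_zero]
  have hWa : ∀ s i t, W s i (T.a t) = if s = t then T.ε (T.a t) else 0 := fun s i t => by
    simp only [W, Pi.add_apply, pt_ne (hne2 s (ha1 t)).symm, pt_ne (T.ne t i), add_zero, zero_add]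
    split_ifs with h
    · rw [h, pt_self]
    · rw [pt_ne fun h' => h (T.inj_a h').symm]
  have hWb : ∀ s i, W s i (T.b i) = T.ε (T.b i) := fun s i => by
    simp only [W, Pi.add_apply, pt_ne (hne2 s (hb1 i)).symm, pt_ne (T.ne s i).symm, pt_self,
      zero_add]
  have hwsum : ∀ t i (f : IrrCharacter G → ℂ), ∑ θ ∈ pB M G, (W t i θ : ℂ) * f θ =
      (δ t : ℂ) * f (χ t) + (T.ε (T.a t) : ℂ) * f (T.a t) + (T.ε (T.b i) : ℂ) * f (T.b i) :=
    fun t i f => by
      simp only [W, Pi.add_apply, Int.cast_add, add_mul, Finset.sum_add_distrib,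
        sum_pt_mul (hS' t).1, sum_pt_mul (T.haS t), sum_pt_mul (T.hbS i)]
  have hvsum : ∀ t (f : IrrCharacter G → ℂ), ∑ θ ∈ pB M G, (V t θ : ℂ) * f θ =
      (δ t : ℂ) * f (χ t) - (δ' t : ℂ) * f (χ' t) := fun t f => by
    simp only [V, Pi.sub_apply, Int.cast_sub, sub_mul, Finset.sum_sub_distrib,
      sum_pt_mul (hS' t).1, sum_pt_mul (hS' t).2]
  refine ⟨{
    v := V
    w := W
    s₀ := T.t₀
    vsupp := fun t θ h => by
      simp only [V, Pi.sub_apply]
      rw [pt_ne fun e => h (by rw [e]; exact (hS' t).1), pt_ne fun e => h (by rw [e]; exact (hS' t).2),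
        sub_zero]
    wsupp := fun t i θ h => by
      simp only [W, Pi.add_apply]
      rw [pt_ne fun e => h (by rw [e]; exact (hS' t).1), pt_ne fun e => h (by rw [e]; exact T.haS t),
        pt_ne fun e => h (by rw [e]; exact T.hbS i), add_zero, add_zero]
    vreg := fun t g hg => by
      rw [hvsum t fun θ => (θ : G → ℂ) g, hval t ⟨g, hg⟩, hval' t ⟨g, hg⟩, sub_self]
    wreg := fun t i g hg => by
      rw [hwsum t i fun θ => (θ : G → ℂ) g, hval t ⟨g, hg⟩,
        show (T.ε (T.b i) : ℂ) * (T.b i : G → ℂ) g = β ⟨g, hg⟩ from congrFun (hB i) ⟨g, hg⟩]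
      simp only [hfA]
      ring
    vv := fun s t => by
      show ip _ (V s) (pt (χ t) (δ t) - pt (χ' t) (δ' t)) = _
      rw [ip_sub, ip_pt (hS' t).1, ip_pt (hS' t).2, hVχ, hVχ']
      split_ifs with h
      · rw [hδ, neg_mul, hδ']; norm_num
      · norm_num
    wv := fun i s t => by
      show ip _ (W s i) (pt (χ t) (δ t) - pt (χ' t) (δ' t)) = _
      rw [ip_sub, ip_pt (hS' t).1, ip_pt (hS' t).2, hWχ, hWχ']
      split_ifs with h
      · rw [hδ]; norm_num
      · norm_num
    nv := fun i t => by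
      rw [ip_sub, ip_pt (hS' t).1, ip_pt (hS' t).2, (hcol t i).1, (hcol t i).2]; norm_num
    nw := fun j s i => by
      rw [ip_add, ip_add, ip_pt (hS' s).1, ip_pt (T.haS s), ip_pt (T.hbS i), (hcol s j).1, T.na,
        T.nb, T.sq, mul_right_comm, T.sq]
      split_ifs <;> norm_num
    ww := fun i s t => by
      show ip _ (W s i) (pt (χ t) (δ t) + pt (T.a t) (T.ε (T.a t)) + pt (T.b i) (T.ε (T.b i))) = _
      rw [ip_add, ip_add, ip_pt (hS' t).1, ip_pt (T.haS t), ip_pt (T.hbS i), hWχ, hWa, hWb, T.sq]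
      split_ifs with h
      · rw [hδ, T.sq]; norm_num
      · norm_num
    v0 := fun t => (congrArg (V t) hA0).symm.trans (hVT t (ha1 T.t₀))
    w0 := fun s i => by
      rw [show W s i (Char.principal G) = W s i (T.a T.t₀) from (congrArg (W s i) hA0).symm,
        hWa s i T.t₀, hεA0]
    wshift := fun t i j θ hθ => by
      simp only [W, Pi.add_apply, add_sub_add_left_eq_sub]
      by_cases hθT : θ ∈ T.set
      · rcases Finset.mem_union.1 hθT with h' | h' <;> obtain ⟨k, -, rfl⟩ := Finset.mem_image.1 h'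
        · rw [pt_ne (T.ne k i), pt_ne (T.ne k j), T.na, T.na]; ring
        · rw [T.nb, T.nb]
          by_cases e1 : k = i <;> by_cases e2 : k = j
          · subst e1; subst e2; ring
          · subst e1
            rw [pt_self, pt_ne (fun h => e2 (T.inj_b h)), if_pos rfl, if_neg (Ne.symm e2)]; ring
          · subst e2
            rw [pt_self, pt_ne (fun h => e1 (T.inj_b h)), if_pos rfl, if_neg (Ne.symm e1)]; ring
          · rw [pt_ne (fun h => e1 (T.inj_b h)), pt_ne (fun h => e2 (T.inj_b h)),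
              if_neg (Ne.symm e1), if_neg (Ne.symm e2)]
            ring
      · rw [pt_ne (fun h => hθT (by rw [h]; exact T.b_mem i)), pt_ne (fun h => hθT (by rw [h]; exact T.b_mem j)),
          T.n_eq_zero hθ hθT i, T.n_eq_zero hθ hθT j]
        ring
    kill := ?_ }⟩
  intro k hk1 hk2 hk3 s hs
  set Γ : Fin q → ℂ := fun t => (δ t : ℂ) * k (χ t) with hΓ
  have hΓ' : ∀ t, (δ' t : ℂ) * k (χ' t) = Γ t := fun t => by
    have h := hk2 t
    rw [Finset.sum_congr rfl fun θ _ => mul_comm _ _, hvsum t k, sub_eq_zero] at h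
    exact h.symm
  set γA : Fin q → ℂ := fun t => (T.ε (T.a t) : ℂ) * k (T.a t) with hγA
  set γB : Fin r → ℂ := fun j => (T.ε (T.b j) : ℂ) * k (T.b j) with hγB
  have hw3 : ∀ t i, Γ t + γA t + γB i = 0 := fun t i => by
    have h := hk3 t i
    rw [Finset.sum_congr rfl fun θ _ => mul_comm _ _, hwsum t i k] at h
    exact h
  have hγ : ∀ j, γB j = γB 0 := fun j => by
    have h1 := hw3 T.t₀ j; have h2 := hw3 T.t₀ 0
    linear_combination h1 - h2
  have hΓeq : ∀ t, Γ t = -(γA t + γB 0) := fun t => by linear_combination hw3 t 0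
  have hsumA : ∑ t, γA t + (3 - (r : ℂ)) * γB 0 = 0 := by
    have h := hk1 0
    rw [← Finset.sum_subset T.subset (fun θ hθ hn => by
      rw [T.n_eq_zero hθ hn 0, Int.cast_zero, mul_zero]), T.sum_set] at h
    rw [Finset.sum_congr rfl (g := γA) fun t _ => by simp only [hγA]; rw [T.na]; ring,
      Finset.sum_congr rfl (g := fun j => (if 0 = j then 3 * γB j else 0) - γB j) fun j _ => by
        simp only [hγB]; rw [T.nb]; split_ifs <;> push_cast <;> ring,
      Finset.sum_sub_distrib, Finset.sum_ite_eq, if_pos (Finset.mem_univ _),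
      Finset.sum_congr rfl fun j _ => hγ j, Finset.sum_const, Finset.card_univ, Fintype.card_fin,
      nsmul_eq_mul] at h
    linear_combination h
  set s' : {s : G // ¬ 3 ∣ orderOf s} := ⟨s, hs⟩
  have hsum0 : ∀ w : ℂ, w ^ 3 = 1 → w ≠ 1 →
      ∀ f : IrrCharacter G → ℂ, (∀ θ ∈ typ M z 1, f θ = (θ : G → ℂ) s) →
      (∀ t, f (χ t) = w * (χ t : G → ℂ) s) → (∀ t, f (χ' t) = w ^ 2 * (χ' t : G → ℂ) s) →
      ∑ θ ∈ pB M G, k θ * f θ = 0 := by
    intro w hw hw1 f hf1 hf2 hf3
    have hpart : pB M G = typ M z 1 ∪ (Finset.univ.image χ ∪ Finset.univ.image χ') := by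
      ext θ
      rw [← hχ, ← hχ']
      simp only [Finset.mem_union, mem_typ]
      refine ⟨fun h => ?_, fun h => by tauto⟩
      obtain ⟨v, hv3, hv⟩ := hS.z_scalar hcen θ
      have h1 := hv 1
      rw [mul_one] at h1
      obtain ⟨i, hi, rfl⟩ := hω.eq_pow_of_pow_eq_one hv3
      interval_cases i
      · exact Or.inl ⟨h, by simpa using h1⟩
      · exact Or.inr (Or.inl ⟨h, by simpa using h1⟩)
      · exact Or.inr (Or.inr ⟨h, h1⟩)
    rw [hpart, Finset.sum_union, Finset.sum_union, Finset.sum_image fun a _ b _ h => hχinj h,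
      Finset.sum_image fun a _ b _ h => hχinj' h, hT, T.sum_set]
    rotate_left
    · rw [Finset.disjoint_left]
      intro θ h h'
      obtain ⟨t, -, rfl⟩ := Finset.mem_image.1 h
      obtain ⟨t', -, e'⟩ := Finset.mem_image.1 h'
      exact hne1 t t' e'.symm
    · rw [Finset.disjoint_left]
      intro θ h h'
      rcases Finset.mem_union.1 h' with h' | h' <;> obtain ⟨t, -, e'⟩ := Finset.mem_image.1 h'
      · exact hne2 t h e'
      · exact hne3 t h e'
    have hA : ∀ t, k (T.a t) * f (T.a t) = γA t * fA t s' := fun t => by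
      rw [hf1 _ (ha1 t)]
      simp only [hγA, hfA]
      have := congrArg (fun n : ℤ => (n : ℂ)) (T.sq (T.a t))
      push_cast at this
      linear_combination -(k (T.a t) * (T.a t : G → ℂ) s) * this
    have hB' : ∀ j, k (T.b j) * f (T.b j) = γB 0 * β s' := fun j => by
      rw [hf1 _ (hb1 j), ← hγ j, ← congrFun (hB j) s']
      simp only [hγB, hfB]
      have := congrArg (fun n : ℤ => (n : ℂ)) (T.sq (T.b j))
      push_cast at this
      linear_combination -(k (T.b j) * (T.b j : G → ℂ) s) * this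
    have hX : ∀ t, k (χ t) * f (χ t) = w * (Γ t * -(fA t s' + β s')) := fun t => by
      rw [hf2, ← hval t s']
      simp only [hΓ]
      have := congrArg (fun n : ℤ => (n : ℂ)) (hδ t)
      push_cast at this
      linear_combination -(k (χ t) * w * (χ t : G → ℂ) s) * this
    have hX' : ∀ t, k (χ' t) * f (χ' t) = w ^ 2 * (Γ t * -(fA t s' + β s')) := fun t => by
      rw [hf3, ← hval' t s', ← hΓ' t]
      have := congrArg (fun n : ℤ => (n : ℂ)) (hδ' t)
      push_cast at this
      linear_combination -(k (χ' t) * w ^ 2 * (χ' t : G → ℂ) s) * this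
    have hw' : w + w ^ 2 = -1 := by
      have h0 : (w - 1) * (w ^ 2 + w + 1) = 0 := by linear_combination hw
      linear_combination (mul_eq_zero.1 h0).resolve_left (sub_ne_zero.2 hw1)
    rw [Finset.sum_congr rfl fun t _ => hA t, Finset.sum_congr rfl fun j _ => hB' j,
      Finset.sum_congr rfl fun t _ => hX t, Finset.sum_congr rfl fun t _ => hX' t,
      ← Finset.mul_sum (Finset.univ : Finset (Fin q)) (fun t => Γ t * -(fA t s' + β s')) w,
      ← Finset.mul_sum (Finset.univ : Finset (Fin q)) (fun t => Γ t * -(fA t s' + β s')) (w ^ 2),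
      ← add_mul, hw', Finset.sum_const, Finset.card_univ, Fintype.card_fin, nsmul_eq_mul]
    have hG : ∑ t, Γ t * -(fA t s' + β s') =
        ∑ t, γA t * fA t s' + (∑ t, γA t) * β s' + γB 0 * (∑ t, fA t s') + (q : ℂ) * (γB 0 * β s') := by
      rw [Finset.sum_congr rfl (g := fun t => γA t * fA t s' + γA t * β s' + γB 0 * fA t s' +
        γB 0 * β s') fun t _ => by rw [hΓeq t]; ring]
      simp only [Finset.sum_add_distrib, Finset.sum_mul, Finset.mul_sum, Finset.sum_const,
        Finset.card_univ, Fintype.card_fin, nsmul_eq_mul]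
    have hrelp := congrFun hrel' s'
    simp only [Pi.add_apply, Finset.sum_apply, Pi.smul_apply, smul_eq_mul, Pi.zero_apply] at hrelp
    have hqC : (q : ℂ) + r = 6 := by exact_mod_cast hqr
    rw [hG]
    linear_combination -(γB 0) * hrelp - β s' * hsumA - (γB 0 * β s') * hqC + (2 * (r : ℂ) * (γB 0 * β s')) * (sub_self (1 : ℂ))
  constructor
  · refine hsum0 ω hω.pow_eq_one hω1 (fun θ => (θ : G → ℂ) (z * s)) (fun θ hθ => ?_) (fun t => ?_)
      (fun t => ?_)
    · show (θ : G → ℂ) (z * s) = _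
      rw [hS.typ_mul hcen hθ, one_mul]
    · exact hS.typ_mul hcen (hmem t) s
    · exact hS.typ_mul hcen (hmem' t) s
  · refine hsum0 (ω ^ 2) hω'.pow_eq_one hω21 (fun θ => (θ : G → ℂ) (z⁻¹ * s)) (fun θ hθ => ?_)
      (fun t => ?_) (fun t => ?_)
    · show (θ : G → ℂ) (z⁻¹ * s) = _
      rw [hS.typ_mul_inv hcen (one_pow 3) hθ, one_pow, one_mul]
    · exact hS.typ_mul_inv hcen hω.pow_eq_one (hmem t) s
    · exact hS.typ_mul_inv hcen hω'.pow_eq_one (hmem' t) s

end Setup

end Cfsg.Agent.ExtraThree
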